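import Groth.Agent.Proj16.RelMap
import Groth.Agent.Proj16.ConeData
import Groth.Agent.ConeX.Pointed
import Groth.Prelude.Def_RelProj4

/-!
# The partially defined morphism of relative `Proj`s induced by a graded homomorphism
-/

universe u

open CategoryTheory CategoryTheory.Limits AlgebraicGeometry TopologicalSpace Opposite HomogeneousLocalization
open scoped HomogeneousIdeal

set_option backward.isDefEq.respectTransparency false
set_option backward.isDefEq.respectTransparency.types false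

noncomputable section

namespace Groth.Agent.Proj16

section ring

variable {A B σ τ : Type u} [CommRing A] [CommRing B] [SetLike σ A] [AddSubgroupClass σ A]
  [SetLike τ B] [AddSubgroupClass τ B] {𝒜 : ℕ → σ} [GradedRing 𝒜] {ℬ : ℕ → τ} [GradedRing ℬ]
  (φ : 𝒜 →+*ᵍ ℬ)

lemma exists_homogeneous_notMem' {I : Ideal A} (h : ¬ (HomogeneousIdeal.irrelevant 𝒜).toIdeal ≤ I) :
    ∃ (d : ℕ) (f : A), 0 < d ∧ f ∈ 𝒜 d ∧ f ∉ I := by
  by_contra! H
  refine h ?_
  rw [HomogeneousIdeal.irrelevant_eq_span, Ideal.span_le]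
  simp only [Set.iUnion_subset_iff]
  exact fun i hi a ha ↦ H i a hi ha

lemma exists_homogeneous_of_mem_domOpen {z : Proj ℬ} (hz : z ∈ RelCone.domOpen φ) :
    ∃ (d : ℕ) (f : A), 0 < d ∧ f ∈ 𝒜 d ∧ φ f ∉ z.asHomogeneousIdeal := by
  obtain ⟨f, hf, hfz⟩ := (RelCone.mem_domOpen φ z).mp hz
  obtain ⟨d, g, hd, hg, hgz⟩ := exists_homogeneous_notMem' (𝒜 := 𝒜)
    (I := z.asHomogeneousIdeal.toIdeal.comap φ) (fun h ↦ hfz (h hf))
  exact ⟨d, g, hd, hg, hgz⟩

lemma basicOpen_le_domOpen {d : ℕ} (hd : 0 < d) {f : A} (hf : f ∈ 𝒜 d) :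
    Proj.basicOpen ℬ (φ f) ≤ RelCone.domOpen φ := fun z hz ↦
  (RelCone.mem_domOpen φ z).mpr ⟨f, HomogeneousIdeal.mem_irrelevant_of_mem 𝒜 hd hf, hz⟩

lemma domOpen_eq_top_of_ge (n₀ : ℕ) (h : ∀ k, n₀ ≤ k → ∀ b ∈ ℬ k, ∃ a ∈ 𝒜 k, φ a = b) :
    RelCone.domOpen φ = ⊤ := by
  refine top_le_iff.mp fun z _ ↦ ?_
  obtain ⟨d, b, hd, hb, hbz⟩ := exists_homogeneous_notMem' (𝒜 := ℬ) (I := z.asHomogeneousIdeal.toIdeal)
    z.not_irrelevant_le
  obtain ⟨a, ha, hab⟩ := h ((n₀ + 1) • d) (by simp only [smul_eq_mul]; nlinarith) _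
    (SetLike.pow_mem_graded (n₀ + 1) hb)
  exact basicOpen_le_domOpen φ (by simp only [smul_eq_mul]; positivity) ha
    fun hm ↦ hbz (z.isPrime.mem_of_pow_mem (n₀ + 1) (hab ▸ hm))

lemma awayMap_surjective_of_ge {d : ℕ} (hd : 0 < d) {s : A} (hs : s ∈ 𝒜 d) (n₀ : ℕ)
    (h : ∀ k, n₀ ≤ k → ∀ b ∈ ℬ k, ∃ a ∈ 𝒜 k, φ a = b) : Function.Surjective (Away.map φ s) := by
  intro x
  obtain ⟨n, b, hb, rfl⟩ := x.mk_surjective ℬ (φ.2 hs)
  obtain ⟨a, ha, hab⟩ := h ((n + n₀) • d) (by simp only [smul_eq_mul]; nlinarith) (φ s ^ n₀ * b) (by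
    rw [add_smul, add_comm]; exact SetLike.mul_mem_graded (SetLike.pow_mem_graded n₀ (φ.2 hs)) hb)
  refine ⟨Away.mk 𝒜 hs (n + n₀) a ha, ?_⟩
  rw [Away.map_mk]
  apply HomogeneousLocalization.val_injective
  simp only [Away.val_mk, Localization.mk_eq_mk_iff, Localization.r_iff_exists]
  exact ⟨1, by simp [hab, pow_add]; ring⟩

lemma awayMap_injective_of_ge {d : ℕ} (hd : 0 < d) {s : A} (hs : s ∈ 𝒜 d) (n₀ : ℕ)
    (h : ∀ k, n₀ ≤ k → ∀ a ∈ 𝒜 k, φ a = 0 → a = 0) : Function.Injective (Away.map φ s) := by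
  rw [injective_iff_map_eq_zero]
  intro x hx
  obtain ⟨n, a, ha, rfl⟩ := x.mk_surjective 𝒜 hs
  rw [Away.map_mk, ← (HomogeneousLocalization.val_injective _).eq_iff,
    Away.val_mk, HomogeneousLocalization.val_zero, Localization.mk_eq_mk'] at hx
  obtain ⟨⟨_, m, rfl⟩, hm⟩ := (IsLocalization.mk'_eq_zero_iff _ _).mp hx
  change φ s ^ m * φ a = 0 at hm
  apply HomogeneousLocalization.val_injective
  rw [Away.val_mk, HomogeneousLocalization.val_zero, Localization.mk_eq_mk']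
  refine (IsLocalization.mk'_eq_zero_iff _ _).mpr ⟨⟨s ^ (m + n₀), _, rfl⟩, ?_⟩
  have hmem : s ^ (m + n₀) * a ∈ 𝒜 ((m + n₀) • d + n • d) :=
    SetLike.mul_mem_graded (SetLike.pow_mem_graded _ hs) ha
  have hpos : n₀ ≤ (m + n₀) • d + n • d := by
    have : n₀ ≤ (m + n₀) * d := by nlinarith
    simp only [smul_eq_mul]; omega
  refine h _ hpos _ hmem ?_
  rw [map_mul, map_pow, pow_add, mul_comm (φ s ^ m), mul_assoc, hm, mul_zero]

end ring

variable {Y : Scheme.{u}} {P : Scheme.{u}} {𝒮 : RelProj.QCGrAlg Y} {p : P ⟶ Y}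
  {chart : ∀ (U : Y.Opens) (hU : IsAffineOpen U),
    (((p ⁻¹ᵁ U : P.Opens) : Scheme.{u}) ≅ Proj (𝒮.deg U hU))}

lemma opensRange_emb (U : Y.Opens) (hU : IsAffineOpen U) :
    (RelProj.emb p chart U hU).opensRange = p ⁻¹ᵁ U := by
  show ((chart U hU).inv ≫ (p ⁻¹ᵁ U).ι).opensRange = _
  rw [Scheme.Hom.opensRange_comp_of_isIso, Scheme.Opens.opensRange_ι]

lemma map_res_emb_of_exists (hP : RelProj.IsRelProj 𝒮 p chart) {U W : Y.Opens} (hU : IsAffineOpen U)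
    (hW : IsAffineOpen W) (i : W ≤ U) (h : ∃ r : Γ(Y, U), Y.basicOpen r = W) :
    Proj.map (𝒮.res hU hW i) (irrelevant_le_res 𝒮 hU hW i h) ≫ RelProj.emb p chart U hU =
      RelProj.emb p chart W hW := by
  obtain ⟨r, rfl⟩ := h
  exact RelProj.map_res_emb hP U hU r

variable {𝒜 ℬ : RelProj.QCGrAlg Y} (φ : 𝒜.toQCAlg ⟶ ℬ.toQCAlg) (hφ : RelProj.IsGradedHom φ)
variable {PA PB : Scheme.{u}} {pA : PA ⟶ Y} {pB : PB ⟶ Y}
  {chartA : ∀ (U : Y.Opens) (hU : IsAffineOpen U),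
    (((pA ⁻¹ᵁ U : PA.Opens) : Scheme.{u}) ≅ Proj (𝒜.deg U hU))}
  {chartB : ∀ (U : Y.Opens) (hU : IsAffineOpen U),
    (((pB ⁻¹ᵁ U : PB.Opens) : Scheme.{u}) ≅ Proj (ℬ.deg U hU))}

lemma gradedAt_self (U : Y.Opens) (hU : IsAffineOpen U) :
    (RelProj.QGrHom.ofHom φ hφ).gradedAt U hU U hU le_rfl = RelProj.gradedHomAt φ hφ U hU := by
  ext a
  show (φ.hom.app (op U) ≫ ℬ.presheaf.map (homOfLE (le_refl U)).op).hom a = (φ.hom.app (op U)).hom a
  rw [Subsingleton.elim (homOfLE (le_refl U)) (𝟙 U), op_id, ℬ.presheaf.map_id, Category.comp_id]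

variable (hB : RelProj.IsRelProj ℬ pB chartB)
include hB

lemma emb_mem_domQ_iff (U : Y.Opens) (hU : IsAffineOpen U) (z : Proj (ℬ.deg U hU)) :
    RelProj.emb pB chartB U hU z ∈ RelProj.domQ (RelProj.QGrHom.ofHom φ hφ) pB chartB ↔
      z ∈ RelCone.domOpen (RelProj.gradedHomAt φ hφ U hU) := by
  constructor
  · intro h
    obtain ⟨⟨⟨⟨V, hV⟩, ⟨V', hV'⟩⟩, hle⟩, y, hy, e⟩ := Opens.mem_iSup.mp h
    have hxU : pB (RelProj.emb pB chartB U hU z) ∈ U := (opensRange_emb (p := pB) (chart := chartB) U hU).le ⟨z, rfl⟩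
    have hxV : pB (RelProj.emb pB chartB U hU z) ∈ V' := (opensRange_emb (p := pB) (chart := chartB) V' hV').le ⟨y, e⟩
    obtain ⟨r, s, hrs, hxr⟩ := exists_basicOpen_le_affine_inter hU hV' _ ⟨hxU, hxV⟩
    have hW : IsAffineOpen (Y.basicOpen r) := hU.basicOpen r
    obtain ⟨w, hw⟩ := (opensRange_emb (p := pB) (chart := chartB) _ hW).ge hxr
    have iU : Y.basicOpen r ≤ U := Y.basicOpen_le r
    have iV' : Y.basicOpen r ≤ V' := hrs.le.trans (Y.basicOpen_le s)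
    have iV : Y.basicOpen r ≤ V := iV'.trans hle
    have eU : Proj.map (ℬ.res hU hW iU) (irrelevant_le_res ℬ hU hW iU ⟨r, rfl⟩) w = z := by
      apply (RelProj.emb pB chartB U hU).isOpenEmbedding.injective
      rw [← Scheme.Hom.comp_apply, map_res_emb_of_exists hB hU hW iU ⟨r, rfl⟩, hw]
    have eV : Proj.map (ℬ.res hV' hW iV') (irrelevant_le_res ℬ hV' hW iV' ⟨s, hrs.symm⟩) w = y := by
      apply (RelProj.emb pB chartB V' hV').isOpenEmbedding.injective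
      rw [← Scheme.Hom.comp_apply, map_res_emb_of_exists hB hV' hW iV' ⟨s, hrs.symm⟩, hw]
      exact e.symm
    by_contra hne
    rw [RelCone.mem_domOpen] at hne
    push Not at hne
    obtain ⟨f, hf, hfy⟩ := (RelCone.mem_domOpen _ _).mp hy
    refine hfy ?_
    rw [← eV]
    show ((ℬ.res hV' hW iV') ((RelProj.QGrHom.ofHom φ hφ).gradedAt V hV V' hV' hle f)) ∈
      w.asHomogeneousIdeal.toIdeal
    have e1 : (ℬ.res hV' hW iV') ((RelProj.QGrHom.ofHom φ hφ).gradedAt V hV V' hV' hle f) =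
        RelProj.gradedHomAt φ hφ _ hW (𝒜.res hV hW iV f) := by
      refine Eq.trans ?_ (ConcreteCategory.congr_hom (φ.hom.naturality (homOfLE iV).op).symm f)
      exact (ConcreteCategory.congr_hom (ℬ.presheaf.map_comp (homOfLE hle).op (homOfLE iV').op)
        ((φ.hom.app (op V)).hom f)).symm
    rw [e1]
    have hmem : 𝒜.res hV hW iV f ∈ ((𝒜.deg _ hW)₊).toIdeal := ConeX.map_mem_irrelevant _ hf
    refine (show ((𝒜.deg _ hW)₊).toIdeal ≤
        w.asHomogeneousIdeal.toIdeal.comap (RelProj.gradedHomAt φ hφ _ hW) from ?_) hmem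
    refine le_trans (show ((𝒜.deg _ hW)₊).toIdeal ≤ _ from irrelevant_le_res 𝒜 hU hW iU ⟨r, rfl⟩)
      (Ideal.map_le_iff_le_comap.mpr fun a ha ↦ ?_)
    have h2 : RelProj.gradedHomAt φ hφ U hU a ∈ z.asHomogeneousIdeal := hne a ha
    rw [← eU] at h2
    show RelProj.gradedHomAt φ hφ _ hW (𝒜.res hU hW iU a) ∈ w.asHomogeneousIdeal.toIdeal
    have e2 : ℬ.res hU hW iU (RelProj.gradedHomAt φ hφ U hU a) =
        RelProj.gradedHomAt φ hφ _ hW (𝒜.res hU hW iU a) :=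
      ConcreteCategory.congr_hom (φ.hom.naturality (homOfLE iU).op).symm a
    rw [← e2]
    exact h2
  · intro h
    refine Opens.mem_iSup.mpr ⟨⟨(⟨U, hU⟩, ⟨U, hU⟩), le_rfl⟩, z, ?_, rfl⟩
    show z ∈ RelCone.domOpen ((RelProj.QGrHom.ofHom φ hφ).gradedAt U hU U hU le_rfl)
    rwa [gradedAt_self]

lemma domQ_inf_preimage (U : Y.Opens) (hU : IsAffineOpen U) :
    RelProj.domQ (RelProj.QGrHom.ofHom φ hφ) pB chartB ⊓ pB ⁻¹ᵁ U =
      (RelProj.emb pB chartB U hU) ''ᵁ RelCone.domOpen (RelProj.gradedHomAt φ hφ U hU) := by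
  refine le_antisymm ?_ ?_
  · rintro x ⟨hx, hxU⟩
    obtain ⟨z, rfl⟩ := (opensRange_emb (p := pB) (chart := chartB) U hU).ge hxU
    exact ⟨z, (emb_mem_domQ_iff φ hφ hB U hU z).mp hx, rfl⟩
  · rintro _ ⟨z, hz, rfl⟩
    exact ⟨(emb_mem_domQ_iff φ hφ hB U hU z).mpr hz,
      (opensRange_emb (p := pB) (chart := chartB) U hU).le ⟨z, rfl⟩⟩

lemma domQ_eq_top (n₀ : ℕ) (h : ∀ k, n₀ ≤ k → ∀ (U : Y.Opens) (hU : IsAffineOpen U), ∀ b ∈ ℬ.deg U hU k,
    ∃ a ∈ 𝒜.deg U hU k, (φ.hom.app (op U)).hom a = b) :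
    RelProj.domQ (RelProj.QGrHom.ofHom φ hφ) pB chartB = ⊤ := by
  refine top_le_iff.mp fun x _ ↦ ?_
  obtain ⟨_, ⟨U, hU, rfl⟩, hxU, -⟩ := Y.isBasis_affineOpens.exists_subset_of_mem_open
    (Set.mem_univ (pB x)) isOpen_univ
  obtain ⟨z, rfl⟩ := (opensRange_emb (p := pB) (chart := chartB) U hU).ge hxU
  refine (emb_mem_domQ_iff φ hφ hB U hU z).mpr ?_
  rw [domOpen_eq_top_of_ge _ n₀ fun k hk ↦ h k hk U hU]
  trivial

section chartEq

variable (hA : RelProj.IsRelProj 𝒜 pA chartA)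
include hA

/-- The charts commute with the structure maps. -/
lemma chart_eq (U : Y.Opens) (hU : IsAffineOpen U) {d : ℕ} (hd : 0 < d)
    (f : 𝒜.presheaf.obj (op U)) (hf : f ∈ 𝒜.deg U hU d) :
    Spec.map (CommRingCat.ofHom (Away.map (RelProj.gradedHomAt φ hφ U hU) f)) ≫
        Proj.awayι (𝒜.deg U hU) f hf hd ≫ RelProj.emb pA chartA U hU ≫ pA =
      Proj.awayι (ℬ.deg U hU) (RelProj.gradedHomAt φ hφ U hU f) ((RelProj.gradedHomAt φ hφ U hU).2 hf) hd ≫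
        RelProj.emb pB chartB U hU ≫ pB := by
  have eA : RelProj.emb pA chartA U hU ≫ pA =
      Proj.toSpecZero (𝒜.deg U hU) ≫ Spec.map (𝒜.strZero U hU) ≫ hU.fromSpec := by
    show ((chartA U hU).inv ≫ (pA ⁻¹ᵁ U).ι) ≫ pA = _
    rw [Category.assoc, ← hA.chart_over U hU, Iso.inv_hom_id_assoc]
  have eB : RelProj.emb pB chartB U hU ≫ pB =
      Proj.toSpecZero (ℬ.deg U hU) ≫ Spec.map (ℬ.strZero U hU) ≫ hU.fromSpec := by
    show ((chartB U hU).inv ≫ (pB ⁻¹ᵁ U).ι) ≫ pB = _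
    rw [Category.assoc, ← hB.chart_over U hU, Iso.inv_hom_id_assoc]
  rw [eA, eB, Proj.awayι_toSpecZero_assoc, Proj.awayι_toSpecZero_assoc, ← Spec.map_comp_assoc, ← Spec.map_comp_assoc,
    ← Spec.map_comp_assoc]
  congr 2
  ext r
  simp only [CommRingCat.hom_comp, CommRingCat.hom_ofHom, RingHom.comp_apply,
    HomogeneousLocalization.Away.map, HomogeneousLocalization.fromZeroRingHom, RingHom.coe_mk,
    MonoidHom.coe_mk, OneHom.coe_mk, HomogeneousLocalization.map_mk, HomogeneousLocalization.val_mk]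
  refine congr_arg₂ Localization.mk ?_ (Subtype.ext (map_one _))
  exact ConcreteCategory.congr_hom (congr_app φ.comm (op U)) r

end chartEq

section map

variable (hA : RelProj.IsRelProj 𝒜 pA chartA)
  (Φ : ((RelProj.domQ (RelProj.QGrHom.ofHom φ hφ) pB chartB : PB.Opens) : Scheme.{u}) ⟶ PA)
  (hΦ : RelProj.IsProjQMapOn (RelProj.QGrHom.ofHom φ hφ) pA chartA pB chartB
    (RelProj.domQ (RelProj.QGrHom.ofHom φ hφ) pB chartB) Φ)
include hA hΦ

set_option maxHeartbeats 800000 in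
/-- The chart of `D₊(φ f)` in the domain. -/
lemma exists_chart (U : Y.Opens) (hU : IsAffineOpen U) {d : ℕ} (hd : 0 < d)
    (f : 𝒜.presheaf.obj (op U)) (hf : f ∈ 𝒜.deg U hU d) :
    ∃ c : Spec (CommRingCat.of (Away (ℬ.deg U hU) (RelProj.gradedHomAt φ hφ U hU f))) ⟶
        (RelProj.domQ (RelProj.QGrHom.ofHom φ hφ) pB chartB : Scheme.{u}),
      c ≫ (RelProj.domQ (RelProj.QGrHom.ofHom φ hφ) pB chartB).ι =
          Proj.awayι (ℬ.deg U hU) (RelProj.gradedHomAt φ hφ U hU f)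
            ((RelProj.gradedHomAt φ hφ U hU).2 hf) hd ≫ RelProj.emb pB chartB U hU ∧
        c ≫ Φ = Spec.map (CommRingCat.ofHom (Away.map (RelProj.gradedHomAt φ hφ U hU) f)) ≫
          Proj.awayι (𝒜.deg U hU) f hf hd ≫ RelProj.emb pA chartA U hU := by
  have key : ∀ (ψ : 𝒜.deg U hU →+*ᵍ ℬ.deg U hU),
      ψ = (RelProj.QGrHom.ofHom φ hφ).gradedAt U hU U hU le_rfl →
      ∃ c : Spec (CommRingCat.of (Away (ℬ.deg U hU) (ψ f))) ⟶
          (RelProj.domQ (RelProj.QGrHom.ofHom φ hφ) pB chartB : Scheme.{u}),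
        c ≫ (RelProj.domQ (RelProj.QGrHom.ofHom φ hφ) pB chartB).ι =
            Proj.awayι (ℬ.deg U hU) (ψ f) (ψ.2 hf) hd ≫ RelProj.emb pB chartB U hU ∧
          c ≫ Φ = Spec.map (CommRingCat.ofHom (Away.map ψ f)) ≫
            Proj.awayι (𝒜.deg U hU) f hf hd ≫ RelProj.emb pA chartA U hU := by
    rintro ψ rfl
    have hW : Set.range (RelProj.awayEmb (RelProj.QGrHom.ofHom φ hφ) pB chartB U hU U hU le_rfl hd f hf).base ⊆
        Set.range (RelProj.domQ (RelProj.QGrHom.ofHom φ hφ) pB chartB).ι.base := by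
      rw [Scheme.Opens.range_ι]
      rintro _ ⟨t, rfl⟩
      refine (emb_mem_domQ_iff φ hφ hB U hU _).mpr ?_
      rw [← gradedAt_self φ hφ U hU]
      exact basicOpen_le_domOpen _ hd hf ((Proj.opensRange_awayι _ _ _ _).le ⟨t, rfl⟩)
    exact ⟨IsOpenImmersion.lift _ _ hW, IsOpenImmersion.lift_fac _ _ _, hΦ U hU U hU le_rfl d hd f hf hW⟩
  exact key _ (gradedAt_self φ hφ U hU).symm

set_option maxHeartbeats 800000 in
lemma projQMapOn_comp :
    Φ ≫ pA = (RelProj.domQ (RelProj.QGrHom.ofHom φ hφ) pB chartB).ι ≫ pB := by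
  let G := RelProj.domQ (RelProj.QGrHom.ofHom φ hφ) pB chartB
  let I : Type u := {i : (U : Y.affineOpens) × ULift.{u} ℕ × 𝒜.presheaf.obj (op U.1) //
    0 < i.2.1.down ∧ i.2.2 ∈ 𝒜.deg i.1.1 i.1.2 i.2.1.down}
  have hc := fun i : I ↦ exists_chart φ hφ hB hA Φ hΦ i.1.1.1 i.1.1.2 i.2.1 i.1.2.2 i.2.2
  choose c hc₁ hc₂ using hc
  haveI : ∀ i, IsOpenImmersion (c i) := fun i ↦ by
    haveI : IsOpenImmersion (c i ≫ G.ι) := by rw [hc₁]; infer_instance
    exact IsOpenImmersion.of_comp _ G.ι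
  let 𝒰 : Scheme.OpenCover (G : Scheme.{u}) :=
    { I₀ := I
      X := fun i ↦ Spec (CommRingCat.of (Away (ℬ.deg i.1.1.1 i.1.1.2)
        (RelProj.gradedHomAt φ hφ i.1.1.1 i.1.1.2 i.1.2.2)))
      f := c
      mem₀ := by
        rw [Scheme.ofArrows_mem_precoverage_iff]
        refine ⟨fun x ↦ ?_, fun i ↦ inferInstance⟩
        obtain ⟨_, ⟨U, hU, rfl⟩, hxU, -⟩ := Y.isBasis_affineOpens.exists_subset_of_mem_open
          (Set.mem_univ (pB (G.ι x))) isOpen_univ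
        obtain ⟨z, hz⟩ := (opensRange_emb (p := pB) (chart := chartB) U hU).ge hxU
        have hzd : z ∈ RelCone.domOpen (RelProj.gradedHomAt φ hφ U hU) :=
          (emb_mem_domQ_iff φ hφ hB U hU z).mp (hz ▸ x.2)
        obtain ⟨d, f, hd, hf, hfz⟩ := exists_homogeneous_of_mem_domOpen _ hzd
        obtain ⟨t, ht⟩ := (Proj.opensRange_awayι _ (RelProj.gradedHomAt φ hφ U hU f)
          ((RelProj.gradedHomAt φ hφ U hU).2 hf) hd).ge hfz
        refine ⟨⟨⟨⟨U, hU⟩, ⟨d⟩, f⟩, hd, hf⟩, t, G.ι.isOpenEmbedding.injective ?_⟩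
        rw [← Scheme.Hom.comp_apply, hc₁, Scheme.Hom.comp_apply, ht, hz] }
  refine 𝒰.hom_ext _ _ fun i ↦ ?_
  exact (reassoc_of% (hc₂ i)) pA |>.trans ((chart_eq φ hφ hB hA i.1.1.1 i.1.1.2 i.2.1 i.1.2.2 i.2.2).trans
    ((reassoc_of% (hc₁ i)) pB).symm)

set_option maxHeartbeats 1600000 in
/-- A property local at the target, checked on the standard charts. -/
lemma projQMapOn_of_charts (Pr : MorphismProperty Scheme.{u}) [IsZariskiLocalAtTarget Pr]
    (hPr : ∀ (U : Y.Opens) (hU : IsAffineOpen U) (d : ℕ) (f : 𝒜.presheaf.obj (op U)), 0 < d →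
      f ∈ 𝒜.deg U hU d → Pr (Spec.map (CommRingCat.ofHom (Away.map (RelProj.gradedHomAt φ hφ U hU) f)))) :
    Pr Φ := by
  let G := RelProj.domQ (RelProj.QGrHom.ofHom φ hφ) pB chartB
  have hcomp := projQMapOn_comp φ hφ hB hA Φ hΦ
  let I : Type u := {i : (U : Y.affineOpens) × ULift.{u} ℕ × 𝒜.presheaf.obj (op U.1) //
    0 < i.2.1.down ∧ i.2.2 ∈ 𝒜.deg i.1.1 i.1.2 i.2.1.down}
  let 𝒰 : Scheme.OpenCover PA :=
    { I₀ := I
      X := fun i ↦ Spec (CommRingCat.of (Away (𝒜.deg i.1.1.1 i.1.1.2) i.1.2.2))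
      f := fun i ↦ Proj.awayι (𝒜.deg i.1.1.1 i.1.1.2) i.1.2.2 i.2.2 i.2.1 ≫
        RelProj.emb pA chartA i.1.1.1 i.1.1.2
      mem₀ := by
        rw [Scheme.ofArrows_mem_precoverage_iff]
        refine ⟨fun x ↦ ?_, fun i ↦ inferInstance⟩
        obtain ⟨_, ⟨U, hU, rfl⟩, hxU, -⟩ := Y.isBasis_affineOpens.exists_subset_of_mem_open
          (Set.mem_univ (pA x)) isOpen_univ
        obtain ⟨z, hz⟩ := (opensRange_emb (p := pA) (chart := chartA) U hU).ge hxU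
        obtain ⟨d, f, hd, hf, hfz⟩ := exists_homogeneous_notMem' (𝒜 := 𝒜.deg U hU)
          (I := z.asHomogeneousIdeal.toIdeal) z.not_irrelevant_le
        obtain ⟨t, ht⟩ := (Proj.opensRange_awayι _ f hf hd).ge hfz
        refine ⟨⟨⟨⟨U, hU⟩, ⟨d⟩, f⟩, hd, hf⟩, t, ?_⟩
        rw [Scheme.Hom.comp_apply, ht, hz] }
  refine IsZariskiLocalAtTarget.of_openCover 𝒰 fun i ↦ ?_
  obtain ⟨⟨⟨U, hU⟩, ⟨d⟩, f⟩, hd, hf⟩ := i
  obtain ⟨c, hc₁, hc₂⟩ := exists_chart φ hφ hB hA Φ hΦ U hU hd f hf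
  haveI : IsOpenImmersion c := by
    haveI : IsOpenImmersion (c ≫ G.ι) := by rw [hc₁]; infer_instance
    exact IsOpenImmersion.of_comp _ G.ι
  let a := Proj.awayι (𝒜.deg U hU) f hf hd ≫ RelProj.emb pA chartA U hU
  have hpre : Φ ⁻¹ᵁ a.opensRange = c.opensRange := by
    refine le_antisymm (fun x hx ↦ ?_) ?_
    · obtain ⟨u₀, hu₀⟩ := hx
      have hxU : pB (G.ι x) ∈ U := by
        have h1 : pA (Φ x) ∈ U := by
          rw [← hu₀, Scheme.Hom.comp_apply]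
          exact (opensRange_emb (p := pA) (chart := chartA) U hU).le ⟨_, rfl⟩
        rwa [← Scheme.Hom.comp_apply, hcomp, Scheme.Hom.comp_apply] at h1
      obtain ⟨z, hz⟩ := (opensRange_emb (p := pB) (chart := chartB) U hU).ge hxU
      obtain ⟨e, g, he, hg, hgz⟩ := exists_homogeneous_of_mem_domOpen (RelProj.gradedHomAt φ hφ U hU)
        ((emb_mem_domQ_iff φ hφ hB U hU z).mp (hz ▸ x.2))
      obtain ⟨c', hc₁', hc₂'⟩ := exists_chart φ hφ hB hA Φ hΦ U hU he g hg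
      let ψ := RelProj.gradedHomAt φ hφ U hU
      obtain ⟨t, ht⟩ := (Proj.opensRange_awayι _ (ψ g) (ψ.2 hg) he).ge hgz
      have hxt : c' t = x := G.ι.isOpenEmbedding.injective (by
        rw [← Scheme.Hom.comp_apply, hc₁', Scheme.Hom.comp_apply, ht, hz])
      have h2 : Proj.awayι (𝒜.deg U hU) g hg he
          (Spec.map (CommRingCat.ofHom (Away.map ψ g)) t) ∈ Proj.basicOpen (𝒜.deg U hU) f := by
        have h3 : Proj.awayι (𝒜.deg U hU) g hg he (Spec.map (CommRingCat.ofHom (Away.map ψ g)) t) =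
            Proj.awayι (𝒜.deg U hU) f hf hd u₀ := by
          apply (RelProj.emb pA chartA U hU).isOpenEmbedding.injective
          rw [← hxt, ← Scheme.Hom.comp_apply, hc₂'] at hu₀
          exact hu₀.symm.trans rfl
        rw [h3]
        exact (Proj.opensRange_awayι _ f hf hd).le ⟨u₀, rfl⟩
      have h4 : z ∈ Proj.basicOpen (ℬ.deg U hU) (ψ f) := by
        rw [← ht]
        have h5 := (Proj.awayι_preimage_basicOpen _ hg he hf hd).le h2
        have e5 : Away.map ψ g (Away.isLocalizationElem hg hf) =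
            Away.isLocalizationElem (ψ.2 hg) (ψ.2 hf) := by
          apply HomogeneousLocalization.val_injective
          simp [Away.isLocalizationElem, Away.map_mk, map_pow]
        exact (Proj.awayι_preimage_basicOpen _ (ψ.2 hg) he (ψ.2 hf) hd).ge (e5 ▸ h5)
      obtain ⟨v, hv⟩ := (Proj.opensRange_awayι _ (ψ f) (ψ.2 hf) hd).ge h4
      refine ⟨v, G.ι.isOpenEmbedding.injective ?_⟩
      rw [← Scheme.Hom.comp_apply, hc₁, Scheme.Hom.comp_apply, hv, hz]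
    · rintro _ ⟨v, rfl⟩
      refine ⟨Spec.map (CommRingCat.ofHom (Away.map (RelProj.gradedHomAt φ hφ U hU) f)) v, ?_⟩
      rw [← Scheme.Hom.comp_apply, ← Scheme.Hom.comp_apply, hc₂]
  have sq : IsPullback (Spec.map (CommRingCat.ofHom (Away.map (RelProj.gradedHomAt φ hφ U hU) f))) c a Φ :=
    IsOpenImmersion.isPullback _ _ _ _ hc₂ hpre
  change Pr (pullback.snd Φ a)
  rw [← sq.flip.isoPullback_inv_snd]
  exact (MorphismProperty.cancel_left_of_respectsIso Pr _ _).mpr (hPr U hU d f hd hf)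

end map

/-- A global induced morphism, as a morphism on the domain. -/
lemma isProjQMapOn_of_isProjQMap {h : PB ⟶ PA}
    (hh : RelProj.IsProjQMap (RelProj.QGrHom.ofHom φ hφ) pA chartA pB chartB h) :
    RelProj.IsProjQMapOn (RelProj.QGrHom.ofHom φ hφ) pA chartA pB chartB
      (RelProj.domQ (RelProj.QGrHom.ofHom φ hφ) pB chartB)
      ((RelProj.domQ (RelProj.QGrHom.ofHom φ hφ) pB chartB).ι ≫ h) := by
  intro U hU U' hU' hle d hd f hf hW
  rw [← Category.assoc, IsOpenImmersion.lift_fac]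
  exact hh.2 U hU U' hU' hle d hd f hf

/-- A property local at the target, for a global induced morphism. -/
lemma projQMap_of_charts (hA : RelProj.IsRelProj 𝒜 pA chartA) {h : PB ⟶ PA}
    (hh : RelProj.IsProjQMap (RelProj.QGrHom.ofHom φ hφ) pA chartA pB chartB h)
    (Pr : MorphismProperty Scheme.{u}) [IsZariskiLocalAtTarget Pr]
    (hPr : ∀ (U : Y.Opens) (hU : IsAffineOpen U) (d : ℕ) (f : 𝒜.presheaf.obj (op U)), 0 < d →
      f ∈ 𝒜.deg U hU d → Pr (Spec.map (CommRingCat.ofHom (Away.map (RelProj.gradedHomAt φ hφ U hU) f)))) :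
    Pr h := by
  have h1 := projQMapOn_of_charts φ hφ hB hA _ (isProjQMapOn_of_isProjQMap φ hφ hB hh) Pr hPr
  haveI : IsIso (RelProj.domQ (RelProj.QGrHom.ofHom φ hφ) pB chartB).ι :=
    (hh.1 ▸ inferInstanceAs (IsIso PB.topIso.hom) : _)
  exact (MorphismProperty.cancel_left_of_respectsIso Pr _ _).mp h1

end Groth.Agent.Proj16
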