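import Groth.Agent.Proj16.RLPsiComp

/-!
# Composites of the morphisms of relative `Proj`s
-/

universe u

open CategoryTheory CategoryTheory.Limits AlgebraicGeometry TopologicalSpace Opposite HomogeneousLocalization
open scoped HomogeneousIdeal

set_option backward.isDefEq.respectTransparency false
set_option backward.isDefEq.respectTransparency.types false
set_option linter.style.haveILetI false
set_option linter.unusedSectionVars false

noncomputable section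

namespace Groth.Agent.Proj16

variable {Y Y' Y'' PA PB PC : Scheme.{u}} {g : Y' ⟶ Y} {g' : Y'' ⟶ Y'} {h : Y'' ⟶ Y}
  {𝒜 : RelProj.QCGrAlg Y} {ℬ : RelProj.QCGrAlg Y'} {𝒞 : RelProj.QCGrAlg Y''}
  {pA : PA ⟶ Y} {pB : PB ⟶ Y'} {pC : PC ⟶ Y''}
  {chartA : ∀ (U : Y.Opens) (hU : IsAffineOpen U), (((pA ⁻¹ᵁ U : PA.Opens) : Scheme.{u}) ≅ Proj (𝒜.deg U hU))}
  {chartB : ∀ (U : Y'.Opens) (hU : IsAffineOpen U), (((pB ⁻¹ᵁ U : PB.Opens) : Scheme.{u}) ≅ Proj (ℬ.deg U hU))}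
  {chartC : ∀ (U : Y''.Opens) (hU : IsAffineOpen U), (((pC ⁻¹ᵁ U : PC.Opens) : Scheme.{u}) ≅ Proj (𝒞.deg U hU))}
  (u : RelProj.QGrHom g 𝒜 ℬ) (v : RelProj.QGrHom g' ℬ 𝒞) (w : RelProj.QGrHom h 𝒜 𝒞) (hh : g' ≫ g = h)
  (hw : ∀ (U : Y.Opens) (hU : IsAffineOpen U) (U' : Y'.Opens) (hU' : IsAffineOpen U') (hle : U' ≤ g ⁻¹ᵁ U)
    (U'' : Y''.Opens) (hU'' : IsAffineOpen U'') (hle' : U'' ≤ g' ⁻¹ᵁ U') (hle'' : U'' ≤ h ⁻¹ᵁ U)
    (x : 𝒜.presheaf.obj (op U)),
    w.gradedAt U hU U'' hU'' hle'' x = v.gradedAt U' hU' U'' hU'' hle' (u.gradedAt U hU U' hU' hle x))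

lemma away_map_comp_three {U : Y.Opens} {hU : IsAffineOpen U} {U' : Y'.Opens} {hU' : IsAffineOpen U'}
    {U'' : Y''.Opens} {hU'' : IsAffineOpen U''}
    (ν : 𝒜.deg U hU →+*ᵍ ℬ.deg U' hU') (χ : ℬ.deg U' hU' →+*ᵍ 𝒞.deg U'' hU'') {d : ℕ}
    (f : 𝒜.presheaf.obj (op U)) (hf : f ∈ 𝒜.deg U hU d) :
    (Away.map (χ.comp ν) f :) = (Away.map χ (ν f)).comp (Away.map ν f) := by
  refine RingHom.ext fun x => ?_
  obtain ⟨n, a, ha, rfl⟩ := x.mk_surjective (𝒜.deg U hU) hf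
  apply HomogeneousLocalization.val_injective
  show _ = HomogeneousLocalization.val (Away.map χ (ν f) (Away.map ν f (Away.mk (𝒜.deg U hU) hf n a ha)))
  erw [Away.map_mk]

variable (hA : RelProj.IsRelProj 𝒜 pA chartA) (hB : RelProj.IsRelProj ℬ pB chartB)
  (hC : RelProj.IsRelProj 𝒞 pC chartC)
  (ru : (RelProj.domQ u pB chartB : Scheme.{u}) ⟶ PA)
  (hru : RelProj.IsProjQMapOn u pA chartA pB chartB (RelProj.domQ u pB chartB) ru)
  (rv : (RelProj.domQ v pC chartC : Scheme.{u}) ⟶ PB)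
  (hrv : RelProj.IsProjQMapOn v pB chartB pC chartC (RelProj.domQ v pC chartC) rv)
  (rw' : (RelProj.domQ w pC chartC : Scheme.{u}) ⟶ PA)
  (hrw : RelProj.IsProjQMapOn w pA chartA pC chartC (RelProj.domQ w pC chartC) rw')

include hh hw hC in
/-- A point of the domain of a composite lies in the chart of a triple of affine opens. -/
lemma exists_triple {x : PC} (hx : x ∈ RelProj.domQ w pC chartC) :
    ∃ (U : Y.Opens) (hU : IsAffineOpen U) (U' : Y'.Opens) (hU' : IsAffineOpen U') (hle : U' ≤ g ⁻¹ᵁ U)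
      (U'' : Y''.Opens) (hU'' : IsAffineOpen U'') (hle' : U'' ≤ g' ⁻¹ᵁ U') (_ : U'' ≤ h ⁻¹ᵁ U)
      (d : ℕ) (_ : 0 < d) (f : 𝒜.presheaf.obj (op U)) (_ : f ∈ 𝒜.deg U hU d) (z : Proj (𝒞.deg U'' hU'')),
      RelProj.emb pC chartC U'' hU'' z = x ∧
        z ∈ Proj.basicOpen (𝒞.deg U'' hU'') (v.gradedAt U' hU' U'' hU'' hle' (u.gradedAt U hU U' hU' hle f)) := by
  obtain ⟨_, ⟨U, hU, rfl⟩, hxU, -⟩ := Y.isBasis_affineOpens.exists_subset_of_mem_open
    (Set.mem_univ (h (pC x))) isOpen_univ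
  obtain ⟨U₂, hU₂, hle₂, z₂, d, f, hd, hf, hz₂, hzf⟩ :=
    exists_mem_basicOpen_of_mem_domQ w (hU := hU) hC hx hxU
  have hxU' : g (g' (pC x)) ∈ U := by
    rw [← Scheme.Hom.comp_apply, hh]
    exact hxU
  obtain ⟨_, ⟨U', hU', rfl⟩, hxU'', hU'sub⟩ := Y'.isBasis_affineOpens.exists_subset_of_mem_open
    (a := g' (pC x)) (u := ((g ⁻¹ᵁ U : Y'.Opens) : Set Y')) hxU' (g ⁻¹ᵁ U).isOpen
  obtain ⟨_, ⟨U'', hU'', rfl⟩, hxU3, hU3sub⟩ := Y''.isBasis_affineOpens.exists_subset_of_mem_open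
    (a := pC x) (u := ((U₂ ⊓ g' ⁻¹ᵁ U' : Y''.Opens) : Set Y''))
    ⟨(opensRange_emb (p := pC) (chart := chartC) U₂ hU₂).le ⟨z₂, hz₂⟩, hxU''⟩ (U₂ ⊓ g' ⁻¹ᵁ U').isOpen
  have i₂ : U'' ≤ U₂ := fun y hy => (hU3sub hy).1
  have hle' : U'' ≤ g' ⁻¹ᵁ U' := fun y hy => (hU3sub hy).2
  have hle'' : U'' ≤ h ⁻¹ᵁ U := i₂.trans hle₂
  obtain ⟨z, hz⟩ := (opensRange_emb (p := pC) (chart := chartC) U'' hU'').ge hxU3
  refine ⟨U, hU, U', hU', hU'sub, U'', hU'', hle', hle'', d, hd, f, hf, z, hz, ?_⟩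
  rw [← hw U hU U' hU' hU'sub U'' hU'' hle' hle'' f]
  have e1 : w.gradedAt U hU U'' hU'' hle'' f = 𝒞.res hU₂ hU'' i₂ (w.gradedAt U hU U₂ hU₂ hle₂ f) := by
    show (𝒞.presheaf.map (homOfLE hle'').op).hom ((w.app U).hom f) =
      (𝒞.presheaf.map (homOfLE i₂).op).hom ((𝒞.presheaf.map (homOfLE hle₂).op).hom ((w.app U).hom f))
    rw [← CommRingCat.comp_apply (𝒞.presheaf.map (homOfLE hle₂).op), ← 𝒞.presheaf.map_comp]
    rfl
  rw [e1, mem_basicOpen_iff_res hC hU₂ hU'' i₂ z z₂ (hz.trans hz₂.symm)]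
  exact hzf

include hh hw hC in
/-- The domain of a composite is contained in that of the second morphism. -/
lemma domQ_comp_le' : RelProj.domQ w pC chartC ≤ RelProj.domQ v pC chartC := by
  intro x hx
  obtain ⟨U, hU, U', hU', hle, U'', hU'', hle', -, d, hd, f, hf, z, hz, hzf⟩ := exists_triple u v w hh hw hC hx
  exact hz ▸ emb_mem_domQ v hU' hU'' hle' hd _ ((u.gradedAt U hU U' hU' hle).2 hf) z hzf

include hh hw hA hB hC hru hrv hrw in
/-- The morphism of a composite is the composite of the morphisms. -/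
theorem exists_comp' :
    ∃ k : (RelProj.domQ w pC chartC : Scheme.{u}) ⟶ (RelProj.domQ u pB chartB : Scheme.{u}),
      k ≫ (RelProj.domQ u pB chartB).ι = PC.homOfLE (domQ_comp_le' u v w hh hw hC) ≫ rv ∧ k ≫ ru = rw' := by
  have hle₀ := domQ_comp_le' u v w hh hw hC (chartC := chartC)
  have key : ∀ x : (RelProj.domQ w pC chartC : Scheme.{u}), ∃ (Z : Scheme.{u})
      (c : Z ⟶ (RelProj.domQ w pC chartC : Scheme.{u})) (k : Z ⟶ (RelProj.domQ u pB chartB : Scheme.{u})),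
      IsOpenImmersion c ∧ x ∈ Set.range c ∧
        k ≫ (RelProj.domQ u pB chartB).ι = c ≫ PC.homOfLE hle₀ ≫ rv ∧ k ≫ ru = c ≫ rw' := by
    intro x
    obtain ⟨U, hU, U', hU', hle, U'', hU'', hle', hle'', d, hd, f, hf, z, hz, hzf⟩ :=
      exists_triple u v w hh hw hC x.2
    let ν := u.gradedAt U hU U' hU' hle
    let χ := v.gradedAt U' hU' U'' hU'' hle'
    have hχ : w.gradedAt U hU U'' hU'' hle'' = χ.comp ν :=
      GradedRingHom.ext fun a => hw U hU U' hU' hle U'' hU'' hle' hle'' a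
    have main : ∀ χ' : 𝒜.deg U hU →+*ᵍ 𝒞.deg U'' hU'', χ' = χ.comp ν →
        ∀ e : Spec (CommRingCat.of (Away (𝒞.deg U'' hU'') (χ' f))) ⟶ (RelProj.domQ w pC chartC : Scheme.{u}),
          IsOpenImmersion e →
          e ≫ (RelProj.domQ w pC chartC).ι = srcChart chartC χ' hd f hf →
          e ≫ rw' = locMor chartA χ' hd f hf →
          ∃ (Z : Scheme.{u}) (c : Z ⟶ (RelProj.domQ w pC chartC : Scheme.{u}))
            (k : Z ⟶ (RelProj.domQ u pB chartB : Scheme.{u})), IsOpenImmersion c ∧ x ∈ Set.range c ∧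
            k ≫ (RelProj.domQ u pB chartB).ι = c ≫ PC.homOfLE hle₀ ≫ rv ∧ k ≫ ru = c ≫ rw' := by
      rintro χ' rfl e he₀ he he'
      let j : PairElt g' ℬ := ⟨U', hU', U'', hU'', hle', d, hd, ν f, ν.2 hf⟩
      let i : PairElt g 𝒜 := ⟨U, hU, U', hU', hle, d, hd, f, hf⟩
      have h1 : e ≫ PC.homOfLE hle₀ = domChart chartC v j := by
        rw [← cancel_mono (RelProj.domQ v pC chartC).ι, Category.assoc, Scheme.homOfLE_ι, he, domChart_ι]
        rfl
      have h2 : domChart chartC v j ≫ rv = locMor chartB χ hd (ν f) (ν.2 hf) :=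
        hrv U' hU' U'' hU'' hle' d hd (ν f) (ν.2 hf) _
      have h3 : domChart chartB u i ≫ ru = locMor chartA ν hd f hf := hru U hU U' hU' hle d hd f hf _
      refine ⟨_, e, Spec.map (CommRingCat.ofHom (Away.map χ (ν f))) ≫ domChart chartB u i, he₀, ?_, ?_, ?_⟩
      · obtain ⟨t, ht⟩ := (mem_range_srcChart_iff (chart' := chartC) (χ.comp ν) hd f hf z).mpr hzf
        refine ⟨t, (RelProj.domQ w pC chartC).ι.isOpenEmbedding.injective ?_⟩
        rw [← Scheme.Hom.comp_apply, he]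
        exact ht.trans hz
      · rw [Category.assoc, domChart_ι, reassoc_of% h1]
        exact h2.symm
      · rw [Category.assoc, h3, he']
        simp only [locMor]
        erw [away_map_comp_three ν χ f hf, CommRingCat.ofHom_comp, Spec.map_comp, Category.assoc]
        rfl
    exact main _ hχ (domChart chartC w ⟨U, hU, U'', hU'', hle'', d, hd, f, hf⟩) inferInstance (domChart_ι w _)
      (hrw U hU U'' hU'' hle'' d hd f hf _)
  choose Z c k hc hxc hk hk' using key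
  have hran : Set.range (PC.homOfLE hle₀ ≫ rv).base ⊆ Set.range (RelProj.domQ u pB chartB).ι.base := by
    rintro _ ⟨x, rfl⟩
    obtain ⟨t, ht⟩ := hxc x
    refine ⟨k x t, ?_⟩
    have e := congrArg (fun m : Z x ⟶ PB => m t) (hk x)
    exact e.trans (congrArg (fun y => (PC.homOfLE hle₀ ≫ rv) y) ht)
  let K := IsOpenImmersion.lift (RelProj.domQ u pB chartB).ι (PC.homOfLE hle₀ ≫ rv) hran
  refine ⟨K, IsOpenImmersion.lift_fac _ _ _, ?_⟩
  haveI := hc
  let 𝒰 : (RelProj.domQ w pC chartC : Scheme.{u}).OpenCover :=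
    { I₀ := (RelProj.domQ w pC chartC : Scheme.{u})
      X := Z
      f := c
      mem₀ := by
        rw [Scheme.ofArrows_mem_precoverage_iff]
        exact ⟨fun x => ⟨x, hxc x⟩, fun x => hc x⟩ }
  refine 𝒰.hom_ext _ _ fun x => ?_
  show c x ≫ K ≫ ru = c x ≫ rw'
  have h3 : c x ≫ K = k x := by
    rw [← cancel_mono (RelProj.domQ u pB chartB).ι, Category.assoc, IsOpenImmersion.lift_fac]
    exact (hk x).symm
  rw [reassoc_of% h3]
  exact hk' x

include hh hw hB hC hrv in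
/-- The points mapped into the first domain lie in the domain of the composite. -/
theorem mem_domQ_comp {x : (RelProj.domQ v pC chartC : Scheme.{u})} (hx : rv x ∈ RelProj.domQ u pB chartB) :
    x.1 ∈ RelProj.domQ w pC chartC := by
  have hpx : pB (rv x) = g' (pC x.1) :=
    congrArg (fun k : (RelProj.domQ v pC chartC : Scheme.{u}) ⟶ Y' => k x)
      ((existsUnique_projQMapOn v hB hC).2 rv hrv)
  obtain ⟨_, ⟨U, hU, rfl⟩, hxU, -⟩ := Y.isBasis_affineOpens.exists_subset_of_mem_open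
    (Set.mem_univ (g (pB (rv x)))) isOpen_univ
  obtain ⟨U', hU', hle, z', d, f, hd, hf, hz', hzf⟩ := exists_mem_basicOpen_of_mem_domQ u (hU := hU) hB hx hxU
  have hxU' : g' (pC x.1) ∈ U' := hpx ▸ (opensRange_emb (p := pB) (chart := chartB) U' hU').le ⟨z', hz'⟩
  obtain ⟨_, ⟨U'', hU'', rfl⟩, hxU'', hsub⟩ := Y''.isBasis_affineOpens.exists_subset_of_mem_open
    (a := pC x.1) (u := ((g' ⁻¹ᵁ U' : Y''.Opens) : Set Y'')) hxU' (g' ⁻¹ᵁ U').isOpen
  obtain ⟨z, hz⟩ := (opensRange_emb (p := pC) (chart := chartC) U'' hU'').ge hxU''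
  have hzv := (apply_mem_image_iff v hU' hU'' hsub hd _ ((u.gradedAt U hU U' hU' hle).2 hf) hB hC rv hrv x z hz).mp
    ⟨z', hzf, hz'⟩
  have hle'' : U'' ≤ h ⁻¹ᵁ U := fun y hy => by
    show h y ∈ U
    rw [← hh, Scheme.Hom.comp_apply]
    exact hle (hsub hy)
  have e := hw U hU U' hU' hle U'' hU'' hsub hle'' f
  exact hz ▸ emb_mem_domQ w hU hU'' hle'' hd f hf z (e.symm ▸ hzv)

include hh hw hA hB hC hru hrv hrw in
/-- The composite, on points with values in a scheme. -/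
theorem comp_eq {T : Scheme.{u}} (b : T ⟶ (RelProj.domQ v pC chartC : Scheme.{u}))
    (c : T ⟶ (RelProj.domQ u pB chartB : Scheme.{u})) (d : T ⟶ (RelProj.domQ w pC chartC : Scheme.{u}))
    (hbd : d ≫ (RelProj.domQ w pC chartC).ι = b ≫ (RelProj.domQ v pC chartC).ι)
    (hcb : c ≫ (RelProj.domQ u pB chartB).ι = b ≫ rv) : c ≫ ru = d ≫ rw' := by
  obtain ⟨k, hk, hk'⟩ := exists_comp' u v w hh hw hA hB hC ru hru rv hrv rw' hrw
  have e : d ≫ PC.homOfLE (domQ_comp_le' u v w hh hw hC) = b := by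
    rw [← cancel_mono (RelProj.domQ v pC chartC).ι, Category.assoc, Scheme.homOfLE_ι, hbd]
  have e2 : d ≫ k = c := by
    rw [← cancel_mono (RelProj.domQ u pB chartB).ι, Category.assoc, hk, reassoc_of% e, hcb]
  rw [← e2, Category.assoc, hk']

include hh hw hA hB hC hru hrv hrw in
/-- Points of the domain of the composite are mapped into the first domain. -/
theorem apply_mem_domQ {x : (RelProj.domQ v pC chartC : Scheme.{u})} (hx : x.1 ∈ RelProj.domQ w pC chartC) :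
    rv x ∈ RelProj.domQ u pB chartB := by
  obtain ⟨k, hk, -⟩ := exists_comp' u v w hh hw hA hB hC ru hru rv hrv rw' hrw
  have e : PC.homOfLE (domQ_comp_le' u v w hh hw hC) ⟨x.1, hx⟩ = x :=
    (RelProj.domQ v pC chartC).ι.isOpenEmbedding.injective (by
      rw [← Scheme.Hom.comp_apply, Scheme.homOfLE_ι]; rfl)
  rw [← e, ← Scheme.Hom.comp_apply, ← hk, Scheme.Hom.comp_apply]
  exact (k ⟨x.1, hx⟩).2

/-- Composition of a graded morphism with a homomorphism on the source scheme. -/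
def compRight {𝒟 : RelProj.QCGrAlg Y'} (φ : ℬ.toQCAlg ⟶ 𝒟.toQCAlg) (hφ : RelProj.IsGradedHom φ) :
    RelProj.QGrHom g 𝒜 𝒟 where
  app U := u.app U ≫ φ.hom.app (op (g ⁻¹ᵁ U))
  naturality i := by
    rw [Category.assoc, ← φ.hom.naturality, ← Category.assoc, u.naturality i, Category.assoc]
  str_app U := by
    rw [← Category.assoc, u.str_app, Category.assoc]
    exact congrArg (g.app U ≫ ·) (NatTrans.congr_app φ.comm _)
  map_mem U hU U' hU' hle {d x} hx := by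
    show (u.app U ≫ φ.hom.app (op (g ⁻¹ᵁ U)) ≫ 𝒟.presheaf.map (homOfLE hle).op).hom x ∈ _
    rw [← φ.hom.naturality]
    exact hφ U' hU' d _ (u.map_mem U hU U' hU' hle hx)

/-- A morphism on an open equal to the domain is the morphism on the domain. -/
lemma exists_transport {W : PB.Opens} (hW : W = RelProj.domQ u pB chartB) (r : (W : Scheme.{u}) ⟶ PA)
    (hr : RelProj.IsProjQMapOn u pA chartA pB chartB W r) :
    ∃ r₀ : (RelProj.domQ u pB chartB : Scheme.{u}) ⟶ PA,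
      RelProj.IsProjQMapOn u pA chartA pB chartB (RelProj.domQ u pB chartB) r₀ ∧
      ∀ {T : Scheme.{u}} (a : T ⟶ (W : Scheme.{u})) (a₀ : T ⟶ (RelProj.domQ u pB chartB : Scheme.{u})),
        a₀ ≫ (RelProj.domQ u pB chartB).ι = a ≫ W.ι → a₀ ≫ r₀ = a ≫ r := by
  subst hW
  refine ⟨r, hr, fun a a₀ e => ?_⟩
  rw [(cancel_mono _).mp e]

end Groth.Agent.Proj16
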