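import Groth.Agent.Proj16.Map
import Mathlib.Algebra.Category.Ring.Constructions
import Mathlib.RingTheory.IsTensorProduct

/-!
# Standard charts of `Proj` under base change, gradings by additive subgroups
-/

universe u

open CategoryTheory CategoryTheory.Limits AlgebraicGeometry HomogeneousLocalization TensorProduct
open scoped HomogeneousIdeal

set_option backward.isDefEq.respectTransparency false
set_option backward.isDefEq.respectTransparency.types false
set_option linter.style.haveILetI false
set_option linter.unusedSectionVars false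

namespace Groth.Agent.Proj16

variable {R R' A B σ τ : Type u} [CommRing R'] [CommRing R] [CommRing A] [CommRing B] [SetLike σ A]
  [AddSubgroupClass σ A] [SetLike τ B] [AddSubgroupClass τ B] {𝒜 : ℕ → σ} [GradedRing 𝒜] {ℬ : ℕ → τ} [GradedRing ℬ]

/-- The degree `m` part of a product with an element of degree zero. -/
lemma proj_zero_mul {a : A} (ha : a ∈ 𝒜 0) (b : A) (m : ℕ) :
    GradedRing.proj 𝒜 m (a * b) = a * GradedRing.proj 𝒜 m b :=
  DirectSum.coe_decompose_mul_of_left_mem_zero 𝒜 ha

variable (α : R' →+* R) (s : R' →+* ℬ 0) (t : R →+* 𝒜 0) (φ : ℬ →+*ᵍ 𝒜)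
  (hpo : CategoryTheory.IsPushout (CommRingCat.ofHom α)
    (CommRingCat.ofHom ((SetLike.GradeZero.subsemiring ℬ).subtype.comp s))
    (CommRingCat.ofHom ((SetLike.GradeZero.subsemiring 𝒜).subtype.comp t))
    (CommRingCat.ofHom (φ.toRingHom : B →+* A)))

include hpo in
/-- Homogeneous elements of the base change come from homogeneous elements. -/
theorem exists_tensor_of_mem :
    letI := α.toAlgebra
    letI := (((SetLike.GradeZero.subsemiring ℬ).subtype.comp s) : R' →+* B).toAlgebra
    letI := (((SetLike.GradeZero.subsemiring 𝒜).subtype.comp t) : R →+* A).toAlgebra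
    ∃ E : R ⊗[R'] B ≃+* A,
      (∀ (r : R) (b : B), E (r ⊗ₜ b) = (t r : A) * φ b) ∧
      ∀ (m : ℕ), ∃ P : B →ₗ[R'] B, (∀ b, P b = GradedRing.proj ℬ m b) ∧
        ∀ x, E (P.lTensor R x) = GradedRing.proj 𝒜 m (E x) := by
  letI algR : Algebra R' R := α.toAlgebra
  letI algB : Algebra R' B := (((SetLike.GradeZero.subsemiring ℬ).subtype.comp s) : R' →+* B).toAlgebra
  letI algA : Algebra R A := (((SetLike.GradeZero.subsemiring 𝒜).subtype.comp t) : R →+* A).toAlgebra
  letI algBA : Algebra B A := (φ.toRingHom : B →+* A).toAlgebra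
  letI algR'A : Algebra R' A := ((algebraMap R A).comp (algebraMap R' R)).toAlgebra
  haveI : IsScalarTower R' R A := IsScalarTower.of_algebraMap_eq fun r => rfl
  haveI : IsScalarTower R' B A := IsScalarTower.of_algebraMap_eq fun r =>
    ConcreteCategory.congr_hom hpo.w r
  haveI : Algebra.IsPushout R' R B A := CommRingCat.isPushout_iff_isPushout.mp hpo
  refine ⟨(Algebra.IsPushout.equiv R' R B A).toRingEquiv, fun r b => ?_, fun m => ?_⟩
  · show Algebra.IsPushout.equiv R' R B A (r ⊗ₜ b) = _
    rw [Algebra.IsPushout.equiv_tmul]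
    rfl
  let P : B →ₗ[R'] B :=
    { toFun := fun b => GradedRing.proj ℬ m b
      map_add' := fun a b => map_add _ a b
      map_smul' := fun r b => by
        rw [RingHom.id_apply, Algebra.smul_def, Algebra.smul_def]
        exact proj_zero_mul (s r).2 b m }
  refine ⟨P, fun b => rfl, fun x => ?_⟩
  induction x using TensorProduct.induction_on with
  | zero => simp only [map_zero]
  | add x y hx hy => simp only [map_add, hx, hy]
  | tmul r b =>
    show Algebra.IsPushout.equiv R' R B A (r ⊗ₜ GradedRing.proj ℬ m b) =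
      GradedRing.proj 𝒜 m (Algebra.IsPushout.equiv R' R B A (r ⊗ₜ b))
    rw [Algebra.IsPushout.equiv_tmul, Algebra.IsPushout.equiv_tmul]
    show (t r : A) * φ (GradedRing.proj ℬ m b) = GradedRing.proj 𝒜 m ((t r : A) * φ b)
    rw [proj_zero_mul (t r).2, GradedRing.proj_apply, GradedRing.proj_apply, GradedRingHom.map_directSumDecompose]

include hpo in
/-- The irrelevant ideal of a base change is generated by the image. -/
theorem irrelevant_le_map_of_isPushout : 𝒜₊ ≤ (ℬ₊).map φ := by
  classical
  letI algR : Algebra R' R := α.toAlgebra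
  letI algB : Algebra R' B := (((SetLike.GradeZero.subsemiring ℬ).subtype.comp s) : R' →+* B).toAlgebra
  letI algA : Algebra R A := (((SetLike.GradeZero.subsemiring 𝒜).subtype.comp t) : R →+* A).toAlgebra
  obtain ⟨E, hE, hP⟩ := exists_tensor_of_mem α s t φ hpo
  rw [HomogeneousIdeal.irrelevant_le]
  intro i hi a ha
  obtain ⟨P, hPdef, hPE⟩ := hP i
  have e : a = E (P.lTensor R (E.symm a)) := by
    rw [hPE, RingEquiv.apply_symm_apply, proj_of_mem 𝒜 ha]
  show a ∈ Ideal.map φ (ℬ₊).toIdeal
  rw [e]
  generalize E.symm a = x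
  induction x using TensorProduct.induction_on with
  | zero => simp only [map_zero]; exact zero_mem _
  | add x y hx hy => simp only [map_add]; exact add_mem hx hy
  | tmul r b =>
    rw [LinearMap.lTensor_tmul, hE, hPdef]
    refine Ideal.mul_mem_left _ _ (Ideal.mem_map_of_mem _ ?_)
    exact HomogeneousIdeal.mem_irrelevant_of_mem ℬ hi (proj_mem ℬ i b)

include hpo in
/-- The standard chart of the base change is the base change of the chart. -/
theorem isPushout_away_of_isPushout {f : B} {d : ℕ} (hf : f ∈ ℬ d) :
    CategoryTheory.IsPushout (CommRingCat.ofHom α)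
      (CommRingCat.ofHom ((fromZeroRingHom ℬ (Submonoid.powers f)).comp s))
      (CommRingCat.ofHom ((fromZeroRingHom 𝒜 (Submonoid.powers (φ f))).comp t))
      (CommRingCat.ofHom (Away.map φ f)) := by
  classical
  letI algR : Algebra R' R := α.toAlgebra
  letI algB : Algebra R' B := (((SetLike.GradeZero.subsemiring ℬ).subtype.comp s) : R' →+* B).toAlgebra
  letI algA : Algebra R A := (((SetLike.GradeZero.subsemiring 𝒜).subtype.comp t) : R →+* A).toAlgebra
  obtain ⟨E, hE, hP⟩ := exists_tensor_of_mem α s t φ hpo
  choose P hPdef hPE using hP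
  letI algf : Algebra R' (Away ℬ f) := ((fromZeroRingHom ℬ (Submonoid.powers f)).comp s).toAlgebra
  letI algφf : Algebra R (Away 𝒜 (φ f)) := ((fromZeroRingHom 𝒜 (Submonoid.powers (φ f))).comp t).toAlgebra
  letI : Algebra R' (Away 𝒜 (φ f)) := ((algebraMap R (Away 𝒜 (φ f))).comp (algebraMap R' R)).toAlgebra
  letI : Algebra (Away ℬ f) (Away 𝒜 (φ f)) := (Away.map φ f).toAlgebra
  have hw : ∀ r, algebraMap (Away ℬ f) (Away 𝒜 (φ f)) (algebraMap R' (Away ℬ f) r) =
      algebraMap R' (Away 𝒜 (φ f)) r := fun r => by
    apply HomogeneousLocalization.val_injective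
    simp only [RingHom.algebraMap_toAlgebra, RingHom.comp_apply, Away.map, fromZeroRingHom, RingHom.coe_mk,
      MonoidHom.coe_mk, OneHom.coe_mk, HomogeneousLocalization.map_mk, HomogeneousLocalization.val_mk]
    refine congr_arg₂ Localization.mk ?_ (Subtype.ext (map_one φ))
    exact (ConcreteCategory.congr_hom hpo.w r).symm
  haveI : IsScalarTower R' R (Away 𝒜 (φ f)) := IsScalarTower.of_algebraMap_eq fun r => rfl
  haveI : IsScalarTower R' (Away ℬ f) (Away 𝒜 (φ f)) := IsScalarTower.of_algebraMap_eq fun r => (hw r).symm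
  let ψ : R ⊗[R'] Away ℬ f →ₐ[R] Away 𝒜 (φ f) :=
    Algebra.TensorProduct.lift (Algebra.ofId R _) (IsScalarTower.toAlgHom R' (Away ℬ f) (Away 𝒜 (φ f)))
      fun _ _ => Commute.all _ _
  have hmul : ∀ {n : ℕ} (r : R) (a : A) (ha : a ∈ 𝒜 (n • d)),
      algebraMap R (Away 𝒜 (φ f)) r * Away.mk 𝒜 (φ.2 hf) n a ha =
        Away.mk 𝒜 (φ.2 hf) n ((t r : A) * a) (by simpa using SetLike.mul_mem_graded (t r).2 ha) := by
    intro n r a ha
    apply HomogeneousLocalization.val_injective
    rw [HomogeneousLocalization.val_mul, Away.val_mk, Away.val_mk]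
    simp only [RingHom.algebraMap_toAlgebra, RingHom.comp_apply, fromZeroRingHom, RingHom.coe_mk,
      MonoidHom.coe_mk, OneHom.coe_mk, HomogeneousLocalization.val_mk, Localization.mk_mul]
    congr 1
    exact Subtype.ext (one_mul _)
  -- `b ↦ (degree `n d` part of `b`) / f ^ n`
  let L : ∀ n : ℕ, B →ₗ[R'] Away ℬ f := fun n =>
    { toFun := fun b => Away.mk ℬ hf n (GradedRing.proj ℬ (n • d) b) (proj_mem ℬ (n • d) b)
      map_add' := fun b c => by
        apply HomogeneousLocalization.val_injective
        simp only [Away.val_mk, HomogeneousLocalization.val_add, map_add, Localization.add_mk_self]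
      map_smul' := fun r b => by
        apply HomogeneousLocalization.val_injective
        rw [RingHom.id_apply, Away.val_mk, Algebra.smul_def r b, Algebra.smul_def r (_ : Away ℬ f),
          HomogeneousLocalization.val_mul, Away.val_mk]
        simp only [RingHom.algebraMap_toAlgebra, RingHom.comp_apply, fromZeroRingHom, RingHom.coe_mk,
          MonoidHom.coe_mk, OneHom.coe_mk, HomogeneousLocalization.val_mk, Localization.mk_mul]
        refine congr_arg₂ Localization.mk ?_ (Subtype.ext (one_mul _).symm)
        exact proj_zero_mul (s r).2 b (n • d) }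
  have hψ : ∀ (n : ℕ) (x : R ⊗[R'] B), (ψ ((L n).lTensor R x)).val =
      Localization.mk (GradedRing.proj 𝒜 (n • d) (E x)) (⟨φ f ^ n, n, rfl⟩ : Submonoid.powers (φ f)) := by
    intro n x
    induction x using TensorProduct.induction_on with
    | zero => simp [Localization.mk_zero]
    | add x y hx hy => simp only [map_add, HomogeneousLocalization.val_add, hx, hy, Localization.add_mk_self]
    | tmul r b =>
      simp only [LinearMap.lTensor_tmul, ψ, Algebra.TensorProduct.lift_tmul]
      show (algebraMap R (Away 𝒜 (φ f)) r *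
        Away.map φ f (Away.mk ℬ hf n (GradedRing.proj ℬ (n • d) b) (proj_mem ℬ (n • d) b))).val = _
      rw [Away.map_mk, hmul, Away.val_mk, hE, proj_zero_mul (t r).2]
      congr 1
      rw [GradedRing.proj_apply, GradedRing.proj_apply, GradedRingHom.map_directSumDecompose]
  have shift : ∀ (n k : ℕ) (x : R ⊗[R'] B),
      (L (k + n)).lTensor R ((LinearMap.mulLeft R' (f ^ k) ∘ₗ P (n • d)).lTensor R x) = (L n).lTensor R x := by
    intro n k x
    rw [← LinearMap.comp_apply, ← LinearMap.lTensor_comp]
    congr 2
    refine LinearMap.ext fun b => ?_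
    apply HomogeneousLocalization.val_injective
    have hmem : f ^ k * GradedRing.proj ℬ (n • d) b ∈ ℬ ((k + n) • d) := by
      rw [add_smul]; exact SetLike.mul_mem_graded (SetLike.pow_mem_graded k hf) (proj_mem ℬ (n • d) b)
    show Localization.mk (GradedRing.proj ℬ ((k + n) • d) (f ^ k * P (n • d) b)) _ =
      Localization.mk (GradedRing.proj ℬ (n • d) b) _
    rw [hPdef, proj_of_mem ℬ hmem,
      Localization.mk_eq_mk_iff, Localization.r_iff_exists]
    exact ⟨1, by simp [pow_add]; ring⟩
  have hbij : Function.Bijective ψ := by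
    refine ⟨(injective_iff_map_eq_zero ψ).2 fun x hx => ?_, fun y => ?_⟩
    · obtain ⟨n, z, rfl⟩ : ∃ (n : ℕ) (z : R ⊗[R'] B), (L n).lTensor R z = x := by
        clear hx
        induction x using TensorProduct.induction_on with
        | zero => exact ⟨0, 0, map_zero _⟩
        | tmul r y =>
          obtain ⟨n, b, hb, rfl⟩ := y.mk_surjective ℬ hf
          refine ⟨n, r ⊗ₜ b, ?_⟩
          rw [LinearMap.lTensor_tmul]
          congr 1
          apply HomogeneousLocalization.val_injective
          show Localization.mk (GradedRing.proj ℬ (n • d) b) _ = Localization.mk b _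
          exact congrArg (Localization.mk · _) (proj_of_mem ℬ hb)
        | add x y hx hy =>
          obtain ⟨n, z, rfl⟩ := hx
          obtain ⟨m, z', rfl⟩ := hy
          refine ⟨n + m, _, ((map_add _ _ _).trans (congr_arg₂ (· + ·)
            ((?_ : (L (n + m)).lTensor R ((LinearMap.mulLeft R' (f ^ m) ∘ₗ P (n • d)).lTensor R z) = _))
            (shift m n z')))⟩
          rw [add_comm n m]
          exact shift n m z
      have h0 := congrArg HomogeneousLocalization.val hx
      rw [hψ, HomogeneousLocalization.val_zero, Localization.mk_eq_mk', IsLocalization.mk'_eq_zero_iff] at h0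
      obtain ⟨⟨_, k, rfl⟩, hk⟩ := h0
      have hzero : (LinearMap.mulLeft R' (f ^ k) ∘ₗ P (n • d)).lTensor R z = 0 := by
        refine E.injective ?_
        rw [map_zero]
        refine Eq.trans ?_ hk
        show _ = φ f ^ k * GradedRing.proj 𝒜 (n • d) (E z)
        rw [← hPE]
        clear hk hx
        induction z using TensorProduct.induction_on with
        | zero => simp only [map_zero, mul_zero]
        | add x y hx hy => simp only [map_add, hx, hy, mul_add]
        | tmul r b =>
          simp only [LinearMap.lTensor_tmul, LinearMap.comp_apply, LinearMap.mulLeft_apply, hE]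
          rw [map_mul, map_pow]
          ring
      rw [← shift n k z, hzero, map_zero]
    · obtain ⟨n, a, ha, rfl⟩ := y.mk_surjective 𝒜 (φ.2 hf)
      refine ⟨(L n).lTensor R (E.symm a), ?_⟩
      apply HomogeneousLocalization.val_injective
      rw [hψ, RingEquiv.apply_symm_apply, proj_of_mem 𝒜 ha, Away.val_mk]
      rfl
  haveI : Algebra.IsPushout R' R (Away ℬ f) (Away 𝒜 (φ f)) := by
    refine ⟨IsBaseChange.of_equiv (AlgEquiv.ofBijective ψ hbij).toLinearEquiv fun x => ?_⟩
    show ψ (1 ⊗ₜ x) = _
    simp only [ψ, Algebra.TensorProduct.lift_tmul, map_one, one_mul]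
    rfl
  exact CommRingCat.isPushout_of_isPushout R' R (Away ℬ f) (Away 𝒜 (φ f))

end Groth.Agent.Proj16
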