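import Groth.Agent.SymX.ProjQMapOf
import Groth.Agent.Proj16.RelMapQ

/-!
# Existence of the morphism of relative `Proj`s over a morphism of bases
-/

universe u

open CategoryTheory CategoryTheory.Limits AlgebraicGeometry TopologicalSpace Opposite HomogeneousLocalization
open scoped HomogeneousIdeal

set_option backward.isDefEq.respectTransparency false
set_option backward.isDefEq.respectTransparency.types false
set_option linter.style.haveILetI false
set_option linter.unusedSectionVars false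

noncomputable section

namespace Groth.Agent.Proj16

section point

variable {Y P : Scheme.{u}} {𝒮 : RelProj.QCGrAlg Y} {p : P ⟶ Y}
  {chart : ∀ (U : Y.Opens) (hU : IsAffineOpen U),
    (((p ⁻¹ᵁ U : P.Opens) : Scheme.{u}) ≅ Proj (𝒮.deg U hU))}

/-- Membership in a basic open does not depend on the affine chart. -/
lemma mem_basicOpen_iff_res (hP : RelProj.IsRelProj 𝒮 p chart) {U V : Y.Opens} (hU : IsAffineOpen U)
    (hV : IsAffineOpen V) (i : V ≤ U) (y : Proj (𝒮.deg V hV)) (z : Proj (𝒮.deg U hU))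
    (e : RelProj.emb p chart V hV y = RelProj.emb p chart U hU z) (a : 𝒮.presheaf.obj (op U)) :
    y ∈ Proj.basicOpen (𝒮.deg V hV) (𝒮.res hU hV i a) ↔ z ∈ Proj.basicOpen (𝒮.deg U hU) a := by
  have hxV : p (RelProj.emb p chart V hV y) ∈ V := (opensRange_emb (p := p) (chart := chart) V hV).le ⟨y, rfl⟩
  obtain ⟨r, s, hrs, hxr⟩ := exists_basicOpen_le_affine_inter hU hV _ ⟨i hxV, hxV⟩
  have hT : IsAffineOpen (Y.basicOpen r) := hU.basicOpen r
  have iU : Y.basicOpen r ≤ U := Y.basicOpen_le r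
  have iV : Y.basicOpen r ≤ V := hrs.le.trans (Y.basicOpen_le s)
  obtain ⟨t, ht⟩ := (opensRange_emb (p := p) (chart := chart) _ hT).ge hxr
  have eU : Proj.map (𝒮.res hU hT iU) (irrelevant_le_res 𝒮 hU hT iU ⟨r, rfl⟩) t = z := by
    apply (RelProj.emb p chart U hU).isOpenEmbedding.injective
    rw [← Scheme.Hom.comp_apply, map_res_emb_of_exists hP hU hT iU ⟨r, rfl⟩, ht, e]
  have eV : Proj.map (𝒮.res hV hT iV) (irrelevant_le_res 𝒮 hV hT iV ⟨s, hrs.symm⟩) t = y := by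
    apply (RelProj.emb p chart V hV).isOpenEmbedding.injective
    rw [← Scheme.Hom.comp_apply, map_res_emb_of_exists hP hV hT iV ⟨s, hrs.symm⟩, ht]
  rw [← eU, ← eV]
  show t ∈ Proj.basicOpen (𝒮.deg _ hT) (𝒮.res hV hT iV (𝒮.res hU hV i a)) ↔
    t ∈ Proj.basicOpen (𝒮.deg _ hT) (𝒮.res hU hT iU a)
  rw [SymX.res_res hU hV hT i iV iU]

end point

variable {Y Y' P P' : Scheme.{u}} {g : Y' ⟶ Y} {𝒮 : RelProj.QCGrAlg Y} {𝒮' : RelProj.QCGrAlg Y'}
  {p : P ⟶ Y} {p' : P' ⟶ Y'}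
  (chart : ∀ (U : Y.Opens) (hU : IsAffineOpen U), (((p ⁻¹ᵁ U : P.Opens) : Scheme.{u}) ≅ Proj (𝒮.deg U hU)))
  (chart' : ∀ (U : Y'.Opens) (hU : IsAffineOpen U), (((p' ⁻¹ᵁ U : P'.Opens) : Scheme.{u}) ≅ Proj (𝒮'.deg U hU)))
  {U : Y.Opens} {hU : IsAffineOpen U} {U' : Y'.Opens} {hU' : IsAffineOpen U'}

/-- The chart of the source. -/
abbrev srcChart (χ : 𝒮.deg U hU →+*ᵍ 𝒮'.deg U' hU') {d : ℕ} (hd : 0 < d) (f : 𝒮.presheaf.obj (op U))
    (hf : f ∈ 𝒮.deg U hU d) : Spec (CommRingCat.of (Away (𝒮'.deg U' hU') (χ f))) ⟶ P' :=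
  Proj.awayι (𝒮'.deg U' hU') (χ f) (χ.2 hf) hd ≫ RelProj.emb p' chart' U' hU'

/-- The chart of the morphism. -/
abbrev locMor (χ : 𝒮.deg U hU →+*ᵍ 𝒮'.deg U' hU') {d : ℕ} (hd : 0 < d) (f : 𝒮.presheaf.obj (op U))
    (hf : f ∈ 𝒮.deg U hU d) : Spec (CommRingCat.of (Away (𝒮'.deg U' hU') (χ f))) ⟶ P :=
  Spec.map (CommRingCat.ofHom (Away.map χ f)) ≫ Proj.awayι (𝒮.deg U hU) f hf hd ≫ RelProj.emb p chart U hU

variable {chart chart'}

lemma away_map_comp {W : Y.Opens} {hW : IsAffineOpen W} {W' : Y'.Opens} {hW' : IsAffineOpen W'}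
    (σ : 𝒮.deg U hU →+*ᵍ 𝒮.deg W hW) (χ : 𝒮.deg W hW →+*ᵍ 𝒮'.deg W' hW') {d : ℕ}
    (f : 𝒮.presheaf.obj (op U)) (hf : f ∈ 𝒮.deg U hU d) :
    (Away.map (χ.comp σ) f :) = (Away.map χ (σ f)).comp (Away.map σ f) := by
  refine RingHom.ext fun x => ?_
  obtain ⟨n, a, ha, rfl⟩ := x.mk_surjective (𝒮.deg U hU) hf
  apply HomogeneousLocalization.val_injective
  show _ = HomogeneousLocalization.val (Away.map χ (σ f) (Away.map σ f (Away.mk (𝒮.deg U hU) hf n a ha)))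
  erw [Away.map_mk]

lemma away_map_comp' {W' : Y'.Opens} {hW' : IsAffineOpen W'}
    (χ : 𝒮.deg U hU →+*ᵍ 𝒮'.deg U' hU') (σ : 𝒮'.deg U' hU' →+*ᵍ 𝒮'.deg W' hW') {d : ℕ}
    (f : 𝒮.presheaf.obj (op U)) (hf : f ∈ 𝒮.deg U hU d) :
    (Away.map (σ.comp χ) f :) = (Away.map σ (χ f)).comp (Away.map χ f) := by
  refine RingHom.ext fun x => ?_
  obtain ⟨n, a, ha, rfl⟩ := x.mk_surjective (𝒮.deg U hU) hf
  apply HomogeneousLocalization.val_injective
  show _ = HomogeneousLocalization.val (Away.map σ (χ f) (Away.map χ f (Away.mk (𝒮.deg U hU) hf n a ha)))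
  erw [Away.map_mk]

/-- Shrinking the pair of affine opens. -/
lemma exists_shrink (hP : RelProj.IsRelProj 𝒮 p chart) (hP' : RelProj.IsRelProj 𝒮' p' chart')
    {W : Y.Opens} (hW : IsAffineOpen W) (i : W ≤ U) {W' : Y'.Opens} (hW' : IsAffineOpen W') (i' : W' ≤ U')
    (χ : 𝒮.deg U hU →+*ᵍ 𝒮'.deg U' hU') (χW : 𝒮.deg W hW →+*ᵍ 𝒮'.deg W' hW')
    (e : (𝒮'.res hU' hW' i').comp χ = χW.comp (𝒮.res hU hW i)) {d : ℕ} (hd : 0 < d)
    (f : 𝒮.presheaf.obj (op U)) (hf : f ∈ 𝒮.deg U hU d) :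
    ∃ a : Spec (CommRingCat.of (Away (𝒮'.deg W' hW') (χW (𝒮.res hU hW i f)))) ⟶
        Spec (CommRingCat.of (Away (𝒮'.deg U' hU') (χ f))),
      a ≫ srcChart chart' χ hd f hf = srcChart chart' χW hd _ ((𝒮.res hU hW i).2 hf) ∧
        a ≫ locMor chart χ hd f hf = locMor chart χW hd _ ((𝒮.res hU hW i).2 hf) := by
  have key : ∀ χ₃ : 𝒮.deg U hU →+*ᵍ 𝒮'.deg W' hW', χ₃ = (𝒮'.res hU' hW' i').comp χ →
      ∃ a : Spec (CommRingCat.of (Away (𝒮'.deg W' hW') (χ₃ f))) ⟶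
          Spec (CommRingCat.of (Away (𝒮'.deg U' hU') (χ f))),
        a ≫ srcChart chart' χ hd f hf = srcChart chart' χ₃ hd f hf ∧
          a ≫ locMor chart χ hd f hf = locMor chart χ₃ hd f hf := by
    rintro χ₃ rfl
    refine ⟨Spec.map (CommRingCat.ofHom (Away.map (𝒮'.res hU' hW' i') (χ f))), ?_, ?_⟩
    · exact (SymX.awayι_res_emb hP' hU' hW' i' hd (χ f) (χ.2 hf)).symm
    · simp only [locMor]
      rw [away_map_comp' χ (𝒮'.res hU' hW' i') f hf, CommRingCat.ofHom_comp, Spec.map_comp, Category.assoc]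
  obtain ⟨a, ha₁, ha₂⟩ := key (χW.comp (𝒮.res hU hW i)) e.symm
  refine ⟨a, ha₁, ha₂.trans ?_⟩
  show Spec.map (CommRingCat.ofHom (Away.map (χW.comp (𝒮.res hU hW i)) f)) ≫ _ = _
  rw [away_map_comp (𝒮.res hU hW i) χW f hf, CommRingCat.ofHom_comp, Spec.map_comp, Category.assoc]
  exact congrArg (fun k => Spec.map (CommRingCat.ofHom (Away.map χW (𝒮.res hU hW i f))) ≫ k)
    (SymX.awayι_res_emb hP hU hW i hd f hf).symm

/-- Passing to a multiple. -/
lemma exists_mul (χ : 𝒮.deg U hU →+*ᵍ 𝒮'.deg U' hU') {d e k : ℕ} (hd : 0 < d) (hk : 0 < k) (hde : k = d + e)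
    (f h x : 𝒮.presheaf.obj (op U)) (hf : f ∈ 𝒮.deg U hU d) (hh : h ∈ 𝒮.deg U hU e) (hx : x = f * h)
    (hxm : x ∈ 𝒮.deg U hU k) :
    ∃ a : Spec (CommRingCat.of (Away (𝒮'.deg U' hU') (χ x))) ⟶
        Spec (CommRingCat.of (Away (𝒮'.deg U' hU') (χ f))),
      a ≫ srcChart chart' χ hd f hf = srcChart chart' χ hk x hxm ∧
        a ≫ locMor chart χ hd f hf = locMor chart χ hk x hxm := by
  subst hde
  have hx' : χ x = χ f * χ h := by rw [hx]; exact map_mul χ f h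
  refine ⟨Spec.map (CommRingCat.ofHom (awayMap (𝒮'.deg U' hU') (χ.2 hh) hx')), ?_, ?_⟩
  · simp only [srcChart]
    rw [Proj.SpecMap_awayMap_awayι_assoc]
  · simp only [locMor]
    have hsq : (awayMap (𝒮'.deg U' hU') (χ.2 hh) hx').comp (Away.map χ f) =
        (Away.map χ x).comp (awayMap (𝒮.deg U hU) hh hx) := by
      refine RingHom.ext fun y => ?_
      obtain ⟨n, b, hb, rfl⟩ := y.mk_surjective (𝒮.deg U hU) hf
      apply HomogeneousLocalization.val_injective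
      simp [awayMap_mk, Away.map_mk]
    rw [← Spec.map_comp_assoc, ← CommRingCat.ofHom_comp, hsq, CommRingCat.ofHom_comp, Spec.map_comp_assoc,
      Proj.SpecMap_awayMap_awayι_assoc]

variable (g 𝒮) in
/-- An affine pair with a homogeneous element of positive degree. -/
structure PairElt : Type u where
  U : Y.Opens
  hU : IsAffineOpen U
  U' : Y'.Opens
  hU' : IsAffineOpen U'
  hle : U' ≤ g ⁻¹ᵁ U
  d : ℕ
  hd : 0 < d
  f : 𝒮.presheaf.obj (op U)
  hf : f ∈ 𝒮.deg U hU d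

variable (u : RelProj.QGrHom g 𝒮 𝒮')

/-- The graded homomorphism of a pair. -/
abbrev PairElt.hom (i : PairElt g 𝒮) : 𝒮.deg i.U i.hU →+*ᵍ 𝒮'.deg i.U' i.hU' :=
  u.gradedAt i.U i.hU i.U' i.hU' i.hle

lemma gradedAt_res {W : Y.Opens} (hU : IsAffineOpen U) (hW : IsAffineOpen W) (i : W ≤ U) {W' : Y'.Opens}
    (hU' : IsAffineOpen U') (hW' : IsAffineOpen W') (i' : W' ≤ U') (hle : U' ≤ g ⁻¹ᵁ U) (hleW : W' ≤ g ⁻¹ᵁ W) :
    (𝒮'.res hU' hW' i').comp (u.gradedAt U hU U' hU' hle) =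
      (u.gradedAt W hW W' hW' hleW).comp (𝒮.res hU hW i) := by
  refine GradedRingHom.ext fun x => ?_
  show (u.app U ≫ 𝒮'.presheaf.map (homOfLE hle).op ≫ 𝒮'.presheaf.map (homOfLE i').op).hom x =
    (𝒮.presheaf.map (homOfLE i).op ≫ u.app W ≫ 𝒮'.presheaf.map (homOfLE hleW).op).hom x
  rw [← Category.assoc (𝒮.presheaf.map _), ← u.naturality i, Category.assoc, ← Functor.map_comp,
    ← Functor.map_comp]
  rfl

lemma mem_range_srcChart_iff (χ : 𝒮.deg U hU →+*ᵍ 𝒮'.deg U' hU') {d : ℕ} (hd : 0 < d)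
    (f : 𝒮.presheaf.obj (op U)) (hf : f ∈ 𝒮.deg U hU d) (z : Proj (𝒮'.deg U' hU')) :
    RelProj.emb p' chart' U' hU' z ∈ Set.range (srcChart chart' χ hd f hf) ↔
      z ∈ Proj.basicOpen (𝒮'.deg U' hU') (χ f) := by
  rw [← Proj.opensRange_awayι _ (χ f) (χ.2 hf) hd]
  constructor
  · rintro ⟨t, ht⟩
    refine ⟨t, (RelProj.emb p' chart' U' hU').isOpenEmbedding.injective ?_⟩
    rw [← ht, ← Scheme.Hom.comp_apply]
  · rintro ⟨t, rfl⟩
    exact ⟨t, Scheme.Hom.comp_apply _ _ _⟩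

/-- Two charts agree near a common point. -/
lemma exists_common (hP : RelProj.IsRelProj 𝒮 p chart) (hP' : RelProj.IsRelProj 𝒮' p' chart')
    (i j : PairElt g 𝒮) (x : P') (hi : x ∈ Set.range (srcChart chart' (i.hom u) i.hd i.f i.hf))
    (hj : x ∈ Set.range (srcChart chart' (j.hom u) j.hd j.f j.hf)) :
    ∃ (Z : Scheme.{u}) (a : Z ⟶ Spec (CommRingCat.of (Away (𝒮'.deg i.U' i.hU') (i.hom u i.f))))
      (b : Z ⟶ Spec (CommRingCat.of (Away (𝒮'.deg j.U' j.hU') (j.hom u j.f)))),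
      IsOpenImmersion (a ≫ srcChart chart' (i.hom u) i.hd i.f i.hf) ∧
      a ≫ srcChart chart' (i.hom u) i.hd i.f i.hf = b ≫ srcChart chart' (j.hom u) j.hd j.f j.hf ∧
      x ∈ Set.range (a ≫ srcChart chart' (i.hom u) i.hd i.f i.hf) ∧
      a ≫ locMor chart (i.hom u) i.hd i.f i.hf = b ≫ locMor chart (j.hom u) j.hd j.f j.hf := by
  obtain ⟨U, hU, U', hU', hle, d, hd, f, hf⟩ := i
  obtain ⟨V, hV, V', hV', hle₂, e, he, h, hh⟩ := j
  have hx₁ : p' x ∈ U' := by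
    obtain ⟨t, rfl⟩ := hi
    exact (opensRange_emb (p := p') (chart := chart') U' hU').le ⟨_, (Scheme.Hom.comp_apply _ _ t).symm⟩
  have hx₂ : p' x ∈ V' := by
    obtain ⟨t, rfl⟩ := hj
    exact (opensRange_emb (p := p') (chart := chart') V' hV').le ⟨_, (Scheme.Hom.comp_apply _ _ t).symm⟩
  obtain ⟨_, ⟨W, hW, rfl⟩, hgW, hWsub⟩ := Y.isBasis_affineOpens.exists_subset_of_mem_open
    (a := g (p' x)) (u := ((U ⊓ V : Y.Opens) : Set Y)) ⟨hle hx₁, hle₂ hx₂⟩ (U ⊓ V).isOpen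
  obtain ⟨_, ⟨W', hW', rfl⟩, hxW', hW'sub⟩ := Y'.isBasis_affineOpens.exists_subset_of_mem_open
    (a := p' x) (u := ((U' ⊓ V' ⊓ g ⁻¹ᵁ W : Y'.Opens) : Set Y')) ⟨⟨hx₁, hx₂⟩, hgW⟩ (U' ⊓ V' ⊓ g ⁻¹ᵁ W).isOpen
  have iU : W ≤ U := fun y hy => (hWsub hy).1
  have iV : W ≤ V := fun y hy => (hWsub hy).2
  have iU' : W' ≤ U' := fun y hy => (hW'sub hy).1.1
  have iV' : W' ≤ V' := fun y hy => (hW'sub hy).1.2
  have hleW : W' ≤ g ⁻¹ᵁ W := fun y hy => (hW'sub hy).2
  let χ := u.gradedAt W hW W' hW' hleW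
  let f₁ := 𝒮.res hU hW iU f
  let h₁ := 𝒮.res hV hW iV h
  have hf₁ : f₁ ∈ 𝒮.deg W hW d := (𝒮.res hU hW iU).2 hf
  have hh₁ : h₁ ∈ 𝒮.deg W hW e := (𝒮.res hV hW iV).2 hh
  have hm : f₁ * h₁ ∈ 𝒮.deg W hW (d + e) := SetLike.mul_mem_graded hf₁ hh₁
  have hk : 0 < d + e := Nat.add_pos_left hd e
  obtain ⟨a₁, ha₁, ha₁'⟩ := exists_shrink hP hP' hW iU hW' iU' _ χ (gradedAt_res u hU hW iU hU' hW' iU' hle hleW) hd f hf
  obtain ⟨b₁, hb₁, hb₁'⟩ := exists_shrink hP hP' hW iV hW' iV' _ χ (gradedAt_res u hV hW iV hV' hW' iV' hle₂ hleW) he h hh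
  obtain ⟨a₂, ha₂, ha₂'⟩ := exists_mul (chart := chart) (chart' := chart') χ hd hk rfl f₁ h₁ (f₁ * h₁) hf₁ hh₁ rfl hm
  obtain ⟨b₂, hb₂, hb₂'⟩ := exists_mul (chart := chart) (chart' := chart') χ he hk (add_comm d e) h₁ f₁ (f₁ * h₁)
    hh₁ hf₁ (mul_comm _ _) hm
  have ea : (a₂ ≫ a₁) ≫ srcChart chart' (u.gradedAt U hU U' hU' hle) hd f hf = srcChart chart' χ hk _ hm :=
    (Category.assoc _ _ _).trans ((congrArg (a₂ ≫ ·) ha₁).trans ha₂)
  have eb : (b₂ ≫ b₁) ≫ srcChart chart' (u.gradedAt V hV V' hV' hle₂) he h hh = srcChart chart' χ hk _ hm :=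
    (Category.assoc _ _ _).trans ((congrArg (b₂ ≫ ·) hb₁).trans hb₂)
  refine ⟨_, a₂ ≫ a₁, b₂ ≫ b₁, ?_, ea.trans eb.symm, ?_, ?_⟩
  · rw [show (a₂ ≫ a₁) ≫ srcChart chart' _ hd f hf = _ from ea]
    infer_instance
  · rw [show (a₂ ≫ a₁) ≫ srcChart chart' _ hd f hf = _ from ea]
    obtain ⟨w, rfl⟩ := (opensRange_emb (p := p') (chart := chart') W' hW').ge hxW'
    rw [mem_range_srcChart_iff, map_mul, Proj.basicOpen_mul]
    constructor
    · obtain ⟨z, hz⟩ := (opensRange_emb (p := p') (chart := chart') U' hU').ge hx₁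
      have e1 : χ f₁ = 𝒮'.res hU' hW' iU' (u.gradedAt U hU U' hU' hle f) :=
        (GradedRingHom.congr_fun (gradedAt_res u hU hW iU hU' hW' iU' hle hleW) f).symm
      show w ∈ Proj.basicOpen (𝒮'.deg W' hW') (χ f₁)
      rw [e1, mem_basicOpen_iff_res hP' hU' hW' iU' w z hz.symm, ← mem_range_srcChart_iff (chart' := chart') _ hd f hf,
        hz]
      exact hi
    · obtain ⟨z, hz⟩ := (opensRange_emb (p := p') (chart := chart') V' hV').ge hx₂
      have e1 : χ h₁ = 𝒮'.res hV' hW' iV' (u.gradedAt V hV V' hV' hle₂ h) :=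
        (GradedRingHom.congr_fun (gradedAt_res u hV hW iV hV' hW' iV' hle₂ hleW) h).symm
      show w ∈ Proj.basicOpen (𝒮'.deg W' hW') (χ h₁)
      rw [e1, mem_basicOpen_iff_res hP' hV' hW' iV' w z hz.symm, ← mem_range_srcChart_iff (chart' := chart') _ he h hh,
        hz]
      exact hj
  · show (a₂ ≫ a₁) ≫ locMor chart _ hd f hf = (b₂ ≫ b₁) ≫ locMor chart _ he h hh
    exact ((Category.assoc _ _ _).trans ((congrArg (a₂ ≫ ·) ha₁').trans ha₂')).trans
      ((Category.assoc _ _ _).trans ((congrArg (b₂ ≫ ·) hb₁').trans hb₂')).symm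

variable (chart') in
/-- The charts of the domain. -/
def domChart (i : PairElt g 𝒮) :
    Spec (CommRingCat.of (Away (𝒮'.deg i.U' i.hU') (i.hom u i.f))) ⟶
      (RelProj.domQ u p' chart' : Scheme.{u}) :=
  IsOpenImmersion.lift (RelProj.domQ u p' chart').ι (srcChart chart' (i.hom u) i.hd i.f i.hf)
    (RelProj.range_awayEmb_subset_domQ u p' chart' i.U i.hU i.U' i.hU' i.hle i.hd i.f i.hf)

lemma domChart_ι (i : PairElt g 𝒮) :
    domChart chart' u i ≫ (RelProj.domQ u p' chart').ι = srcChart chart' (i.hom u) i.hd i.f i.hf :=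
  IsOpenImmersion.lift_fac _ _ _

instance (i : PairElt g 𝒮) : IsOpenImmersion (domChart chart' u i) := by
  haveI : IsOpenImmersion (domChart chart' u i ≫ (RelProj.domQ u p' chart').ι) := by
    rw [domChart_ι]; infer_instance
  exact IsOpenImmersion.of_comp _ (RelProj.domQ u p' chart').ι

variable (chart') in
/-- The cover of the domain by the charts. -/
def domCover : Scheme.OpenCover (RelProj.domQ u p' chart' : Scheme.{u}) where
  I₀ := PairElt g 𝒮
  X i := Spec (CommRingCat.of (Away (𝒮'.deg i.U' i.hU') (i.hom u i.f)))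
  f := domChart chart' u
  mem₀ := by
    rw [Scheme.ofArrows_mem_precoverage_iff]
    refine ⟨fun x => ?_, fun i => inferInstance⟩
    obtain ⟨⟨⟨⟨U, hU⟩, ⟨U', hU'⟩⟩, hle⟩, z, hz, hzx⟩ := Opens.mem_iSup.mp x.2
    obtain ⟨d, f, hd, hf, hfz⟩ := exists_homogeneous_of_mem_domOpen _ hz
    obtain ⟨t, ht⟩ := (mem_range_srcChart_iff (chart' := chart') _ hd f hf z).mpr hfz
    refine ⟨⟨U, hU, U', hU', hle, d, hd, f, hf⟩, t, (RelProj.domQ u p' chart').ι.isOpenEmbedding.injective ?_⟩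
    rw [← Scheme.Hom.comp_apply, domChart_ι]
    exact ht.trans hzx

/-- The charts of the morphism glue. -/
lemma exists_glue (hP : RelProj.IsRelProj 𝒮 p chart) (hP' : RelProj.IsRelProj 𝒮' p' chart') :
    ∃ v : (RelProj.domQ u p' chart' : Scheme.{u}) ⟶ P,
      ∀ i : PairElt g 𝒮, domChart chart' u i ≫ v = locMor chart (i.hom u) i.hd i.f i.hf := by
  refine ⟨(domCover chart' u).glueMorphisms (fun i => locMor chart (PairElt.hom u i) i.hd i.f i.hf) ?_,
    fun i => Scheme.Cover.ι_glueMorphisms (domCover chart' u) _ _ i⟩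
  intro i j
  refine Scheme.hom_ext_of_forall _ _ fun y => ?_
  let D := RelProj.domQ u p' chart'
  let F := pullback.fst (domChart chart' u i) (domChart chart' u j)
  let S := pullback.snd (domChart chart' u i) (domChart chart' u j)
  have hFi : (F ≫ domChart chart' u i) ≫ D.ι = F ≫ srcChart chart' (i.hom u) i.hd i.f i.hf := by
    rw [Category.assoc, domChart_ι]
  have hy : srcChart chart' (i.hom u) i.hd i.f i.hf (F y) = srcChart chart' (j.hom u) j.hd j.f j.hf (S y) := by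
    rw [← domChart_ι, ← domChart_ι, ← Scheme.Hom.comp_apply, ← Scheme.Hom.comp_apply, ← Category.assoc,
      pullback.condition, Category.assoc]
  obtain ⟨Z, a, b, hopen, hab, hx, hloc⟩ := exists_common u hP hP' i j _ ⟨F y, rfl⟩ ⟨S y, hy.symm⟩
  let k : Z ⟶ pullback (domChart chart' u i) (domChart chart' u j) := pullback.lift a b (by
    rw [← cancel_mono D.ι, Category.assoc, Category.assoc, domChart_ι, domChart_ι]
    exact hab)
  have hk : k ≫ F ≫ srcChart chart' (i.hom u) i.hd i.f i.hf = a ≫ srcChart chart' (i.hom u) i.hd i.f i.hf :=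
    pullback.lift_fst_assoc _ _ _ _
  haveI : IsOpenImmersion k := by
    haveI : IsOpenImmersion (k ≫ (F ≫ srcChart chart' (i.hom u) i.hd i.f i.hf)) := hk ▸ hopen
    exact IsOpenImmersion.of_comp k (F ≫ srcChart chart' (i.hom u) i.hd i.f i.hf)
  refine ⟨k.opensRange, ?_, ?_⟩
  · obtain ⟨z, hz⟩ := hx
    refine ⟨z, (F ≫ srcChart chart' (i.hom u) i.hd i.f i.hf).isOpenEmbedding.injective ?_⟩
    rw [← Scheme.Hom.comp_apply, hk]
    exact hz.trans (Scheme.Hom.comp_apply _ _ _).symm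
  · rw [← cancel_epi k.isoOpensRange.hom, Scheme.Hom.isoOpensRange_hom_ι_assoc,
      Scheme.Hom.isoOpensRange_hom_ι_assoc]
    show k ≫ F ≫ _ = k ≫ S ≫ _
    rw [pullback.lift_fst_assoc, pullback.lift_snd_assoc]
    exact hloc

/-- The structure map of the chart of the morphism. -/
lemma locMor_comp (hP : RelProj.IsRelProj 𝒮 p chart) (hP' : RelProj.IsRelProj 𝒮' p' chart') (i : PairElt g 𝒮) :
    locMor chart (i.hom u) i.hd i.f i.hf ≫ p = srcChart chart' (i.hom u) i.hd i.f i.hf ≫ p' ≫ g := by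
  obtain ⟨U, hU, U', hU', hle, d, hd, f, hf⟩ := i
  have eA : RelProj.emb p chart U hU ≫ p =
      Proj.toSpecZero (𝒮.deg U hU) ≫ Spec.map (𝒮.strZero U hU) ≫ hU.fromSpec := by
    show ((chart U hU).inv ≫ (p ⁻¹ᵁ U).ι) ≫ p = _
    rw [Category.assoc, ← hP.chart_over U hU, Iso.inv_hom_id_assoc]
  have eB : RelProj.emb p' chart' U' hU' ≫ p' =
      Proj.toSpecZero (𝒮'.deg U' hU') ≫ Spec.map (𝒮'.strZero U' hU') ≫ hU'.fromSpec := by
    show ((chart' U' hU').inv ≫ (p' ⁻¹ᵁ U').ι) ≫ p' = _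
    rw [Category.assoc, ← hP'.chart_over U' hU', Iso.inv_hom_id_assoc]
  simp only [locMor, srcChart, Category.assoc]
  rw [eA, reassoc_of% eB, Proj.awayι_toSpecZero_assoc, Proj.awayι_toSpecZero_assoc,
    ← IsAffineOpen.SpecMap_appLE_fromSpec g hU hU' hle]
  simp only [← Spec.map_comp_assoc]
  congr 2
  ext r
  simp only [CommRingCat.hom_comp, CommRingCat.hom_ofHom, RingHom.comp_apply,
    HomogeneousLocalization.Away.map, HomogeneousLocalization.fromZeroRingHom, RingHom.coe_mk,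
    MonoidHom.coe_mk, OneHom.coe_mk, HomogeneousLocalization.map_mk, HomogeneousLocalization.val_mk]
  refine congr_arg₂ Localization.mk ?_ (Subtype.ext (map_one _))
  have h1 := ConcreteCategory.congr_hom (u.str_app U) r
  have h2 := ConcreteCategory.congr_hom (𝒮'.str.naturality (homOfLE hle).op) ((g.app U).hom r)
  exact (congrArg (𝒮'.presheaf.map (homOfLE hle).op).hom h1).trans h2.symm

/-- Existence, uniqueness and compatibility with the structure maps of `Proj(u)` on its domain. -/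
theorem existsUnique_projQMapOn (hP : RelProj.IsRelProj 𝒮 p chart) (hP' : RelProj.IsRelProj 𝒮' p' chart') :
    (∃! v : (RelProj.domQ u p' chart' : Scheme.{u}) ⟶ P,
      RelProj.IsProjQMapOn u p chart p' chart' (RelProj.domQ u p' chart') v) ∧
    ∀ v : (RelProj.domQ u p' chart' : Scheme.{u}) ⟶ P,
      RelProj.IsProjQMapOn u p chart p' chart' (RelProj.domQ u p' chart') v →
        v ≫ p = (RelProj.domQ u p' chart').ι ≫ p' ≫ g := by
  obtain ⟨v, hv⟩ := exists_glue u hP hP'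
  have huniq : ∀ w, RelProj.IsProjQMapOn u p chart p' chart' (RelProj.domQ u p' chart') w → ∀ i : PairElt g 𝒮,
      domChart chart' u i ≫ w = locMor chart (i.hom u) i.hd i.f i.hf := fun w hw i =>
    hw i.U i.hU i.U' i.hU' i.hle i.d i.hd i.f i.hf _
  refine ⟨⟨v, fun U hU U' hU' hle d hd f hf _ => hv ⟨U, hU, U', hU', hle, d, hd, f, hf⟩,
    fun w hw => (domCover chart' u).hom_ext _ _ fun i => (huniq w hw i).trans (hv i).symm⟩, fun w hw => ?_⟩
  refine (domCover chart' u).hom_ext _ _ fun i => ?_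
  show domChart chart' u i ≫ w ≫ p = domChart chart' u i ≫ (RelProj.domQ u p' chart').ι ≫ p' ≫ g
  rw [reassoc_of% (huniq w hw i), reassoc_of% (domChart_ι (chart' := chart') u i)]
  exact (locMor_comp u hP hP' i)

end Groth.Agent.Proj16
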