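import Groth.Agent.Proj16.ExistQMap
import Groth.Agent.Proj16.AwayPushout

/-!
# Base change of relative `Proj`
-/

universe u

open CategoryTheory CategoryTheory.Limits AlgebraicGeometry TopologicalSpace Opposite HomogeneousLocalization
open scoped HomogeneousIdeal

set_option backward.isDefEq.respectTransparency false
set_option backward.isDefEq.respectTransparency.types false
set_option linter.style.haveILetI false
set_option linter.unusedSectionVars false

noncomputable section

namespace Groth.Agent.Proj16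

variable {Y Y' P P' : Scheme.{u}} {g : Y' ⟶ Y} {𝒮 : RelProj.QCGrAlg Y} {𝒮' : RelProj.QCGrAlg Y'}
  {p : P ⟶ Y} {p' : P' ⟶ Y'}
  {chart : ∀ (U : Y.Opens) (hU : IsAffineOpen U), (((p ⁻¹ᵁ U : P.Opens) : Scheme.{u}) ≅ Proj (𝒮.deg U hU))}
  {chart' : ∀ (U : Y'.Opens) (hU : IsAffineOpen U), (((p' ⁻¹ᵁ U : P'.Opens) : Scheme.{u}) ≅ Proj (𝒮'.deg U hU))}
  (u : RelProj.QGrHom g 𝒮 𝒮') (hu : RelSpec.IsQBaseChange u.toQHom)

include hu

/-- The pushout square of a pair, through degree zero. -/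
lemma isPushout_pair (U : Y.Opens) (hU : IsAffineOpen U) (U' : Y'.Opens) (hU' : IsAffineOpen U') (hle : U' ≤ g ⁻¹ᵁ U) :
    CategoryTheory.IsPushout (CommRingCat.ofHom (g.appLE U U' hle).hom)
      (CommRingCat.ofHom ((SetLike.GradeZero.subsemiring (𝒮.deg U hU)).subtype.comp (𝒮.strZero U hU).hom))
      (CommRingCat.ofHom ((SetLike.GradeZero.subsemiring (𝒮'.deg U' hU')).subtype.comp (𝒮'.strZero U' hU').hom))
      (CommRingCat.ofHom ((u.gradedAt U hU U' hU' hle).toRingHom :
        (𝒮.presheaf.obj (op U)) →+* (𝒮'.presheaf.obj (op U')))) :=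
  hu U hU U' hU' hle

lemma domOpen_gradedAt_eq_top (U : Y.Opens) (hU : IsAffineOpen U) (U' : Y'.Opens) (hU' : IsAffineOpen U')
    (hle : U' ≤ g ⁻¹ᵁ U) : RelCone.domOpen (u.gradedAt U hU U' hU' hle) = ⊤ := by
  refine top_le_iff.mp fun z _ => ?_
  by_contra hne
  refine z.not_irrelevant_le (le_trans
    (irrelevant_le_map_of_isPushout _ _ _ _ (isPushout_pair u hu U hU U' hU' hle))
    (show (((𝒮.deg U hU)₊).map (u.gradedAt U hU U' hU' hle)).toIdeal ≤ z.asHomogeneousIdeal.toIdeal from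
      Ideal.map_le_iff_le_comap.mpr fun a ha => ?_))
  by_contra haz
  exact hne ((RelCone.mem_domOpen _ z).mpr ⟨a, ha, haz⟩)

lemma domQ_eq_top_of_isQBaseChange : RelProj.domQ u p' chart' = ⊤ := by
  refine top_le_iff.mp fun x _ => ?_
  obtain ⟨_, ⟨U, hU, rfl⟩, hxU, -⟩ := Y.isBasis_affineOpens.exists_subset_of_mem_open
    (Set.mem_univ (g (p' x))) isOpen_univ
  obtain ⟨_, ⟨U', hU', rfl⟩, hxU', hsub⟩ := Y'.isBasis_affineOpens.exists_subset_of_mem_open
    (a := p' x) (u := ((g ⁻¹ᵁ U : Y'.Opens) : Set Y')) hxU (g ⁻¹ᵁ U).isOpen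
  obtain ⟨z, rfl⟩ := (opensRange_emb (p := p') (chart := chart') U' hU').ge hxU'
  refine Opens.mem_iSup.mpr ⟨⟨(⟨U, hU⟩, ⟨U', hU'⟩), hsub⟩, z, ?_, rfl⟩
  rw [SetLike.mem_coe, domOpen_gradedAt_eq_top u hu U hU U' hU' hsub]
  trivial

variable (hP : RelProj.IsRelProj 𝒮 p chart) (hP' : RelProj.IsRelProj 𝒮' p' chart')
include hP hP'

theorem exists_isProjQMap : ∃ h : P' ⟶ P, RelProj.IsProjQMap u p chart p' chart' h := by
  obtain ⟨⟨v, hv, -⟩, -⟩ := existsUnique_projQMapOn u hP hP'
  have htop := domQ_eq_top_of_isQBaseChange (p' := p') (chart' := chart') u hu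
  haveI : IsIso (RelProj.domQ u p' chart').ι := (htop ▸ inferInstanceAs (IsIso P'.topIso.hom) : _)
  refine ⟨inv (RelProj.domQ u p' chart').ι ≫ v, htop, fun U hU U' hU' hle d hd f hf => ?_⟩
  have h1 := hv U hU U' hU' hle d hd f hf (RelProj.range_awayEmb_subset_domQ u p' chart' U hU U' hU' hle hd f hf)
  rw [← h1, ← Category.assoc]
  congr 1
  rw [IsIso.comp_inv_eq, IsOpenImmersion.lift_fac]

/-- The pullback square of a standard chart. -/
lemma exists_chart_openImmersion (i : PairElt g 𝒮) (hloc : locMor chart (i.hom u) i.hd i.f i.hf ≫ p =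
      srcChart chart' (i.hom u) i.hd i.f i.hf ≫ p' ≫ g) :
    ∃ (A : Spec (CommRingCat.of (Away (𝒮.deg i.U i.hU) i.f)) ⟶ P),
      A = Proj.awayι (𝒮.deg i.U i.hU) i.f i.hf i.hd ≫ RelProj.emb p chart i.U i.hU ∧
      IsOpenImmersion (pullback.lift (f := p) (g := g) (locMor chart (i.hom u) i.hd i.f i.hf)
        (srcChart chart' (i.hom u) i.hd i.f i.hf ≫ p') (by rw [Category.assoc]; exact hloc)) ∧
      pullback.fst p g ⁻¹' Set.range A ∩ pullback.snd p g ⁻¹' (i.U' : Set Y') ⊆
        Set.range (pullback.lift (f := p) (g := g) (locMor chart (i.hom u) i.hd i.f i.hf)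
          (srcChart chart' (i.hom u) i.hd i.f i.hf ≫ p') (by rw [Category.assoc]; exact hloc)) := by
  obtain ⟨U, hU, U', hU', hle, d, hd, f, hf⟩ := i
  let χ := u.gradedAt U hU U' hU' hle
  let γ := Spec.map (CommRingCat.ofHom (Away.map χ f))
  let c := Spec.map (CommRingCat.ofHom ((fromZeroRingHom (𝒮.deg U hU) (Submonoid.powers f)).comp (𝒮.strZero U hU).hom))
  let c' := Spec.map (CommRingCat.ofHom
    ((fromZeroRingHom (𝒮'.deg U' hU') (Submonoid.powers (χ f))).comp (𝒮'.strZero U' hU').hom))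
  let al := Spec.map (CommRingCat.ofHom (g.appLE U U' hle).hom)
  have sq : IsPullback γ c' c al :=
    (isPullback_SpecMap_of_isPushout _ _ _ _
      (isPushout_away_of_isPushout _ _ _ _ (isPushout_pair u hu U hU U' hU' hle) hf)).flip
  let A := Proj.awayι (𝒮.deg U hU) f hf hd ≫ RelProj.emb p chart U hU
  have eA : A ≫ p = c ≫ hU.fromSpec := by
    show (_ ≫ (chart U hU).inv ≫ (p ⁻¹ᵁ U).ι) ≫ p = _
    rw [Category.assoc, Category.assoc, ← hP.chart_over U hU, Iso.inv_hom_id_assoc, Proj.awayι_toSpecZero_assoc,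
      ← Spec.map_comp_assoc]
    rfl
  have eB : hU'.fromSpec ≫ g = al ≫ hU.fromSpec :=
    (IsAffineOpen.SpecMap_appLE_fromSpec g hU hU' hle).symm
  have sq' : IsPullback γ c' (c ≫ hU.fromSpec) (al ≫ hU.fromSpec) :=
    ⟨⟨by rw [reassoc_of% sq.w]⟩, ⟨PullbackCone.isLimitOfCompMono c al hU.fromSpec _ sq.isLimit⟩⟩
  let m := pullback.map (c ≫ hU.fromSpec) (al ≫ hU.fromSpec) p g A hU'.fromSpec (𝟙 Y)
    (by rw [Category.comp_id, eA]) (by rw [Category.comp_id, eB])
  have hsrc : srcChart chart' χ hd f hf ≫ p' = c' ≫ hU'.fromSpec := by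
    show (_ ≫ (chart' U' hU').inv ≫ (p' ⁻¹ᵁ U').ι) ≫ p' = _
    rw [Category.assoc, Category.assoc, ← hP'.chart_over U' hU', Iso.inv_hom_id_assoc,
      Proj.awayι_toSpecZero_assoc, ← Spec.map_comp_assoc]
    rfl
  have hq : pullback.lift (f := p) (g := g) (locMor chart χ hd f hf) (srcChart chart' χ hd f hf ≫ p')
      (by rw [Category.assoc]; exact hloc) = sq'.isoPullback.hom ≫ m := by
    refine pullback.hom_ext ?_ ?_
    · rw [pullback.lift_fst, Category.assoc, pullback.lift_fst, sq'.isoPullback_hom_fst_assoc]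
    · rw [pullback.lift_snd, hsrc, Category.assoc, pullback.lift_snd, sq'.isoPullback_hom_snd_assoc]
  refine ⟨A, rfl, ?_, ?_⟩
  · exact hq ▸ (inferInstance : IsOpenImmersion (sq'.isoPullback.hom ≫ m))
  · rintro z ⟨hz₁, hz₂⟩
    suffices z ∈ Set.range (sq'.isoPullback.hom ≫ m) from hq ▸ this
    have hm : z ∈ Set.range m := by
      rw [Scheme.Pullback.range_map]
      exact ⟨hz₁, hU'.range_fromSpec.ge hz₂⟩
    obtain ⟨w, rfl⟩ := hm
    refine ⟨sq'.isoPullback.inv w, ?_⟩
    rw [← Scheme.Hom.comp_apply, Iso.inv_hom_id_assoc]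

theorem isPullback_of_isProjQMap {h : P' ⟶ P} (hh : RelProj.IsProjQMap u p chart p' chart' h) :
    IsPullback h p' p g := by
  haveI : IsIso (RelProj.domQ u p' chart').ι := (hh.1 ▸ inferInstanceAs (IsIso P'.topIso.hom) : _)
  have hchart : ∀ i : PairElt g 𝒮,
      srcChart chart' (i.hom u) i.hd i.f i.hf ≫ h = locMor chart (i.hom u) i.hd i.f i.hf := fun i =>
    hh.2 i.U i.hU i.U' i.hU' i.hle i.d i.hd i.f i.hf
  have hloc := fun i : PairElt g 𝒮 => locMor_comp u hP hP' i
  have w : h ≫ p = p' ≫ g := by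
    rw [← cancel_epi (RelProj.domQ u p' chart').ι]
    refine (domCover chart' u).hom_ext _ _ fun i => ?_
    show domChart chart' u i ≫ _ ≫ h ≫ p = domChart chart' u i ≫ _ ≫ p' ≫ g
    rw [reassoc_of% (domChart_ι (chart' := chart') u i), reassoc_of% (domChart_ι (chart' := chart') u i)]
    rw [reassoc_of% (hchart i)]
    exact hloc i
  choose A hAdef hopen hrange using fun i : PairElt g 𝒮 => exists_chart_openImmersion u hu hP hP' i (hloc i)
  let q := fun i : PairElt g 𝒮 => pullback.lift (f := p) (g := g) (locMor chart (i.hom u) i.hd i.f i.hf)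
        (srcChart chart' (i.hom u) i.hd i.f i.hf ≫ p') (by rw [Category.assoc]; exact hloc i)
  haveI : ∀ i, IsOpenImmersion (q i) := hopen
  let θ : P' ⟶ pullback p g := pullback.lift h p' w
  have hcomm : ∀ i, srcChart chart' (i.hom u) i.hd i.f i.hf ≫ θ = q i := fun i => by
    refine pullback.hom_ext ?_ ?_
    · rw [Category.assoc, pullback.lift_fst, pullback.lift_fst, hchart]
    · rw [Category.assoc, pullback.lift_snd, pullback.lift_snd]
  let 𝒰 : Scheme.OpenCover (pullback p g) :=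
    { I₀ := PairElt g 𝒮
      X := fun i => Spec (CommRingCat.of (Away (𝒮'.deg i.U' i.hU') (i.hom u i.f)))
      f := q
      mem₀ := by
        rw [Scheme.ofArrows_mem_precoverage_iff]
        refine ⟨fun z => ?_, fun i => inferInstance⟩
        obtain ⟨_, ⟨U, hU, rfl⟩, hzU, -⟩ := Y.isBasis_affineOpens.exists_subset_of_mem_open
          (Set.mem_univ (g (pullback.snd p g z))) isOpen_univ
        obtain ⟨_, ⟨U', hU', rfl⟩, hzU', hsub⟩ := Y'.isBasis_affineOpens.exists_subset_of_mem_open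
          (a := pullback.snd p g z) (u := ((g ⁻¹ᵁ U : Y'.Opens) : Set Y')) hzU (g ⁻¹ᵁ U).isOpen
        have hpz : p (pullback.fst p g z) ∈ U := by
          rw [← Scheme.Hom.comp_apply, pullback.condition, Scheme.Hom.comp_apply]
          exact hzU
        obtain ⟨y, hy⟩ := (opensRange_emb (p := p) (chart := chart) U hU).ge hpz
        obtain ⟨d, f, hd, hf, hfy⟩ := exists_homogeneous_notMem' (𝒜 := 𝒮.deg U hU)
          (I := y.asHomogeneousIdeal.toIdeal) y.not_irrelevant_le
        obtain ⟨t, ht⟩ := (Proj.opensRange_awayι _ f hf hd).ge hfy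
        refine ⟨⟨U, hU, U', hU', hsub, d, hd, f, hf⟩, hrange ⟨U, hU, U', hU', hsub, d, hd, f, hf⟩ ⟨⟨t, ?_⟩, hzU'⟩⟩
        rw [hAdef, Scheme.Hom.comp_apply, ht, hy] }
  have hiso : IsIso θ := by
    refine IsZariskiLocalAtTarget.of_openCover (P := MorphismProperty.isomorphisms Scheme.{u}) 𝒰 fun i => ?_
    obtain ⟨U, hU, U', hU', hle, d, hd, f, hf⟩ := i
    let j : PairElt g 𝒮 := ⟨U, hU, U', hU', hle, d, hd, f, hf⟩
    have hpre : θ ⁻¹ᵁ (q j).opensRange = (srcChart chart' (j.hom u) hd f hf).opensRange := by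
      refine le_antisymm (fun x hx => ?_) ?_
      · obtain ⟨t₀, ht₀⟩ := hx
        have hx' : p' x ∈ U' := by
          have h1 : pullback.snd p g (θ x) = p' x := by rw [← Scheme.Hom.comp_apply, pullback.lift_snd]
          rw [← h1, ← ht₀, ← Scheme.Hom.comp_apply, pullback.lift_snd, Scheme.Hom.comp_apply]
          exact (opensRange_emb (p := p') (chart := chart') U' hU').le ⟨_, (Scheme.Hom.comp_apply _ _ t₀).symm⟩
        obtain ⟨z, hz⟩ := (opensRange_emb (p := p') (chart := chart') U' hU').ge hx'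
        obtain ⟨e, g₀, he, hg, hgz⟩ := exists_homogeneous_of_mem_domOpen (u.gradedAt U hU U' hU' hle)
          (z := z) (by rw [domOpen_gradedAt_eq_top u hu U hU U' hU' hle]; trivial)
        let ψ := u.gradedAt U hU U' hU' hle
        obtain ⟨t, ht⟩ := (Proj.opensRange_awayι _ (ψ g₀) (ψ.2 hg) he).ge hgz
        have hxt : srcChart chart' ψ he g₀ hg t = x := by
          rw [Scheme.Hom.comp_apply, ht, hz]
        have hhx : h x = RelProj.emb p chart U hU (Proj.awayι (𝒮.deg U hU) g₀ hg he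
            (Spec.map (CommRingCat.ofHom (Away.map ψ g₀)) t)) := by
          rw [← hxt, ← Scheme.Hom.comp_apply]
          exact congrArg (fun k : Spec _ ⟶ P => k t) (hchart ⟨U, hU, U', hU', hle, e, he, g₀, hg⟩)
        have hhx' : h x = RelProj.emb p chart U hU (Proj.awayι (𝒮.deg U hU) f hf hd
            (Spec.map (CommRingCat.ofHom (Away.map ψ f)) t₀)) := by
          have h1 : pullback.fst p g (θ x) = h x := by rw [← Scheme.Hom.comp_apply, pullback.lift_fst]
          rw [← h1, ← ht₀, ← Scheme.Hom.comp_apply, pullback.lift_fst]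
          rfl
        have h2 : Proj.awayι (𝒮.deg U hU) g₀ hg he (Spec.map (CommRingCat.ofHom (Away.map ψ g₀)) t) ∈
            Proj.basicOpen (𝒮.deg U hU) f := by
          rw [(RelProj.emb p chart U hU).isOpenEmbedding.injective (hhx.symm.trans hhx')]
          exact (Proj.opensRange_awayι _ f hf hd).le ⟨_, rfl⟩
        have h5 := (Proj.awayι_preimage_basicOpen _ hg he hf hd).le h2
        have e5 : Away.map ψ g₀ (Away.isLocalizationElem hg hf) =
            Away.isLocalizationElem (ψ.2 hg) (ψ.2 hf) := by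
          apply HomogeneousLocalization.val_injective
          simp [Away.isLocalizationElem, Away.map_mk, map_pow]
        have h4 : z ∈ Proj.basicOpen (𝒮'.deg U' hU') (ψ f) := by
          rw [← ht]
          exact (Proj.awayι_preimage_basicOpen _ (ψ.2 hg) he (ψ.2 hf) hd).ge (e5 ▸ h5)
        rw [← hz]
        exact (mem_range_srcChart_iff (chart' := chart') ψ hd f hf z).mpr h4
      · rintro _ ⟨t, rfl⟩
        exact ⟨t, by rw [← hcomm, Scheme.Hom.comp_apply]⟩
    have sq : IsPullback (𝟙 _) (srcChart chart' (j.hom u) hd f hf) (q j) θ :=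
      IsOpenImmersion.isPullback _ _ _ _ (by rw [Category.id_comp]; exact hcomm j) hpre
    change MorphismProperty.isomorphisms _ (pullback.snd θ (q j))
    rw [← sq.flip.isoPullback_inv_snd]
    exact MorphismProperty.isomorphisms.infer_property _
  exact IsPullback.of_iso_pullback ⟨w⟩ (asIso θ) (pullback.lift_fst _ _ _) (pullback.lift_snd _ _ _)

end Groth.Agent.Proj16
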