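import Groth.Agent.Proj16.RLSigma

/-!
# The morphism into `Proj` of the ring of sections: quasi-compact with dense image
-/

universe u

open CategoryTheory CategoryTheory.Limits AlgebraicGeometry TopologicalSpace Opposite HomogeneousLocalization

set_option backward.isDefEq.respectTransparency false
set_option backward.isDefEq.respectTransparency.types false
set_option linter.style.haveILetI false
set_option linter.unusedSectionVars false

noncomputable section

namespace Groth.Agent.Proj16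

open Groth.Agent

/-- Over an affine base the relative `Proj` is a quasi-separated space. -/
theorem quasiSeparatedSpace_relProj {Y P : Scheme.{u}} {𝒜 : RelProj.QCGrAlg Y} (hY : IsAffineOpen (⊤ : Y.Opens))
    (p : P ⟶ Y)
    (chart : ∀ (U : Y.Opens) (hU : IsAffineOpen U), (((p ⁻¹ᵁ U : P.Opens) : Scheme.{u}) ≅ Proj (𝒜.deg U hU))) :
    QuasiSeparatedSpace P := by
  haveI : (Proj (𝒜.deg ⊤ hY)).IsSeparated :=
    ⟨by
      rw [← terminal.comp_from (Proj.toSpecZero (𝒜.deg ⊤ hY))]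
      infer_instance⟩
  let e : P ≅ Proj (𝒜.deg ⊤ hY) :=
    P.topIso.symm ≪≫ (P.isoOfEq (by simp)) ≪≫ chart ⊤ hY
  exact quasiSeparatedSpace_of_quasiSeparated e.hom

variable {X Y : Scheme.{u}} {f : X ⟶ Y} {𝒜 : RelProj.QCGrAlg Y} {𝒮L : RelProj.QCGrAlg X}
  (u : RelProj.QGrHom f 𝒜 𝒮L) {P PL : Scheme.{u}} {p : P ⟶ Y} {pL : PL ⟶ X}
  {chart : ∀ (U : Y.Opens) (hU : IsAffineOpen U), (((p ⁻¹ᵁ U : P.Opens) : Scheme.{u}) ≅ Proj (𝒜.deg U hU))}
  {chartL : ∀ (U : X.Opens) (hU : IsAffineOpen U), (((pL ⁻¹ᵁ U : PL.Opens) : Scheme.{u}) ≅ Proj (𝒮L.deg U hU))}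
  (hP : RelProj.IsRelProj 𝒜 p chart) (hPL : RelProj.IsRelProj 𝒮L pL chartL)
  (r : (RelProj.domQ u pL chartL : Scheme.{u}) ⟶ P)
  (hr : RelProj.IsProjQMapOn u p chart pL chartL (RelProj.domQ u pL chartL) r)

include hP hPL hr in
/-- Over an affine base, injectivity on global sections gives dominance. -/
theorem isDominant_of_injective_top (hY : IsAffineOpen (⊤ : Y.Opens)) [CompactSpace X]
    (hu : Function.Injective (u.app ⊤).hom) : IsDominant r := by
  refine ⟨fun y => mem_closure_iff.mpr fun o ho hyo => ?_⟩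
  obtain ⟨w, rfl⟩ : y ∈ (RelProj.emb p chart ⊤ hY).opensRange :=
    (opensRange_emb (p := p) (chart := chart) ⊤ hY).ge trivial
  obtain ⟨g, d, hd, hg, hwg, hgo⟩ := GrModX.exists_basicOpen_le (𝒜.deg ⊤ hY)
    (V := RelProj.emb p chart ⊤ hY ⁻¹ᵁ ⟨o, ho⟩) (y := w) hyo
  by_contra hno
  have hall : ∀ (V : X.Opens) (hV : IsAffineOpen V), IsNilpotent (u.gradedAt ⊤ hY V hV le_top g) := fun V hV =>
    (isNilpotent_iff_forall_notMem hd ((u.gradedAt ⊤ hY V hV le_top).2 hg)).mpr fun z hz => by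
      have hmem := emb_mem_domQ (p' := pL) (chart' := chartL) u hY hV le_top hd g hg z hz
      obtain ⟨y', hy', hyy⟩ := (apply_mem_image_iff u hY hV le_top hd g hg hP hPL r hr ⟨_, hmem⟩ z rfl).mpr hz
      exact hno ⟨_, hgo hy', ⟨_, hmem⟩, hyy.symm⟩
  obtain ⟨k, hk⟩ : ∃ k, (u.app ⊤).hom g ^ k = 0 := by
    classical
    choose O hO hxO using fun x : X => exists_isAffineOpen_mem_and_subset (x := x) (U := (⊤ : X.Opens)) trivial
    choose k hk using fun x => hall (O x) (hO x)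
    obtain ⟨S, hS⟩ := isCompact_univ.elim_finite_subcover (fun x => (O x : Set X)) (fun x => (O x).2)
      (fun x _ => Set.mem_iUnion.2 ⟨x, (hxO x).1⟩)
    refine ⟨S.sup k, SymX.toModule_ext (A := 𝒮L.toQCAlg) _ _ fun x _ => ?_⟩
    obtain ⟨x₀, hx₀, hx'⟩ := Set.mem_iUnion₂.1 (hS (Set.mem_univ x))
    refine ⟨O x₀, le_top, hx', ?_⟩
    rw [map_pow, map_zero]
    exact pow_eq_zero_of_le (Finset.le_sup hx₀) (hk x₀)
  have hnil : IsNilpotent g := ⟨k, hu (by rw [map_pow, map_zero]; exact hk)⟩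
  exact (isNilpotent_iff_forall_notMem hd hg).mp hnil w hwg

include hPL in
/-- The morphism is quasi-compact when it is defined everywhere on a quasi-compact scheme. -/
theorem quasiCompact_of_eq_top {L : X.Modules} {j : L ⟶ 𝒮L.toModule} (hL : PicF.IsInvertible L)
    (hLq : Coh.IsQCoh L) (hj : RelProj.IsGrSymAlg L 𝒮L j)
    (hY : IsAffineOpen (⊤ : Y.Opens)) [CompactSpace X] (p : P ⟶ Y)
    (chart : ∀ (U : Y.Opens) (hU : IsAffineOpen U), (((p ⁻¹ᵁ U : P.Opens) : Scheme.{u}) ≅ Proj (𝒜.deg U hU)))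
    (htop : RelProj.domQ u pL chartL = ⊤) :
    QuasiCompact r := by
  haveI := quasiSeparatedSpace_relProj hY p chart
  haveI : IsIso pL := SymX.isIso_relProj hL hLq hj pL chartL hPL
  haveI : CompactSpace PL := QuasiCompact.compactSpace_of_compactSpace pL
  haveI : CompactSpace (RelProj.domQ u pL chartL : Scheme.{u}) := by
    rw [htop]
    exact isCompact_iff_compactSpace.1 (by simpa using isCompact_univ)
  exact quasiCompact_of_compactSpace r

end Groth.Agent.Proj16
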