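import Groth.Agent.Proj16.ExistQMap
import Groth.Agent.SymX.LineBundle

/-!
# The morphism into `Proj` attached to an invertible module

Preimages of standard opens under the morphism induced by a graded morphism over a morphism of bases, and the
non-vanishing locus of a section of a power of an invertible module in the `Proj` of its symmetric algebra.
-/

universe u

open CategoryTheory CategoryTheory.Limits AlgebraicGeometry TopologicalSpace Opposite HomogeneousLocalization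
open scoped HomogeneousIdeal

set_option backward.isDefEq.respectTransparency false
set_option backward.isDefEq.respectTransparency.types false
set_option linter.style.haveILetI false
set_option linter.unusedSectionVars false

noncomputable section

namespace Groth.Agent.Proj16

section ring

variable {A B σ τ : Type u} [CommRing A] [CommRing B] [SetLike σ A] [AddSubgroupClass σ A]
  [SetLike τ B] [AddSubgroupClass τ B] {𝒜 : ℕ → σ} [GradedRing 𝒜] {ℬ : ℕ → τ} [GradedRing ℬ]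

/-- The map of standard charts pulls a standard open back to a standard open. -/
lemma awayMap_preimage_basicOpen (χ : 𝒜 →+*ᵍ ℬ) {d e : ℕ} (hd : 0 < d) (he : 0 < e) {h f : A} (hh : h ∈ 𝒜 d)
    (hf : f ∈ 𝒜 e) :
    (Spec.map (CommRingCat.ofHom (Away.map χ h)) ≫ Proj.awayι 𝒜 h hh hd) ⁻¹ᵁ Proj.basicOpen 𝒜 f =
      Proj.awayι ℬ (χ h) (χ.2 hh) hd ⁻¹ᵁ Proj.basicOpen ℬ (χ f) := by
  rw [Scheme.Hom.comp_preimage, Proj.awayι_preimage_basicOpen 𝒜 hh hd hf he]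
  refine Eq.trans ?_ (Proj.awayι_preimage_basicOpen ℬ (χ.2 hh) hd (χ.2 hf) he).symm
  have hel : Away.map χ h (Away.isLocalizationElem hh hf) = Away.isLocalizationElem (χ.2 hh) (χ.2 hf) := by
    apply HomogeneousLocalization.val_injective
    simp [Away.map_mk]
  rw [← hel]
  rfl

end ring

section general

variable {Y Y' P P' : Scheme.{u}} {g : Y' ⟶ Y} {𝒮 : RelProj.QCGrAlg Y} {𝒮' : RelProj.QCGrAlg Y'}
  {p : P ⟶ Y} {p' : P' ⟶ Y'}
  {chart : ∀ (U : Y.Opens) (hU : IsAffineOpen U), (((p ⁻¹ᵁ U : P.Opens) : Scheme.{u}) ≅ Proj (𝒮.deg U hU))}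
  {chart' : ∀ (U : Y'.Opens) (hU : IsAffineOpen U), (((p' ⁻¹ᵁ U : P'.Opens) : Scheme.{u}) ≅ Proj (𝒮'.deg U hU))}
  (u : RelProj.QGrHom g 𝒮 𝒮')
  {U : Y.Opens} (hU : IsAffineOpen U) {U' : Y'.Opens} (hU' : IsAffineOpen U') (hle : U' ≤ g ⁻¹ᵁ U)
  {d : ℕ} (hd : 0 < d) (f : 𝒮.presheaf.obj (op U)) (hf : f ∈ 𝒮.deg U hU d)

include hd hf in
/-- The standard opens of the image lie in the domain. -/
lemma emb_mem_domQ (z : Proj (𝒮'.deg U' hU'))
    (hz : z ∈ Proj.basicOpen (𝒮'.deg U' hU') (u.gradedAt U hU U' hU' hle f)) :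
    RelProj.emb p' chart' U' hU' z ∈ RelProj.domQ u p' chart' := by
  refine Opens.mem_iSup.mpr ⟨⟨(⟨U, hU⟩, ⟨U', hU'⟩), hle⟩, z, ?_, rfl⟩
  exact basicOpen_le_domOpen _ hd hf hz

include hd hf in
/-- The preimage of a standard open under `Proj(u)`. -/
lemma apply_mem_image_iff (hP : RelProj.IsRelProj 𝒮 p chart) (hP' : RelProj.IsRelProj 𝒮' p' chart')
    (r : (RelProj.domQ u p' chart' : Scheme.{u}) ⟶ P)
    (hr : RelProj.IsProjQMapOn u p chart p' chart' (RelProj.domQ u p' chart') r)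
    (x : (RelProj.domQ u p' chart' : Scheme.{u})) (z : Proj (𝒮'.deg U' hU'))
    (hz : RelProj.emb p' chart' U' hU' z = x.1) :
    r x ∈ (RelProj.emb p chart U hU) ''ᵁ Proj.basicOpen (𝒮.deg U hU) f ↔
      z ∈ Proj.basicOpen (𝒮'.deg U' hU') (u.gradedAt U hU U' hU' hle f) := by
  obtain ⟨⟨V, hV, V', hV', hle₂, e, he, h, hh⟩, t, ht⟩ : ∃ (i : PairElt g 𝒮) (t : _), domChart chart' u i t = x :=
    ⟨_, (domCover chart' u).covers x⟩
  have hxt : srcChart chart' (u.gradedAt V hV V' hV' hle₂) he h hh t = x.1 := by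
    rw [← domChart_ι u ⟨V, hV, V', hV', hle₂, e, he, h, hh⟩, Scheme.Hom.comp_apply, ht]
    rfl
  have hx₁ : p' x.1 ∈ U' := (opensRange_emb (p := p') (chart := chart') U' hU').le ⟨z, hz⟩
  have hx₂ : p' x.1 ∈ V' := (opensRange_emb (p := p') (chart := chart') V' hV').le
    ⟨_, (Scheme.Hom.comp_apply _ _ t).symm.trans hxt⟩
  obtain ⟨_, ⟨W, hW, rfl⟩, hgW, hWsub⟩ := Y.isBasis_affineOpens.exists_subset_of_mem_open
    (a := g (p' x.1)) (u := ((U ⊓ V : Y.Opens) : Set Y)) ⟨hle hx₁, hle₂ hx₂⟩ (U ⊓ V).isOpen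
  obtain ⟨_, ⟨W', hW', rfl⟩, hxW', hW'sub⟩ := Y'.isBasis_affineOpens.exists_subset_of_mem_open
    (a := p' x.1) (u := ((U' ⊓ V' ⊓ g ⁻¹ᵁ W : Y'.Opens) : Set Y')) ⟨⟨hx₁, hx₂⟩, hgW⟩ (U' ⊓ V' ⊓ g ⁻¹ᵁ W).isOpen
  have iU : W ≤ U := fun y hy => (hWsub hy).1
  have iV : W ≤ V := fun y hy => (hWsub hy).2
  have iU' : W' ≤ U' := fun y hy => (hW'sub hy).1.1
  have iV' : W' ≤ V' := fun y hy => (hW'sub hy).1.2
  have hleW : W' ≤ g ⁻¹ᵁ W := fun y hy => (hW'sub hy).2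
  let χ := u.gradedAt W hW W' hW' hleW
  let f₁ := 𝒮.res hU hW iU f
  let h₁ := 𝒮.res hV hW iV h
  have hf₁ : f₁ ∈ 𝒮.deg W hW d := (𝒮.res hU hW iU).2 hf
  have hh₁ : h₁ ∈ 𝒮.deg W hW e := (𝒮.res hV hW iV).2 hh
  obtain ⟨w, hw⟩ := (opensRange_emb (p := p') (chart := chart') W' hW').ge hxW'
  obtain ⟨s, hs⟩ : w ∈ Set.range (Proj.awayι (𝒮'.deg W' hW') (χ h₁) (χ.2 hh₁) he) := by
    have e1 : χ h₁ = 𝒮'.res hV' hW' iV' (u.gradedAt V hV V' hV' hle₂ h) :=
      (GradedRingHom.congr_fun (gradedAt_res u hV hW iV hV' hW' iV' hle₂ hleW) h).symm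
    obtain ⟨v, hv⟩ := (opensRange_emb (p := p') (chart := chart') V' hV').ge hx₂
    refine (Proj.opensRange_awayι _ (χ h₁) (χ.2 hh₁) he).ge ?_
    rw [e1, mem_basicOpen_iff_res hP' hV' hW' iV' w v (hw.trans hv.symm),
      ← mem_range_srcChart_iff (chart' := chart') _ he h hh, hv]
    exact ⟨t, hxt⟩
  have hxs : domChart chart' u ⟨W, hW, W', hW', hleW, e, he, h₁, hh₁⟩ s = x := by
    refine (RelProj.domQ u p' chart').ι.isOpenEmbedding.injective ?_
    rw [← Scheme.Hom.comp_apply, domChart_ι]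
    show srcChart chart' χ he h₁ hh₁ s = _
    rw [Scheme.Hom.comp_apply, hs, hw]
    rfl
  let y := (Spec.map (CommRingCat.ofHom (Away.map χ h₁)) ≫ Proj.awayι (𝒮.deg W hW) h₁ hh₁ he) s
  have hry : RelProj.emb p chart W hW y = r x := by
    have h1 : domChart chart' u ⟨W, hW, W', hW', hleW, e, he, h₁, hh₁⟩ ≫ r = locMor chart χ he h₁ hh₁ :=
      hr W hW W' hW' hleW e he h₁ hh₁ _
    rw [← hxs, ← Scheme.Hom.comp_apply (domChart chart' u _) r, h1, ← Scheme.Hom.comp_apply]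
    simp only [locMor, Category.assoc]
    rfl
  have hyf : y ∈ Proj.basicOpen (𝒮.deg W hW) f₁ ↔ w ∈ Proj.basicOpen (𝒮'.deg W' hW') (χ f₁) := by
    rw [← hs]
    exact (SetLike.ext_iff.mp (awayMap_preimage_basicOpen χ he hd hh₁ hf₁) s)
  have hef : χ f₁ = 𝒮'.res hU' hW' iU' (u.gradedAt U hU U' hU' hle f) :=
    (GradedRingHom.congr_fun (gradedAt_res u hU hW iU hU' hW' iU' hle hleW) f).symm
  rw [hef, mem_basicOpen_iff_res hP' hU' hW' iU' w z (hw.trans hz.symm)] at hyf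
  rw [← hyf]
  have hryU : p (r x) ∈ U := iU ((opensRange_emb (p := p) (chart := chart) W hW).le ⟨y, hry⟩)
  obtain ⟨y₀, hy₀⟩ := (opensRange_emb (p := p) (chart := chart) U hU).ge hryU
  rw [show y ∈ Proj.basicOpen (𝒮.deg W hW) f₁ ↔ y₀ ∈ Proj.basicOpen (𝒮.deg U hU) f from
    mem_basicOpen_iff_res hP hU hW iU y y₀ (hry.trans hy₀.symm) f, ← hy₀]
  exact ⟨fun ⟨y', hy', hyy⟩ => (RelProj.emb p chart U hU).isOpenEmbedding.injective hyy ▸ hy', fun h => ⟨y₀, h, rfl⟩⟩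

omit hd hf in
/-- A point of the domain over an affine open lies in the standard open of an element over that open. -/
lemma exists_mem_basicOpen_of_mem_domQ (hP' : RelProj.IsRelProj 𝒮' p' chart') {x : P'}
    (hx : x ∈ RelProj.domQ u p' chart') (hxU : g (p' x) ∈ U) :
    ∃ (U'' : Y'.Opens) (hU'' : IsAffineOpen U'') (hle'' : U'' ≤ g ⁻¹ᵁ U) (z : Proj (𝒮'.deg U'' hU''))
      (n : ℕ) (s : 𝒮.presheaf.obj (op U)), 0 < n ∧ s ∈ 𝒮.deg U hU n ∧
      RelProj.emb p' chart' U'' hU'' z = x ∧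
      z ∈ Proj.basicOpen (𝒮'.deg U'' hU'') (u.gradedAt U hU U'' hU'' hle'' s) := by
  obtain ⟨⟨⟨⟨V, hV⟩, ⟨V', hV'⟩⟩, hle₂⟩, v, hv, hvx⟩ := Opens.mem_iSup.mp hx
  obtain ⟨e, h, he, hh, hhv⟩ := exists_homogeneous_of_mem_domOpen _ hv
  have hx₂ : p' x ∈ V' := (opensRange_emb (p := p') (chart := chart') V' hV').le ⟨v, hvx⟩
  obtain ⟨a, b, hab, hxa⟩ := exists_basicOpen_le_affine_inter hU hV _ ⟨hxU, hle₂ hx₂⟩
  have hW : IsAffineOpen (Y.basicOpen a) := hU.basicOpen a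
  have iU : Y.basicOpen a ≤ U := Y.basicOpen_le a
  have iV : Y.basicOpen a ≤ V := hab.le.trans (Y.basicOpen_le b)
  obtain ⟨_, ⟨W', hW', rfl⟩, hxW', hW'sub⟩ := Y'.isBasis_affineOpens.exists_subset_of_mem_open
    (a := p' x) (u := ((V' ⊓ g ⁻¹ᵁ Y.basicOpen a : Y'.Opens) : Set Y')) ⟨hx₂, hxa⟩ (V' ⊓ g ⁻¹ᵁ _).isOpen
  have iV' : W' ≤ V' := fun y hy => (hW'sub hy).1
  have hleW : W' ≤ g ⁻¹ᵁ Y.basicOpen a := fun y hy => (hW'sub hy).2
  have hleU : W' ≤ g ⁻¹ᵁ U := fun y hy => iU (hleW hy)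
  obtain ⟨w, hw⟩ := (opensRange_emb (p := p') (chart := chart') W' hW').ge hxW'
  let χ := u.gradedAt (Y.basicOpen a) hW W' hW' hleW
  have e2 : (χ.comp (𝒮.res hV hW iV) : 𝒮.deg V hV →+*ᵍ 𝒮'.deg W' hW') =
      (𝒮'.res hV' hW' iV').comp (u.gradedAt V hV V' hV' hle₂) :=
    (gradedAt_res u hV hW iV hV' hW' iV' hle₂ hleW).symm
  have e1 : (χ.comp (𝒮.res hU hW iU) : 𝒮.deg U hU →+*ᵍ 𝒮'.deg W' hW') = u.gradedAt U hU W' hW' hleU := by
    refine (gradedAt_res u hU hW iU hW' hW' le_rfl hleU hleW).symm.trans (GradedRingHom.ext fun y => ?_)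
    show (𝒮'.presheaf.map (homOfLE (le_refl W')).op) _ = _
    rw [show (homOfLE (le_refl W')).op = 𝟙 _ from rfl, 𝒮'.presheaf.map_id]
    rfl
  have hhw : χ (𝒮.res hV hW iV h) ∉ w.asHomogeneousIdeal.toIdeal := by
    rw [show χ (𝒮.res hV hW iV h) = _ from GradedRingHom.congr_fun e2 h]
    exact (mem_basicOpen_iff_res hP' hV' hW' iV' w v (hw.trans hvx.symm) _).mpr hhv
  obtain ⟨n, s, hn, hs, hsw⟩ := exists_homogeneous_notMem' (𝒜 := 𝒮.deg U hU)
    (I := (w.asHomogeneousIdeal.toIdeal.comap χ).comap (𝒮.res hU hW iU)) (fun hle => hhw (by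
      refine (le_trans (show ((𝒮.deg _ hW)₊).toIdeal ≤ _ from irrelevant_le_res 𝒮 hU hW iU ⟨a, rfl⟩)
        (Ideal.map_le_iff_le_comap.mpr hle)) ?_
      exact HomogeneousIdeal.mem_irrelevant_of_mem _ he ((𝒮.res hV hW iV).2 hh)))
  refine ⟨W', hW', hleU, w, n, s, hn, hs, hw, ?_⟩
  rw [← GradedRingHom.congr_fun e1 s]
  exact hsw

end general

section symalg

variable {X PL : Scheme.{u}} {L : X.Modules} {𝒮L : RelProj.QCGrAlg X} {j : L ⟶ 𝒮L.toModule}
  {pL : PL ⟶ X}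
  {chartL : ∀ (U : X.Opens) (hU : IsAffineOpen U), (((pL ⁻¹ᵁ U : PL.Opens) : Scheme.{u}) ≅ Proj (𝒮L.deg U hU))}

/-- The scalars and the base: over a chart of degree one, `D₊(r x)` is the part over `D(r)`. -/
lemma mem_basicOpen_str_mul_iff (hPL : RelProj.IsRelProj 𝒮L pL chartL) {V : X.Opens} (hV : IsAffineOpen V)
    {x : 𝒮L.presheaf.obj (op V)} (hx : x ∈ 𝒮L.deg V hV 1) (r : Γ(X, V)) (z : Proj (𝒮L.deg V hV))
    (hz : z ∈ Proj.basicOpen (𝒮L.deg V hV) x) :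
    z ∈ Proj.basicOpen (𝒮L.deg V hV) ((𝒮L.str.app (op V)).hom r * x) ↔
      pL (RelProj.emb pL chartL V hV z) ∈ X.basicOpen r := by
  have hrx : (𝒮L.str.app (op V)).hom r * x ∈ 𝒮L.deg V hV 1 := by
    simpa only [zero_add] using SetLike.mul_mem_graded (𝒮L.str_mem V hV r) hx
  have eB : RelProj.emb pL chartL V hV ≫ pL =
      Proj.toSpecZero (𝒮L.deg V hV) ≫ Spec.map (𝒮L.strZero V hV) ≫ hV.fromSpec := by
    show ((chartL V hV).inv ≫ (pL ⁻¹ᵁ V).ι) ≫ pL = _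
    rw [Category.assoc, ← hPL.chart_over V hV, Iso.inv_hom_id_assoc]
  obtain ⟨t, rfl⟩ := (Proj.opensRange_awayι _ x hx one_pos).ge hz
  have key : Proj.awayι (𝒮L.deg V hV) x hx one_pos ⁻¹ᵁ
        Proj.basicOpen (𝒮L.deg V hV) ((𝒮L.str.app (op V)).hom r * x) =
      (Proj.awayι (𝒮L.deg V hV) x hx one_pos ≫ RelProj.emb pL chartL V hV ≫ pL) ⁻¹ᵁ X.basicOpen r := by
    rw [eB, Proj.awayι_toSpecZero_assoc, ← Spec.map_comp_assoc, Scheme.Hom.comp_preimage,
      hV.fromSpec_preimage_basicOpen, Proj.awayι_preimage_basicOpen _ hx one_pos hrx one_pos]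
    have hel : (Away.isLocalizationElem hx hrx :) =
        fromZeroRingHom (𝒮L.deg V hV) (Submonoid.powers x) ((𝒮L.strZero V hV).hom r) := by
      apply HomogeneousLocalization.val_injective
      rw [Away.val_mk]
      show _ = Localization.mk ((𝒮L.str.app (op V)).hom r) 1
      rw [Localization.mk_eq_mk_iff, Localization.r_iff_exists]
      exact ⟨1, by simp only [Submonoid.coe_one, one_mul, pow_one]; ring⟩
    rw [hel]
    rfl
  exact SetLike.ext_iff.mp key t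

variable (hL : PicF.IsInvertible L) (hLq : Coh.IsQCoh L) (hj : RelProj.IsGrSymAlg L 𝒮L j)
include hLq hj

/-- If a degree `d` element generates the degree `d` part, it vanishes nowhere. -/
lemma basicOpen_eq_top_of_deg_le {V : X.Opens} (hV : IsAffineOpen V) {d : ℕ}
    {t : 𝒮L.presheaf.obj (op V)}
    (h : ((𝒮L.deg V hV d : AddSubgroup (𝒮L.presheaf.obj (op V))) : Set (𝒮L.presheaf.obj (op V))) ⊆
      (Ideal.span {t} : Set (𝒮L.presheaf.obj (op V)))) :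
    Proj.basicOpen (𝒮L.deg V hV) t = ⊤ := by
  refine top_unique fun z _ => ?_
  have h1 := ProjX.iSup_basicOpen_deg_one (SymX.isGenDegOne_of_isGrSymAlg hLq hj) V hV _
    (Ideal.subset_span (s := (𝒮L.deg V hV 1 : Set (𝒮L.presheaf.obj (op V)))))
  obtain ⟨⟨x, hx⟩, hzx⟩ := Opens.mem_iSup.mp (h1.ge (Opens.mem_top z))
  intro htz
  have hxd : x ^ d ∈ Ideal.span {t} := h (show x ^ d ∈ 𝒮L.deg V hV d by
    simpa only [smul_eq_mul, mul_one] using SetLike.pow_mem_graded d hx)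
  exact hzx (z.isPrime.mem_of_pow_mem d ((Ideal.span_singleton_le_iff_mem _).mpr htz hxd))

include hL hLq hj in
/-- The converse, locally. -/
lemma exists_affine_deg_le (hPL : RelProj.IsRelProj 𝒮L pL chartL) {V : X.Opens} (hV : IsAffineOpen V)
    {d : ℕ} (hd : 0 < d) {t : 𝒮L.presheaf.obj (op V)} (ht : t ∈ 𝒮L.deg V hV d) (z : Proj (𝒮L.deg V hV))
    (hz : z ∈ Proj.basicOpen (𝒮L.deg V hV) t) :
    ∃ (V' : X.Opens) (hV' : IsAffineOpen V') (i : V' ≤ V), pL (RelProj.emb pL chartL V hV z) ∈ V' ∧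
      ((𝒮L.deg V' hV' d : AddSubgroup (𝒮L.presheaf.obj (op V'))) : Set (𝒮L.presheaf.obj (op V'))) ⊆
        (Ideal.span {𝒮L.res hV hV' i t} : Set (𝒮L.presheaf.obj (op V'))) := by
  let C := (SymX.nonempty_chartwise hLq hj).some
  obtain ⟨d', rfl⟩ : ∃ d', d = d' + 1 := ⟨d - 1, by omega⟩
  obtain ⟨U, hxU, e, he⟩ := InvX.exists_frame hL (pL (RelProj.emb pL chartL V hV z))
  have hxV : pL (RelProj.emb pL chartL V hV z) ∈ V :=
    (opensRange_emb (p := pL) (chart := chartL) V hV).le ⟨z, rfl⟩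
  obtain ⟨_, ⟨W, hW, rfl⟩, hxW, hWsub⟩ := X.isBasis_affineOpens.exists_subset_of_mem_open
    (a := pL (RelProj.emb pL chartL V hV z)) (u := ((U ⊓ V : X.Opens) : Set X)) ⟨hxU, hxV⟩ (U ⊓ V).isOpen
  have iU : W ≤ U := fun y hy => (hWsub hy).1
  have iV : W ≤ V := fun y hy => (hWsub hy).2
  have heW := he.res iU
  have hdesc : ∀ (V' : X.Opens) (hV' : IsAffineOpen V') (e' : Γ(L, V')), InvX.IsFrame e' → ∀ n,
      ∀ y ∈ 𝒮L.deg V' hV' n, ∃ r : Γ(X, V'), y = (𝒮L.str.app (op V')).hom r *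
        (show 𝒮L.presheaf.obj (op V') from j.app V' e') ^ n := by
    intro V' hV' e' he' n y hy
    let φ := (C.φ ⟨V', hV'⟩).commRingCatIsoToRingEquiv
    have hbij : Function.Bijective fun r : Γ(X, V') => r • e' := by
      have := he' V' le_rfl
      simpa only [AModX.res_self] using this
    obtain ⟨r, hr⟩ := SymX.mem_symDeg_span hbij.2 ((C.deg_iff ⟨V', hV'⟩ n y).1 hy)
    refine ⟨r, φ.injective (hr.trans ?_)⟩
    rw [map_mul, map_pow]
    exact congr_arg₂ (· * ·) congr($(C.str ⟨V', hV'⟩).hom r).symm (congrArg (· ^ n) (C.j_app ⟨V', hV'⟩ e').symm)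
  let eW : 𝒮L.presheaf.obj (op W) := j.app W (AModX.res L iU e)
  obtain ⟨r, hr⟩ := hdesc W hW _ heW _ _ ((𝒮L.res hV hW iV).2 ht)
  obtain ⟨w, hw⟩ := (opensRange_emb (p := pL) (chart := chartL) W hW).ge hxW
  have htw := (mem_basicOpen_iff_res hPL hV hW iV w z hw t).mpr hz
  replace htw : w ∈ Proj.basicOpen (𝒮L.deg W hW) ((𝒮L.str.app (op W)).hom r * eW ^ (d' + 1)) :=
    (congrArg (fun a => w ∈ Proj.basicOpen (𝒮L.deg W hW) a) hr).mp htw
  have hwe : w ∈ Proj.basicOpen (𝒮L.deg W hW) eW := by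
    rw [show Proj.basicOpen (𝒮L.deg W hW) eW = ⊤ from SymX.basicOpen_frame_eq_top C W hW heW]
    trivial
  have hwr : w ∈ Proj.basicOpen (𝒮L.deg W hW) ((𝒮L.str.app (op W)).hom r * eW) := by
    rw [Proj.basicOpen_mul] at htw ⊢
    exact ⟨htw.1, hwe⟩
  have hxr := (mem_basicOpen_str_mul_iff hPL hW (hj.2 W hW _) r w hwe).mp hwr
  rw [hw] at hxr
  have i : X.basicOpen r ≤ W := X.basicOpen_le r
  refine ⟨X.basicOpen r, hW.basicOpen r, i.trans iV, hxr, fun y hy => ?_⟩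
  obtain ⟨a, ha⟩ := hdesc _ (hW.basicOpen r) _ (heW.res i) _ y hy
  obtain ⟨c, hc⟩ : ∃ c : Γ(X, X.basicOpen r), c * X.presheaf.map (homOfLE i).op r = 1 :=
    (X.toRingedSpace.isUnit_res_basicOpen r).exists_left_inv
  refine Ideal.mem_span_singleton.mpr ⟨(𝒮L.str.app (op (X.basicOpen r))).hom (a * c), ?_⟩
  have hres : 𝒮L.res hV (hW.basicOpen r) (i.trans iV) t =
      (𝒮L.str.app (op (X.basicOpen r))).hom (X.presheaf.map (homOfLE i).op r) *
        (show 𝒮L.presheaf.obj (op (X.basicOpen r)) from j.app (X.basicOpen r) (AModX.res L i (AModX.res L iU e))) ^ (d' + 1) := by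
    rw [← SymX.res_res hV hW (hW.basicOpen r) iV i (i.trans iV) t]
    refine (congrArg (𝒮L.res hW (hW.basicOpen r) i) hr).trans ?_
    rw [map_mul, map_pow]
    refine congr_arg₂ (· * ·) ?_ (congrArg (· ^ (d' + 1)) ?_)
    · exact (ConcreteCategory.congr_hom (𝒮L.str.naturality (homOfLE i).op) r).symm
    · exact (congr($(j.mapPresheaf.naturality (homOfLE i).op).hom _)).symm
  have h1 : (𝒮L.str.app (op (X.basicOpen r))).hom c *
      (𝒮L.str.app (op (X.basicOpen r))).hom (X.presheaf.map (homOfLE i).op r) = 1 := by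
    rw [← map_mul, hc, map_one]
  rw [ha, hres, map_mul]
  generalize (𝒮L.str.app (op (X.basicOpen r))).hom a = A at *
  generalize (𝒮L.str.app (op (X.basicOpen r))).hom (X.presheaf.map (homOfLE i).op r) = R at *
  generalize (𝒮L.str.app (op (X.basicOpen r))).hom c = c' at *
  generalize (show 𝒮L.presheaf.obj (op (X.basicOpen r)) from
    j.app (X.basicOpen r) (AModX.res L i (AModX.res L iU e))) ^ (d' + 1) = E
  show A * E = _
  rw [show A * E = A * (c' * R) * E by rw [h1, mul_one]]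
  ring

end symalg

end Groth.Agent.Proj16
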