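import Groth.Agent.Proj16.RLPsiComp
import Groth.Agent.GrModX.MapProps

/-!
# The morphism into `Proj` of a filtered colimit of graded algebras
-/

universe u

open CategoryTheory CategoryTheory.Limits AlgebraicGeometry TopologicalSpace Opposite HomogeneousLocalization
open scoped HomogeneousIdeal

set_option backward.isDefEq.respectTransparency false
set_option backward.isDefEq.respectTransparency.types false
set_option linter.unusedSectionVars false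

noncomputable section

namespace Groth.Agent.Proj16

/-- A homogeneous element of positive degree is nilpotent when its standard open is empty. -/
lemma isNilpotent_iff_forall_notMem {A σ : Type u} [CommRing A] [SetLike σ A] [AddSubgroupClass σ A] {𝒜 : ℕ → σ}
    [GradedRing 𝒜] {d : ℕ} (hd : 0 < d) {f : A} (hf : f ∈ 𝒜 d) :
    IsNilpotent f ↔ ∀ y : Proj 𝒜, y ∉ Proj.basicOpen 𝒜 f := by
  refine ⟨fun ⟨k, hk⟩ y hy => hy (y.isPrime.mem_of_pow_mem k (hk ▸ zero_mem _)), fun h => ?_⟩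
  rw [← mem_nilradical, nilradical_eq_sInf, Submodule.mem_sInf]
  intro P hP
  by_contra hfP
  have hle := Ideal.toIdeal_homogeneousCore_le 𝒜 P
  exact h ⟨Ideal.homogeneousCore 𝒜 P, Ideal.IsPrime.homogeneousCore hP,
    fun hirr => hfP (hle (hirr (HomogeneousIdeal.mem_irrelevant_of_mem _ hd hf)))⟩ fun hm => hfP (hle hm)

section dominant

variable {Y Y' P P' : Scheme.{u}} {g : Y' ⟶ Y} {𝒮 : RelProj.QCGrAlg Y} {𝒮' : RelProj.QCGrAlg Y'}
  {p : P ⟶ Y} {p' : P' ⟶ Y'}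
  {chart : ∀ (U : Y.Opens) (hU : IsAffineOpen U), (((p ⁻¹ᵁ U : P.Opens) : Scheme.{u}) ≅ Proj (𝒮.deg U hU))}
  {chart' : ∀ (U : Y'.Opens) (hU : IsAffineOpen U), (((p' ⁻¹ᵁ U : P'.Opens) : Scheme.{u}) ≅ Proj (𝒮'.deg U hU))}

/-- Dominance of `Proj(u)` on standard opens. -/
theorem isDominant_iff (u : RelProj.QGrHom g 𝒮 𝒮') (hP : RelProj.IsRelProj 𝒮 p chart)
    (hP' : RelProj.IsRelProj 𝒮' p' chart') (r : (RelProj.domQ u p' chart' : Scheme.{u}) ⟶ P)
    (hr : RelProj.IsProjQMapOn u p chart p' chart' (RelProj.domQ u p' chart') r) :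
    IsDominant r ↔ ∀ (U : Y.Opens) (hU : IsAffineOpen U) (d : ℕ) (f : 𝒮.presheaf.obj (op U)), 0 < d →
      f ∈ 𝒮.deg U hU d → ¬ IsNilpotent f →
      ∃ (U' : Y'.Opens) (hU' : IsAffineOpen U') (hle : U' ≤ g ⁻¹ᵁ U) (z : Proj (𝒮'.deg U' hU')),
        z ∈ Proj.basicOpen (𝒮'.deg U' hU') (u.gradedAt U hU U' hU' hle f) := by
  constructor
  · intro hdom U hU d f hd hf hne
    obtain ⟨y, hy⟩ := not_forall.mp fun hall => hne ((isNilpotent_iff_forall_notMem hd hf).mpr hall)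
    rw [not_not] at hy
    obtain ⟨_, hxo, x, rfl⟩ := mem_closure_iff.mp (hdom.denseRange (RelProj.emb p chart U hU y))
      (((RelProj.emb p chart U hU) ''ᵁ Proj.basicOpen (𝒮.deg U hU) f : P.Opens) : Set P)
      (Opens.isOpen _) ⟨y, hy, rfl⟩
    have hxq : g (p' x.1) ∈ U := by
      have e := congrArg (fun k : (RelProj.domQ u p' chart' : Scheme.{u}) ⟶ Y => k x)
        ((existsUnique_projQMapOn u hP hP').2 r hr)
      obtain ⟨y', -, hyy⟩ := hxo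
      exact (show p (r x) = g (p' x.1) from e) ▸
        (opensRange_emb (p := p) (chart := chart) U hU).le ⟨y', hyy⟩
    obtain ⟨_, ⟨U', hU', rfl⟩, hxU', hU'sub⟩ := Y'.isBasis_affineOpens.exists_subset_of_mem_open
      (a := p' x.1) (u := ((g ⁻¹ᵁ U : Y'.Opens) : Set Y')) hxq (g ⁻¹ᵁ U).isOpen
    obtain ⟨z, hz⟩ := (opensRange_emb (p := p') (chart := chart') U' hU').ge hxU'
    exact ⟨U', hU', hU'sub, z, (apply_mem_image_iff u hU hU' hU'sub hd f hf hP hP' r hr x z hz).mp hxo⟩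
  · intro h
    refine ⟨fun y => mem_closure_iff.mpr fun o ho hyo => ?_⟩
    obtain ⟨_, ⟨U, hU, rfl⟩, hyU, -⟩ := Y.isBasis_affineOpens.exists_subset_of_mem_open
      (Set.mem_univ (p y)) isOpen_univ
    obtain ⟨w, hw⟩ : y ∈ (RelProj.emb p chart U hU).opensRange := (opensRange_emb (p := p) (chart := chart) U hU).ge hyU
    subst hw
    obtain ⟨f, d, hd, hf, hwf, hfo⟩ := GrModX.exists_basicOpen_le (𝒮.deg U hU)
      (V := RelProj.emb p chart U hU ⁻¹ᵁ ⟨o, ho⟩) (y := w) hyo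
    obtain ⟨U', hU', hle, z, hz⟩ := h U hU d f hd hf fun hn => (isNilpotent_iff_forall_notMem hd hf).mp hn w hwf
    have hmem := emb_mem_domQ (p' := p') (chart' := chart') u hU hU' hle hd f hf z hz
    obtain ⟨y', hy', hyy⟩ := (apply_mem_image_iff u hU hU' hle hd f hf hP hP' r hr ⟨_, hmem⟩ z rfl).mpr hz
    exact ⟨_, hfo hy', ⟨_, hmem⟩, hyy.symm⟩

end dominant

variable {Y : Scheme.{u}} {𝒮 : RelProj.QCGrAlg Y} {Λ : Type u} [Preorder Λ]
  (𝒮i : Λ → RelProj.QCGrAlg Y) (φ : ∀ i, (𝒮i i).toQCAlg ⟶ 𝒮.toQCAlg) (hφ : ∀ i, RelProj.IsGradedHom (φ i))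
  (hsurj : ∀ (U : Y.Opens), IsAffineOpen U → ∀ x : 𝒮.presheaf.obj (op U),
    ∃ (i : Λ) (y : (𝒮i i).presheaf.obj (op U)), ((φ i).hom.app (op U)).hom y = x)

include hφ hsurj in
/-- A homogeneous element lifts to a homogeneous element. -/
lemma exists_homogeneous_lift (U : Y.Opens) (hU : IsAffineOpen U) (d : ℕ) {x : 𝒮.presheaf.obj (op U)}
    (hx : x ∈ 𝒮.deg U hU d) :
    ∃ (i : Λ) (y : (𝒮i i).presheaf.obj (op U)),
      y ∈ (𝒮i i).deg U hU d ∧ ((φ i).hom.app (op U)).hom y = x := by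
  obtain ⟨i, y, hy⟩ := hsurj U hU x
  refine ⟨i, DirectSum.decompose ((𝒮i i).deg U hU) y d, SetLike.coe_mem _, ?_⟩
  refine Eq.trans (map_directSumDecompose ((𝒮i i).deg U hU) (𝒮.deg U hU) (RelProj.gradedHomAt (φ i) (hφ i) U hU)) ?_
  show (DirectSum.decompose (𝒮.deg U hU) (((φ i).hom.app (op U)).hom y) d : 𝒮.presheaf.obj (op U)) = x
  rw [hy, DirectSum.decompose_of_mem_same _ hx]

variable {X PL : Scheme.{u}} {q : X ⟶ Y} {𝒮L : RelProj.QCGrAlg X} {pL : PL ⟶ X}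
  {chartL : ∀ (U : X.Opens) (hU : IsAffineOpen U), (((pL ⁻¹ᵁ U : PL.Opens) : Scheme.{u}) ≅ Proj (𝒮L.deg U hU))}
  (u : RelProj.QGrHom q 𝒮 𝒮L) (ui : ∀ i, RelProj.QGrHom q (𝒮i i) 𝒮L)
  (hui : ∀ i (U : Y.Opens), (ui i).app U = (φ i).hom.app (op U) ≫ u.app U)

include hφ hsurj hui in
/-- The domain is the union of the domains. -/
lemma domQ_eq_iSup : RelProj.domQ u pL chartL = ⨆ i, RelProj.domQ (ui i) pL chartL := by
  refine le_antisymm (iSup_le fun V => ?_) (iSup_le fun i => domQ_comp_le u (φ i) (hφ i) (ui i) (hui i))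
  rintro _ ⟨z, hz, rfl⟩
  obtain ⟨d, f, hd, hf, hfz⟩ := exists_homogeneous_of_mem_domOpen _ hz
  obtain ⟨i, y, hy, hyf⟩ := exists_homogeneous_lift 𝒮i φ hφ hsurj V.1.1.1 V.1.1.2 d hf
  refine Opens.mem_iSup.mpr ⟨i, emb_mem_domQ (ui i) V.1.1.2 V.1.2.2 V.2 hd y hy z ?_⟩
  rw [show (ui i).gradedAt V.1.1.1 V.1.1.2 V.1.2.1 V.1.2.2 V.2 y = _ from
    GradedRingHom.congr_fun (gradedAt_comp u (φ i) (hφ i) (ui i) (hui i) V.1.1.1 V.1.1.2 V.1.2.1 V.1.2.2 V.2) y]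
  show z ∈ Proj.basicOpen _ ((u.gradedAt V.1.1.1 V.1.1.2 V.1.2.1 V.1.2.2 V.2) (((φ i).hom.app (op _)).hom y))
  rw [hyf]
  exact hfz

variable (t : ∀ i j, i ≤ j → ((𝒮i i).toQCAlg ⟶ (𝒮i j).toQCAlg))
  (ht : ∀ i j (h : i ≤ j), RelProj.IsGradedHom (t i j h)) (hφt : ∀ i j (h : i ≤ j), t i j h ≫ φ j = φ i)

include hui hφt in
lemma app_trans {i j : Λ} (h : i ≤ j) (U : Y.Opens) :
    (ui i).app U = (t i j h).hom.app (op U) ≫ (ui j).app U := by
  rw [hui, hui, ← Category.assoc]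
  congr 1
  rw [← hφt i j h]
  rfl

include hui hφt ht in
lemma domQ_mono {i j : Λ} (h : i ≤ j) :
    RelProj.domQ (ui i) pL chartL ≤ RelProj.domQ (ui j) pL chartL :=
  domQ_comp_le (ui j) (t i j h) (ht i j h) (ui i) (app_trans 𝒮i φ u ui hui t hφt h)

include hφ hsurj hui ht hφt in
/-- Everywhere defined at a finite stage. -/
lemma domQ_eq_top_iff_exists [CompactSpace PL] [Nonempty Λ] [IsDirected Λ (· ≤ ·)] :
    RelProj.domQ u pL chartL = ⊤ ↔ ∃ i, RelProj.domQ (ui i) pL chartL = ⊤ := by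
  refine ⟨fun h => ?_, fun ⟨i, hi⟩ => top_unique (hi ▸ domQ_comp_le u (φ i) (hφ i) (ui i) (hui i))⟩
  obtain ⟨i, hi⟩ := isCompact_univ.elim_directed_cover (fun i => (RelProj.domQ (ui i) pL chartL : Set PL))
    (fun i => (RelProj.domQ (ui i) pL chartL).isOpen)
    (fun x _ => by
      have hx : x ∈ RelProj.domQ u pL chartL := h.ge (Opens.mem_top x)
      rw [domQ_eq_iSup 𝒮i φ hφ hsurj u ui hui, Opens.mem_iSup] at hx
      exact Set.mem_iUnion.mpr hx)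
    (fun i j => by
      obtain ⟨k, hik, hjk⟩ := exists_ge_ge i j
      exact ⟨k, domQ_mono 𝒮i φ u ui hui t ht hφt hik, domQ_mono 𝒮i φ u ui hui t ht hφt hjk⟩)
  exact ⟨i, top_unique fun x _ => hi (Set.mem_univ x)⟩

end Groth.Agent.Proj16
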