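import Groth.Agent.Proj16.RLPsi
import Groth.Agent.GrModX.MapProps
import Groth.Agent.S12144

/-!
# When is the morphism attached to an invertible module an immersion
-/

universe u

open CategoryTheory CategoryTheory.Limits AlgebraicGeometry TopologicalSpace Opposite HomogeneousLocalization
open scoped HomogeneousIdeal

set_option backward.isDefEq.respectTransparency false
set_option backward.isDefEq.respectTransparency.types false
set_option linter.style.haveILetI false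
set_option linter.unusedSectionVars false

noncomputable section

namespace Groth.Agent.Proj16

section general

variable {Y Y' P P' : Scheme.{u}} {g : Y' ⟶ Y} {𝒮 : RelProj.QCGrAlg Y} {𝒮' : RelProj.QCGrAlg Y'}
  {p : P ⟶ Y} {p' : P' ⟶ Y'}
  {chart : ∀ (U : Y.Opens) (hU : IsAffineOpen U), (((p ⁻¹ᵁ U : P.Opens) : Scheme.{u}) ≅ Proj (𝒮.deg U hU))}
  {chart' : ∀ (U : Y'.Opens) (hU : IsAffineOpen U), (((p' ⁻¹ᵁ U : P'.Opens) : Scheme.{u}) ≅ Proj (𝒮'.deg U hU))}
  (u : RelProj.QGrHom g 𝒮 𝒮')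
  {U : Y.Opens} (hU : IsAffineOpen U) {U' : Y'.Opens} (hU' : IsAffineOpen U') (hle : U' ≤ g ⁻¹ᵁ U)
  {d : ℕ} (hd : 0 < d) (f : 𝒮.presheaf.obj (op U)) (hf : f ∈ 𝒮.deg U hU d)
  (hP : RelProj.IsRelProj 𝒮 p chart) (hP' : RelProj.IsRelProj 𝒮' p' chart')
  (r : (RelProj.domQ u p' chart' : Scheme.{u}) ⟶ P)
  (hr : RelProj.IsProjQMapOn u p chart p' chart' (RelProj.domQ u p' chart') r)

include hd hf hP hP' hr in
/-- Over a standard open whose preimage lies over one affine open, `Proj(u)` is `Spec` of the map of standard rings. -/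
theorem restrict_iff (Pr : MorphismProperty Scheme.{u}) [Pr.RespectsIso]
    (hpre : ∀ x : (RelProj.domQ u p' chart' : Scheme.{u}),
      r x ∈ (RelProj.emb p chart U hU) ''ᵁ Proj.basicOpen (𝒮.deg U hU) f → p' x.1 ∈ U') :
    Pr (r ∣_ ((RelProj.emb p chart U hU) ''ᵁ Proj.basicOpen (𝒮.deg U hU) f)) ↔
      Pr (Spec.map (CommRingCat.ofHom (Away.map (u.gradedAt U hU U' hU' hle) f))) := by
  let a := Proj.awayι (𝒮.deg U hU) f hf hd ≫ RelProj.emb p chart U hU
  have ha : a.opensRange = (RelProj.emb p chart U hU) ''ᵁ Proj.basicOpen (𝒮.deg U hU) f := by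
    refine Opens.ext ?_
    show Set.range (RelProj.emb p chart U hU ∘ Proj.awayι (𝒮.deg U hU) f hf hd) = RelProj.emb p chart U hU '' _
    rw [Set.range_comp]
    exact congrArg (fun O : (Proj (𝒮.deg U hU)).Opens => RelProj.emb p chart U hU '' (O : Set _))
      (Proj.opensRange_awayι (𝒮.deg U hU) f hf hd)
  let i : PairElt g 𝒮 := ⟨U, hU, U', hU', hle, d, hd, f, hf⟩
  let c := domChart chart' u i
  have hc : c ≫ r = Spec.map (CommRingCat.ofHom (Away.map (u.gradedAt U hU U' hU' hle) f)) ≫ a :=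
    hr U hU U' hU' hle d hd f hf _
  have hran : r ⁻¹ᵁ a.opensRange = c.opensRange := by
    refine le_antisymm (fun x hx => ?_) ?_
    · have hx' : r x ∈ (RelProj.emb p chart U hU) ''ᵁ Proj.basicOpen (𝒮.deg U hU) f := ha ▸ hx
      obtain ⟨z, hz⟩ := (opensRange_emb (p := p') (chart := chart') U' hU').ge (hpre x hx')
      have hzf := (apply_mem_image_iff u hU hU' hle hd f hf hP hP' r hr x z hz).mp hx'
      obtain ⟨t, ht⟩ := (mem_range_srcChart_iff (chart' := chart') _ hd f hf z).mpr hzf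
      refine ⟨t, (RelProj.domQ u p' chart').ι.isOpenEmbedding.injective ?_⟩
      show (RelProj.domQ u p' chart').ι (c t) = _
      rw [← Scheme.Hom.comp_apply, domChart_ι]
      exact ht.trans hz
    · rintro _ ⟨t, rfl⟩
      exact ⟨_, (congrArg (fun m : _ ⟶ P => m t) hc).symm⟩
  have sq : IsPullback (Spec.map (CommRingCat.ofHom (Away.map (u.gradedAt U hU U' hU' hle) f))) c a r :=
    IsOpenImmersion.isPullback _ _ _ _ hc hran
  rw [← ha, Pr.arrow_mk_iso_iff (morphismRestrictOpensRange r a)]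
  change Pr (pullback.snd r a) ↔ _
  rw [← sq.flip.isoPullback_inv_snd]
  exact MorphismProperty.cancel_left_of_respectsIso Pr _ _

/-- A closed immersion of affine schemes is given by a surjective ring map. -/
lemma surjective_of_isClosedImmersion_specMap {R S : CommRingCat.{u}} (f : R ⟶ S)
    [IsClosedImmersion (Spec.map f)] : Function.Surjective f.hom := by
  have h := (Spec.map f).app_surjective ⊤ (isAffineOpen_top _)
  intro y
  obtain ⟨x, hx⟩ := h ((Scheme.ΓSpecIso S).inv y)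
  refine ⟨(Scheme.ΓSpecIso R).hom x, ?_⟩
  have := ConcreteCategory.congr_hom (Scheme.ΓSpecIso_naturality f) x
  refine this.symm.trans ?_
  show (Scheme.ΓSpecIso S).hom ((Spec.map f).app ⊤ x) = y
  rw [hx]
  exact ConcreteCategory.congr_hom (Scheme.ΓSpecIso S).inv_hom_id y

end general

variable {Y X P PL : Scheme.{u}} {q : X ⟶ Y} {L : X.Modules} {𝒮 : RelProj.QCGrAlg Y} {𝒮L : RelProj.QCGrAlg X}
  {j : L ⟶ 𝒮L.toModule} {p : P ⟶ Y} {pL : PL ⟶ X}
  {chart : ∀ (U : Y.Opens) (hU : IsAffineOpen U), (((p ⁻¹ᵁ U : P.Opens) : Scheme.{u}) ≅ Proj (𝒮.deg U hU))}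
  {chartL : ∀ (U : X.Opens) (hU : IsAffineOpen U), (((pL ⁻¹ᵁ U : PL.Opens) : Scheme.{u}) ≅ Proj (𝒮L.deg U hU))}
  (hL : PicF.IsInvertible L) (hLq : Coh.IsQCoh L) (hj : RelProj.IsGrSymAlg L 𝒮L j)

include hL hLq hj in
/-- Over an affine open on which `t` vanishes nowhere, the functions are the standard ring at `t`. -/
theorem bijective_scalars (hPL : RelProj.IsRelProj 𝒮L pL chartL) {V : X.Opens} (hV : IsAffineOpen V)
    {n : ℕ} (hn : 0 < n) (t : 𝒮L.presheaf.obj (op V)) (ht : t ∈ 𝒮L.deg V hV n)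
    (htop : Proj.basicOpen (𝒮L.deg V hV) t = ⊤) :
    Function.Bijective ((fromZeroRingHom (𝒮L.deg V hV) (Submonoid.powers t)).comp (𝒮L.strZero V hV).hom) := by
  let φ := 𝒮L.strZero V hV ≫ CommRingCat.ofHom (fromZeroRingHom (𝒮L.deg V hV) (Submonoid.powers t))
  haveI : IsIso pL := SymX.isIso_relProj hL hLq hj pL chartL hPL
  have eB : RelProj.emb pL chartL V hV ≫ pL =
      Proj.toSpecZero (𝒮L.deg V hV) ≫ Spec.map (𝒮L.strZero V hV) ≫ hV.fromSpec := by
    show ((chartL V hV).inv ≫ (pL ⁻¹ᵁ V).ι) ≫ pL = _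
    rw [Category.assoc, ← hPL.chart_over V hV, Iso.inv_hom_id_assoc]
  let m := Proj.awayι (𝒮L.deg V hV) t ht hn ≫ RelProj.emb pL chartL V hV ≫ pL
  have hm : m = Spec.map φ ≫ hV.fromSpec := by
    simp only [m, φ]
    rw [eB, Proj.awayι_toSpecZero_assoc, Spec.map_comp, Category.assoc]
  have hrange : ∀ x ∈ V, x ∈ Set.range m := by
    intro x hx
    have hy : pL ((CategoryTheory.inv pL) x) = x := by
      rw [← Scheme.Hom.comp_apply, IsIso.inv_hom_id]; rfl
    obtain ⟨z, hz⟩ := (opensRange_emb (p := pL) (chart := chartL) V hV).ge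
      (show (CategoryTheory.inv pL) x ∈ pL ⁻¹ᵁ V from (show pL ((CategoryTheory.inv pL) x) ∈ V from hy.symm ▸ hx))
    obtain ⟨w, hw⟩ := (Proj.opensRange_awayι _ t ht hn).ge (htop.ge (Opens.mem_top z))
    exact ⟨w, by simp only [m, Scheme.Hom.comp_apply, hw, hz, hy]⟩
  haveI : IsOpenImmersion (Spec.map φ) := by
    haveI : IsOpenImmersion (Spec.map φ ≫ hV.fromSpec) := hm ▸ inferInstance
    exact IsOpenImmersion.of_comp _ hV.fromSpec
  haveI : IsIso (Spec.map φ) := by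
    refine isIso_of_isOpenImmersion_of_opensRange_eq_top _ (top_unique fun y _ => ?_)
    obtain ⟨w, hw⟩ := hrange (hV.fromSpec y) (hV.range_fromSpec.le ⟨y, rfl⟩)
    refine ⟨w, hV.fromSpec.isOpenEmbedding.injective ?_⟩
    rw [← hw, hm, Scheme.Hom.comp_apply]
  exact (isIso_SpecMap_iff (f := φ)).mp inferInstance

variable (u : RelProj.QGrHom q 𝒮 𝒮L)

include hL hLq hj in
/-- Surjectivity of the map of standard rings, in terms of sections. -/
theorem awayMap_surjective_iff (hPL : RelProj.IsRelProj 𝒮L pL chartL) {U : Y.Opens} (hU : IsAffineOpen U)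
    {V : X.Opens} (hV : IsAffineOpen V) (hle : V ≤ q ⁻¹ᵁ U) {n : ℕ} (hn : 0 < n)
    (s : 𝒮.presheaf.obj (op U)) (hs : s ∈ 𝒮.deg U hU n)
    (htop : Proj.basicOpen (𝒮L.deg V hV) (u.gradedAt U hU V hV hle s) = ⊤) :
    Function.Surjective (Away.map (u.gradedAt U hU V hV hle) s) ↔
      ∀ a : Γ(X, V), ∃ (m : ℕ) (_ : 0 < m) (s' : 𝒮.presheaf.obj (op U)) (_ : s' ∈ 𝒮.deg U hU (m * n)),
        (𝒮L.str.app (op V)).hom a * (u.gradedAt U hU V hV hle s) ^ m = u.gradedAt U hU V hV hle s' := by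
  let χ := u.gradedAt U hU V hV hle
  constructor
  · intro hsurj a
    obtain ⟨y, hy⟩ := hsurj (fromZeroRingHom (𝒮L.deg V hV) (Submonoid.powers (χ s)) ((𝒮L.strZero V hV).hom a))
    obtain ⟨m, b, hb, rfl⟩ := y.mk_surjective (𝒮.deg U hU) hs
    rw [Away.map_mk] at hy
    replace hy := congrArg HomogeneousLocalization.val hy
    rw [Away.val_mk] at hy
    change _ = Localization.mk ((𝒮L.str.app (op V)).hom a) 1 at hy
    rw [Localization.mk_eq_mk_iff, Localization.r_iff_exists] at hy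
    obtain ⟨⟨_, k, rfl⟩, hk⟩ := hy
    simp only [Submonoid.coe_one, one_mul] at hk
    refine ⟨k + m + 1, Nat.succ_pos _, s ^ (k + 1) * b, ?_, ?_⟩
    · have := SetLike.mul_mem_graded (SetLike.pow_mem_graded (k + 1) hs) hb
      rwa [smul_eq_mul, smul_eq_mul, ← add_mul, show k + 1 + m = k + m + 1 by ring] at this
    · show _ * χ s ^ (k + m + 1) = χ (s ^ (k + 1) * b)
      rw [map_mul, map_pow]
      calc (𝒮L.str.app (op V)).hom a * χ s ^ (k + m + 1)
          = χ s * (χ s ^ k * (χ s ^ m * (𝒮L.str.app (op V)).hom a)) := by ring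
        _ = χ s * (χ s ^ k * χ b) := by rw [← hk]
        _ = χ s ^ (k + 1) * χ b := by ring
  · intro h y
    obtain ⟨a, rfl⟩ := (bijective_scalars hL hLq hj hPL hV hn _ (χ.2 hs) htop).2 y
    obtain ⟨m, -, b, hb, he⟩ := h a
    refine ⟨Away.mk (𝒮.deg U hU) hs m b (by simpa only [smul_eq_mul] using hb), ?_⟩
    rw [Away.map_mk]
    apply HomogeneousLocalization.val_injective
    rw [Away.val_mk]
    show _ = Localization.mk ((𝒮L.str.app (op V)).hom a) 1
    rw [Localization.mk_eq_mk_iff, Localization.r_iff_exists]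
    refine ⟨1, ?_⟩
    simp only [Submonoid.coe_one, one_mul]
    exact he.symm.trans (mul_comm _ _)

/-- Injectivity of the map of standard rings, in terms of sections. -/
theorem awayMap_injective_iff {U : Y.Opens} (hU : IsAffineOpen U)
    {V : X.Opens} (hV : IsAffineOpen V) (hle : V ≤ q ⁻¹ᵁ U) {n : ℕ}
    (s : 𝒮.presheaf.obj (op U)) (hs : s ∈ 𝒮.deg U hU n) :
    Function.Injective (Away.map (u.gradedAt U hU V hV hle) s) ↔
      ∀ m : ℕ, 0 < m → ∀ s' ∈ 𝒮.deg U hU (m * n), u.gradedAt U hU V hV hle s' = 0 → ∃ k : ℕ, 0 < k ∧ s ^ k * s' = 0 := by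
  let χ := u.gradedAt U hU V hV hle
  constructor
  · intro hinj m _ b hb hb0
    have hb' : b ∈ 𝒮.deg U hU (m • n) := by simpa only [smul_eq_mul] using hb
    have : Away.mk (𝒮.deg U hU) hs m b hb' = 0 := by
      apply hinj
      rw [Away.map_mk, map_zero]
      apply HomogeneousLocalization.val_injective
      rw [Away.val_mk, HomogeneousLocalization.val_zero]
      simp [hb0, Localization.mk_zero]
    replace this := congrArg HomogeneousLocalization.val this
    rw [Away.val_mk, HomogeneousLocalization.val_zero, Localization.mk_eq_mk'] at this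
    obtain ⟨⟨_, k, rfl⟩, hk⟩ := (IsLocalization.mk'_eq_zero_iff _ _).mp this
    exact ⟨k + 1, Nat.succ_pos k, by rw [pow_succ', mul_assoc, hk, mul_zero]⟩
  · intro h
    rw [injective_iff_map_eq_zero]
    intro y hy
    obtain ⟨m, b, hb, rfl⟩ := y.mk_surjective (𝒮.deg U hU) hs
    rw [Away.map_mk, ← (HomogeneousLocalization.val_injective _).eq_iff,
      Away.val_mk, HomogeneousLocalization.val_zero, Localization.mk_eq_mk'] at hy
    obtain ⟨⟨_, k, rfl⟩, hk⟩ := (IsLocalization.mk'_eq_zero_iff _ _).mp hy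
    change χ s ^ k * χ b = 0 at hk
    obtain ⟨l, -, hl⟩ := h (k + m + 1) (Nat.succ_pos _) (s ^ (k + 1) * b) (by
      have := SetLike.mul_mem_graded (SetLike.pow_mem_graded (k + 1) hs) hb
      rwa [smul_eq_mul, smul_eq_mul, ← add_mul, show k + 1 + m = k + m + 1 by ring] at this) (by
      show χ (s ^ (k + 1) * b) = 0
      rw [map_mul, map_pow, pow_succ', mul_assoc, hk, mul_zero])
    apply HomogeneousLocalization.val_injective
    rw [Away.val_mk, HomogeneousLocalization.val_zero, Localization.mk_eq_mk']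
    exact (IsLocalization.mk'_eq_zero_iff _ _).mpr ⟨⟨s ^ (l + (k + 1)), _, rfl⟩, by
      show s ^ (l + (k + 1)) * b = 0
      rw [pow_add, mul_assoc]; exact hl⟩

variable (q) in
/-- The locus where the image of a section vanishes nowhere. -/
abbrev nonvanishing (hY : IsAffineOpen (⊤ : Y.Opens)) (n : ℕ) (s : 𝒮.presheaf.obj (op ⊤)) : X.Opens :=
  ⨆ V : {V : X.affineOpens //
          ((𝒮L.deg V.1 V.2 n : AddSubgroup (𝒮L.presheaf.obj (op (V.1 : X.Opens)))) : Set (𝒮L.presheaf.obj (op (V.1 : X.Opens)))) ⊆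
            (Ideal.span {(u.appLE ⊤ (V.1 : X.Opens) (le_top.trans (Scheme.Hom.preimage_top q).ge)).hom s} : Set (𝒮L.presheaf.obj (op (V.1 : X.Opens))))},
          (V.1.1 : X.Opens)

variable (hP : RelProj.IsRelProj 𝒮 p chart) (hPL : RelProj.IsRelProj 𝒮L pL chartL)
  (r : (RelProj.domQ u pL chartL : Scheme.{u}) ⟶ P)
  (hr : RelProj.IsProjQMapOn u p chart pL chartL (RelProj.domQ u pL chartL) r)
  (hY : IsAffineOpen (⊤ : Y.Opens))

section one

variable {n : ℕ} (hn : 0 < n) (s : 𝒮.presheaf.obj (op ⊤)) (hs : s ∈ 𝒮.deg ⊤ hY n)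
include hL hLq hj hP hPL hr hn hs

lemma preimage_eq_nonvanishing :
    (RelProj.domQ u pL chartL).ι ''ᵁ (r ⁻¹ᵁ ((RelProj.emb p chart ⊤ hY) ''ᵁ Proj.basicOpen (𝒮.deg ⊤ hY) s)) =
      pL ⁻¹ᵁ nonvanishing q u hY n s :=
  S12144.result q L hL hLq 𝒮 𝒮L j hj u p chart hP pL chartL hPL r hr hY n hn s hs

lemma apply_mem_iff_nonvanishing (x : (RelProj.domQ u pL chartL : Scheme.{u})) :
    r x ∈ (RelProj.emb p chart ⊤ hY) ''ᵁ Proj.basicOpen (𝒮.deg ⊤ hY) s ↔
      pL x.1 ∈ nonvanishing q u hY n s := by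
  have h := SetLike.ext_iff.mp (preimage_eq_nonvanishing hL hLq hj u hP hPL r hr hY hn s hs) x.1
  refine Iff.trans ⟨fun hx => ⟨x, hx, rfl⟩, fun ⟨x', hx', e⟩ => ?_⟩ h
  rwa [show x = x' from Subtype.ext e.symm]

lemma nonvanishing_le_domQ : pL ⁻¹ᵁ nonvanishing q u hY n s ≤ RelProj.domQ u pL chartL := by
  rw [← preimage_eq_nonvanishing hL hLq hj u hP hPL r hr hY hn s hs]
  exact Scheme.Opens.ι_image_le _ _

lemma basicOpen_eq_top_of_affine (hT : IsAffineOpen (nonvanishing q u hY n s)) :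
    Proj.basicOpen (𝒮L.deg _ hT) (u.gradedAt ⊤ hY _ hT (le_top.trans (Scheme.Hom.preimage_top q).ge) s) = ⊤ := by
  refine top_unique fun z _ => ?_
  have hz : RelProj.emb pL chartL _ hT z ∈ pL ⁻¹ᵁ nonvanishing q u hY n s :=
    (opensRange_emb (p := pL) (chart := chartL) _ hT).le ⟨z, rfl⟩
  exact (apply_mem_image_iff u hY hT _ hn s hs hP hPL r hr
    ⟨_, nonvanishing_le_domQ hL hLq hj u hP hPL r hr hY hn s hs hz⟩ z rfl).mp
    ((apply_mem_iff_nonvanishing hL hLq hj u hP hPL r hr hY hn s hs _).mpr hz)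

lemma restrict_iff_nonvanishing (Pr : MorphismProperty Scheme.{u}) [Pr.RespectsIso]
    (hT : IsAffineOpen (nonvanishing q u hY n s)) :
    Pr (r ∣_ ((RelProj.emb p chart ⊤ hY) ''ᵁ Proj.basicOpen (𝒮.deg ⊤ hY) s)) ↔
      Pr (Spec.map (CommRingCat.ofHom (Away.map (u.gradedAt ⊤ hY (nonvanishing q u hY n s) hT
        (le_top.trans (Scheme.Hom.preimage_top q).ge)) s))) :=
  restrict_iff u hY hT _ hn s hs hP hPL r hr Pr fun x hx =>
    (apply_mem_iff_nonvanishing hL hLq hj u hP hPL r hr hY hn s hs x).mp hx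

/-- A closed restriction gives the affineness and the surjectivity. -/
lemma of_isClosedImmersion_restrict
    (hcl : IsClosedImmersion (r ∣_ ((RelProj.emb p chart ⊤ hY) ''ᵁ Proj.basicOpen (𝒮.deg ⊤ hY) s))) :
    ∃ hT : IsAffineOpen (nonvanishing q u hY n s), Function.Surjective (Away.map (u.gradedAt ⊤ hY
      (nonvanishing q u hY n s) hT (le_top.trans (Scheme.Hom.preimage_top q).ge)) s) := by
  haveI := hcl
  haveI : IsIso pL := SymX.isIso_relProj hL hLq hj pL chartL hPL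
  let D := (RelProj.emb p chart ⊤ hY) ''ᵁ Proj.basicOpen (𝒮.deg ⊤ hY) s
  have hD : IsAffineOpen D := (Proj.isAffineOpen_basicOpen _ s hs hn).image_of_isOpenImmersion _
  haveI : IsAffine (D : Scheme.{u}) := hD
  have h1 : IsAffineOpen (r ⁻¹ᵁ D) := isAffine_of_isAffineHom (r ∣_ D)
  have h2 : IsAffineOpen (pL ⁻¹ᵁ nonvanishing q u hY n s) := by
    rw [← preimage_eq_nonvanishing hL hLq hj u hP hPL r hr hY hn s hs]
    exact h1.image_of_isOpenImmersion _
  have hT : IsAffineOpen (nonvanishing q u hY n s) := by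
    have h3 : (CategoryTheory.inv pL) ⁻¹ᵁ pL ⁻¹ᵁ nonvanishing q u hY n s = nonvanishing q u hY n s := by
      rw [← Scheme.Hom.comp_preimage, IsIso.inv_hom_id, Scheme.Hom.id_preimage]
    exact h3 ▸ h2.preimage_of_isIso _
  refine ⟨hT, ?_⟩
  haveI : IsClosedImmersion (Spec.map (CommRingCat.ofHom (Away.map (u.gradedAt ⊤ hY (nonvanishing q u hY n s) hT
      (le_top.trans (Scheme.Hom.preimage_top q).ge)) s))) :=
    (restrict_iff_nonvanishing hL hLq hj u hP hPL r hr hY hn s hs @IsClosedImmersion hT).mp hcl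
  exact surjective_of_isClosedImmersion_specMap (CommRingCat.ofHom (Away.map (u.gradedAt ⊤ hY
    (nonvanishing q u hY n s) hT (le_top.trans (Scheme.Hom.preimage_top q).ge)) s))

end one

/-- The family attached to an open of the target containing the image, in which the image is closed. -/
abbrev Index (hY : IsAffineOpen (⊤ : Y.Opens)) (O : P.Opens) : Type u :=
  {a : ULift.{u} ℕ × 𝒮.presheaf.obj (op ⊤) // 0 < a.1.down ∧ a.2 ∈ 𝒮.deg ⊤ hY a.1.down ∧
    (RelProj.emb p chart ⊤ hY) ''ᵁ Proj.basicOpen (𝒮.deg ⊤ hY) a.2 ≤ O}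

lemma exists_index (O : P.Opens) {y : P} (hy : y ∈ O) :
    ∃ a : Index (p := p) (chart := chart) hY O,
      y ∈ (RelProj.emb p chart ⊤ hY) ''ᵁ Proj.basicOpen (𝒮.deg ⊤ hY) a.1.2 := by
  obtain ⟨w, hw⟩ : y ∈ (RelProj.emb p chart ⊤ hY).opensRange :=
    (opensRange_emb (p := p) (chart := chart) ⊤ hY).ge (Opens.mem_top (p y))
  subst hw
  obtain ⟨f, d, hd, hf, hwf, hfO⟩ := GrModX.exists_basicOpen_le (𝒮.deg ⊤ hY)
    (V := RelProj.emb p chart ⊤ hY ⁻¹ᵁ O) (y := w) hy
  exact ⟨⟨(⟨d⟩, f), hd, hf, by rintro _ ⟨z, hz, rfl⟩; exact hfO hz⟩, w, hwf, rfl⟩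

include hL hLq hj hP hPL hr in
/-- The family of an everywhere defined map, closed in an open `O`. -/
theorem family_of (htop : RelProj.domQ u pL chartL = ⊤) (O : P.Opens) (hO : ∀ x, r x ∈ O) :
    (⨆ a : Index (p := p) (chart := chart) hY O, nonvanishing q u hY a.1.1.down a.1.2) = ⊤ := by
  haveI : IsIso pL := SymX.isIso_relProj hL hLq hj pL chartL hPL
  refine top_unique fun x _ => ?_
  have hx' : (CategoryTheory.inv pL) x ∈ RelProj.domQ u pL chartL := htop ▸ Opens.mem_top _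
  obtain ⟨a, ha⟩ := exists_index (p := p) (chart := chart) hY O (hO ⟨_, hx'⟩)
  refine Opens.mem_iSup.mpr ⟨a, ?_⟩
  have := (apply_mem_iff_nonvanishing hL hLq hj u hP hPL r hr hY a.2.1 a.1.2 a.2.2.1 ⟨_, hx'⟩).mp ha
  rwa [← Scheme.Hom.comp_apply, IsIso.inv_hom_id] at this

include hL hLq hj hP hPL hr in
/-- A covering family gives definedness everywhere and covers the image. -/
theorem of_family {ι : Type u} (n : ι → ℕ) (s : ι → 𝒮.presheaf.obj (op ⊤))
    (hs : ∀ a, 0 < n a ∧ s a ∈ 𝒮.deg ⊤ hY (n a)) (hcov : (⨆ a, nonvanishing q u hY (n a) (s a)) = ⊤) :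
    RelProj.domQ u pL chartL = ⊤ ∧ Set.range r ⊆
      ((⨆ a, (RelProj.emb p chart ⊤ hY) ''ᵁ Proj.basicOpen (𝒮.deg ⊤ hY) (s a) : P.Opens) : Set P) := by
  refine ⟨top_unique fun x _ => ?_, ?_⟩
  · obtain ⟨a, ha⟩ := Opens.mem_iSup.mp (hcov.ge (Opens.mem_top (pL x)))
    exact nonvanishing_le_domQ hL hLq hj u hP hPL r hr hY (hs a).1 (s a) (hs a).2 ha
  · rintro _ ⟨x, rfl⟩
    obtain ⟨a, ha⟩ := Opens.mem_iSup.mp (hcov.ge (Opens.mem_top (pL x.1)))
    exact Opens.mem_iSup.mpr ⟨a, (apply_mem_iff_nonvanishing hL hLq hj u hP hPL r hr hY (hs a).1 (s a) (hs a).2 x).mpr ha⟩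

end Groth.Agent.Proj16
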