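import Groth.Agent.Proj16.RLPsiColim
import Groth.Agent.Proj16.RLPsiImm
import Groth.Agent.Proj16.ExistQMap

/-!
# Immersions into `Proj` of a filtered colimit of graded algebras come from a stage
-/

universe u

open CategoryTheory CategoryTheory.Limits AlgebraicGeometry TopologicalSpace Opposite HomogeneousLocalization
open scoped HomogeneousIdeal

set_option backward.isDefEq.respectTransparency false
set_option backward.isDefEq.respectTransparency.types false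
set_option linter.style.haveILetI false
set_option linter.unusedSectionVars false
set_option maxHeartbeats 1600000

noncomputable section

namespace Groth.Agent.Proj16

section comp

variable {Y X P P' PL : Scheme.{u}} {q : X ⟶ Y} {𝒮 𝒯 : RelProj.QCGrAlg Y} {𝒮L : RelProj.QCGrAlg X}
  {p : P ⟶ Y} {p' : P' ⟶ Y} {pL : PL ⟶ X}
  {chart : ∀ (U : Y.Opens) (hU : IsAffineOpen U), (((p ⁻¹ᵁ U : P.Opens) : Scheme.{u}) ≅ Proj (𝒮.deg U hU))}
  {chart' : ∀ (U : Y.Opens) (hU : IsAffineOpen U), (((p' ⁻¹ᵁ U : P'.Opens) : Scheme.{u}) ≅ Proj (𝒯.deg U hU))}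
  {chartL : ∀ (U : X.Opens) (hU : IsAffineOpen U), (((pL ⁻¹ᵁ U : PL.Opens) : Scheme.{u}) ≅ Proj (𝒮L.deg U hU))}

/-- If the composite is everywhere defined and an immersion, so is the morphism. -/
theorem isImmersion_of_comp (u : RelProj.QGrHom q 𝒮 𝒮L) (v : 𝒯.toQCAlg ⟶ 𝒮.toQCAlg) (hv : RelProj.IsGradedHom v)
    (u' : RelProj.QGrHom q 𝒯 𝒮L) (hu' : ∀ U : Y.Opens, u'.app U = v.hom.app (op U) ≫ u.app U)
    (hP : RelProj.IsRelProj 𝒮 p chart) (hP' : RelProj.IsRelProj 𝒯 p' chart')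
    (hPL : RelProj.IsRelProj 𝒮L pL chartL)
    (r : (RelProj.domQ u pL chartL : Scheme.{u}) ⟶ P)
    (hr : RelProj.IsProjQMapOn u p chart pL chartL (RelProj.domQ u pL chartL) r)
    (r' : (RelProj.domQ u' pL chartL : Scheme.{u}) ⟶ P')
    (hr' : RelProj.IsProjQMapOn u' p' chart' pL chartL (RelProj.domQ u' pL chartL) r')
    (htop : RelProj.domQ u' pL chartL = ⊤) (himm : IsImmersion r') :
    RelProj.domQ u pL chartL = ⊤ ∧ IsImmersion r := by
  have hle := domQ_comp_le (pL := pL) (chartL := chartL) u v hv u' hu'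
  have htop' : RelProj.domQ u pL chartL = ⊤ := top_unique (htop ▸ hle)
  refine ⟨htop', ?_⟩
  obtain ⟨π, hπ, -⟩ := (existsUnique_projQMapOn (RelProj.QGrHom.ofHom v hv) hP' hP).1
  obtain ⟨k, hk, hkπ⟩ := exists_comp u v hv u' hu' hP hPL r hr r' hr' π hπ hle
  haveI : IsImmersion (k ≫ π) := hkπ.symm ▸ himm
  haveI : IsImmersion k := IsImmersion.of_comp k π
  haveI : IsImmersion (PL.homOfLE hle ≫ r) := hk ▸ inferInstance
  haveI : IsIso (PL.homOfLE hle) := by
    have e : (PL.isoOfEq (htop.trans htop'.symm)).hom = PL.homOfLE hle := by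
      rw [← cancel_mono (RelProj.domQ u pL chartL).ι, Scheme.isoOfEq_hom_ι, Scheme.homOfLE_ι]
    exact e ▸ inferInstance
  exact (MorphismProperty.cancel_left_of_respectsIso @IsImmersion (PL.homOfLE hle) r).mp inferInstance

end comp

section good

variable {X Y : Scheme.{u}} {q : X ⟶ Y} {𝒮 : RelProj.QCGrAlg Y} {𝒮L : RelProj.QCGrAlg X}
  (u : RelProj.QGrHom q 𝒮 𝒮L) {U : Y.Opens} (hU : IsAffineOpen U) {V : X.Opens} (hV : IsAffineOpen V)
  (hle : V ≤ q ⁻¹ᵁ U) {n : ℕ} {s : 𝒮.presheaf.obj (op U)} (hs : s ∈ 𝒮.deg U hU n)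

/-- The functions which are ratios of sections of the image. -/
def ratioRing : Subring Γ(X, V) where
  carrier := {a | ∃ (m : ℕ) (_ : 0 < m) (s' : 𝒮.presheaf.obj (op U)) (_ : s' ∈ 𝒮.deg U hU (m * n)),
    (𝒮L.str.app (op V)).hom a * (u.gradedAt U hU V hV hle s) ^ m = u.gradedAt U hU V hV hle s'}
  one_mem' := ⟨1, one_pos, s, by rwa [one_mul], by rw [map_one, one_mul, pow_one]⟩
  zero_mem' := ⟨1, one_pos, 0, zero_mem _, by rw [map_zero, zero_mul, map_zero]⟩
  mul_mem' := by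
    rintro a b ⟨m, hm, a', ha', ea⟩ ⟨l, hl, b', hb', eb⟩
    refine ⟨m + l, by omega, a' * b', by rw [add_mul]; exact SetLike.mul_mem_graded ha' hb', ?_⟩
    rw [map_mul, map_mul, ← ea, ← eb, pow_add]
    ring
  add_mem' := by
    rintro a b ⟨m, hm, a', ha', ea⟩ ⟨l, hl, b', hb', eb⟩
    refine ⟨m + l, by omega, a' * s ^ l + b' * s ^ m, ?_, ?_⟩
    · refine add_mem ?_ ?_
      · have := SetLike.mul_mem_graded ha' (SetLike.pow_mem_graded l hs)
        rwa [smul_eq_mul, ← add_mul] at this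
      · have := SetLike.mul_mem_graded hb' (SetLike.pow_mem_graded m hs)
        rwa [smul_eq_mul, ← add_mul, add_comm l m] at this
    · rw [map_add, map_add, map_mul, map_mul, map_pow, map_pow, ← ea, ← eb, pow_add]
      ring
  neg_mem' := by
    rintro a ⟨m, hm, a', ha', ea⟩
    exact ⟨m, hm, -a', neg_mem ha', by rw [map_neg, neg_mul, ea, map_neg]⟩

lemma mem_ratioRing {a : Γ(X, V)} :
    a ∈ ratioRing u hU hV hle hs ↔ ∃ (m : ℕ) (_ : 0 < m) (s' : 𝒮.presheaf.obj (op U)) (_ : s' ∈ 𝒮.deg U hU (m * n)),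
      (𝒮L.str.app (op V)).hom a * (u.gradedAt U hU V hV hle s) ^ m = u.gradedAt U hU V hV hle s' := Iff.rfl

lemma appLE_mem_ratioRing (x : Γ(Y, U)) : (q.appLE U V hle).hom x ∈ ratioRing u hU hV hle hs := by
  refine ⟨1, one_pos, (𝒮.strZero U hU).hom x * s, ?_, ?_⟩
  · have := SetLike.mul_mem_graded ((𝒮.strZero U hU).hom x).2 hs
    rwa [zero_add, ← one_mul n] at this
  · rw [map_mul, pow_one]
    exact congrArg (· * _) (ConcreteCategory.congr_hom (u.str_appLE U V hle) x).symm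

end good

variable {X Y P PL : Scheme.{u}} {q : X ⟶ Y} {L : X.Modules} {𝒮 : RelProj.QCGrAlg Y} {𝒮L : RelProj.QCGrAlg X}
  {j : L ⟶ 𝒮L.toModule} {p : P ⟶ Y} {pL : PL ⟶ X}
  {chart : ∀ (U : Y.Opens) (hU : IsAffineOpen U), (((p ⁻¹ᵁ U : P.Opens) : Scheme.{u}) ≅ Proj (𝒮.deg U hU))}
  {chartL : ∀ (U : X.Opens) (hU : IsAffineOpen U), (((pL ⁻¹ᵁ U : PL.Opens) : Scheme.{u}) ≅ Proj (𝒮L.deg U hU))}
  (hL : PicF.IsInvertible L) (hLq : Coh.IsQCoh L) (hj : RelProj.IsGrSymAlg L 𝒮L j)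
  (u : RelProj.QGrHom q 𝒮 𝒮L) (hP : RelProj.IsRelProj 𝒮 p chart) (hPL : RelProj.IsRelProj 𝒮L pL chartL)
  (r : (RelProj.domQ u pL chartL : Scheme.{u}) ⟶ P)
  (hr : RelProj.IsProjQMapOn u p chart pL chartL (RelProj.domQ u pL chartL) r)

include hL hLq hj hP hPL hr in
/-- An immersion is, near a point, given by a surjection of standard rings. -/
theorem exists_closed_chart (htop : RelProj.domQ u pL chartL = ⊤) (himm : IsImmersion r) (x : PL) :
    ∃ (U : Y.Opens) (hU : IsAffineOpen U) (n : ℕ) (_ : 0 < n) (s : 𝒮.presheaf.obj (op U)) (hs : s ∈ 𝒮.deg U hU n)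
      (T : X.Opens) (hT : IsAffineOpen T) (hle : T ≤ q ⁻¹ᵁ U), pL x ∈ T ∧
      Proj.basicOpen (𝒮L.deg T hT) (u.gradedAt U hU T hT hle s) = ⊤ ∧ ratioRing u hU hT hle hs = ⊤ ∧
      ∀ (V : X.Opens) (hV : IsAffineOpen V) (hVU : V ≤ q ⁻¹ᵁ U) (z : Proj (𝒮L.deg V hV)),
        z ∈ Proj.basicOpen (𝒮L.deg V hV) (u.gradedAt U hU V hV hVU s) → pL (RelProj.emb pL chartL V hV z) ∈ T := by
  haveI : IsIso pL := SymX.isIso_relProj hL hLq hj pL chartL hPL
  have hinv : ∀ y : PL, (CategoryTheory.inv pL) (pL y) = y := fun y => by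
    rw [← Scheme.Hom.comp_apply, IsIso.hom_inv_id]; rfl
  have hover : ∀ y : (RelProj.domQ u pL chartL : Scheme.{u}), p (r y) = q (pL y.1) := fun y =>
    congrArg (fun k : (RelProj.domQ u pL chartL : Scheme.{u}) ⟶ Y => k y) ((existsUnique_projQMapOn u hP hPL).2 r hr)
  let O := r.coborderRange
  let x' : (RelProj.domQ u pL chartL : Scheme.{u}) := ⟨x, htop ▸ Opens.mem_top _⟩
  have hxO : r x' ∈ O := subset_coborder ⟨x', rfl⟩
  obtain ⟨_, ⟨U, hU, rfl⟩, hxU, -⟩ := Y.isBasis_affineOpens.exists_subset_of_mem_open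
    (Set.mem_univ (p (r x'))) isOpen_univ
  obtain ⟨w, hw⟩ := (opensRange_emb (p := p) (chart := chart) U hU).ge hxU
  obtain ⟨s, n, hn, hs, hws, hsO⟩ := GrModX.exists_basicOpen_le (𝒮.deg U hU)
    (V := RelProj.emb p chart U hU ⁻¹ᵁ O) (y := w) (show RelProj.emb p chart U hU w ∈ O from hw.symm ▸ hxO)
  let D := (RelProj.emb p chart U hU) ''ᵁ Proj.basicOpen (𝒮.deg U hU) s
  have hDO : D ≤ O := by rintro _ ⟨z, hz, rfl⟩; exact hsO hz
  haveI hcl : IsClosedImmersion (r ∣_ D) := by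
    refine IsClosedImmersion.of_isPreimmersion _ ?_
    rw [morphismRestrict_base, Set.range_restrictPreimage]
    exact (isClosed_preimage_val_coborder (s := Set.range r)).preimage (continuous_inclusion hDO)
  let T : X.Opens := (CategoryTheory.inv pL) ⁻¹ᵁ ((RelProj.domQ u pL chartL).ι ''ᵁ (r ⁻¹ᵁ D))
  have hmemT : ∀ y : (RelProj.domQ u pL chartL : Scheme.{u}), pL y.1 ∈ T ↔ r y ∈ D := by
    intro y
    show (CategoryTheory.inv pL) (pL y.1) ∈ (RelProj.domQ u pL chartL).ι ''ᵁ (r ⁻¹ᵁ D) ↔ _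
    rw [hinv]
    refine ⟨?_, fun h => ⟨y, h, rfl⟩⟩
    rintro ⟨y', hy', e⟩
    rwa [show y = y' from Subtype.ext e.symm]
  have hle : T ≤ q ⁻¹ᵁ U := by
    intro y hy
    obtain ⟨y', hy', e⟩ := hy
    have h1 : pL y'.1 = y := by
      refine (congrArg (fun z => pL z) e).trans ?_
      show pL ((CategoryTheory.inv pL) y) = y
      rw [← Scheme.Hom.comp_apply, IsIso.inv_hom_id]; rfl
    obtain ⟨z, -, hz⟩ := hy'
    show q y ∈ U
    rw [← h1, ← hover, ← hz]
    exact (opensRange_emb (p := p) (chart := chart) U hU).le ⟨z, rfl⟩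
  have hT : IsAffineOpen T := by
    haveI : IsAffine (D : Scheme.{u}) := (Proj.isAffineOpen_basicOpen _ s hs hn).image_of_isOpenImmersion _
    have h1 : IsAffineOpen (r ⁻¹ᵁ D) := isAffine_of_isAffineHom (r ∣_ D)
    exact (h1.image_of_isOpenImmersion _).preimage_of_isIso _
  have htopT : Proj.basicOpen (𝒮L.deg T hT) (u.gradedAt U hU T hT hle s) = ⊤ := by
    refine top_unique fun z _ => ?_
    have hz := (opensRange_emb (p := pL) (chart := chartL) T hT).le ⟨z, rfl⟩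
    exact (apply_mem_image_iff u hU hT hle hn s hs hP hPL r hr ⟨_, htop ▸ Opens.mem_top _⟩ z rfl).mp
      ((hmemT _).mp hz)
  have hxT : pL x ∈ T := (hmemT x').mpr ⟨w, hws, hw⟩
  refine ⟨U, hU, n, hn, s, hs, T, hT, hle, hxT, htopT, top_unique fun a _ => ?_, fun V hV hVU z hz => ?_⟩
  · haveI := (restrict_iff u hU hT hle hn s hs hP hPL r hr @IsClosedImmersion fun y hy => (hmemT y).mpr hy).mp hcl
    exact (awayMap_surjective_iff hL hLq hj u hPL hU hT hle hn s hs htopT).mp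
      (surjective_of_isClosedImmersion_specMap (CommRingCat.ofHom (Away.map (u.gradedAt U hU T hT hle) s))) a
  · exact (hmemT ⟨_, emb_mem_domQ u hU hV hVU hn s hs z hz⟩).mpr
      ((apply_mem_image_iff u hU hV hVU hn s hs hP hPL r hr ⟨_, _⟩ z rfl).mpr hz)

variable {Λ : Type u} [Preorder Λ] [IsDirected Λ (· ≤ ·)] [Nonempty Λ]
  (𝒮i : Λ → RelProj.QCGrAlg Y) (φ : ∀ i, (𝒮i i).toQCAlg ⟶ 𝒮.toQCAlg) (hφ : ∀ i, RelProj.IsGradedHom (φ i))
  (hsurj : ∀ (U : Y.Opens), IsAffineOpen U → ∀ x : 𝒮.presheaf.obj (op U),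
    ∃ (i : Λ) (y : (𝒮i i).presheaf.obj (op U)), ((φ i).hom.app (op U)).hom y = x)
  (t : ∀ i j, i ≤ j → ((𝒮i i).toQCAlg ⟶ (𝒮i j).toQCAlg)) (ht : ∀ i j (h : i ≤ j), RelProj.IsGradedHom (t i j h))
  (hφt : ∀ i j (h : i ≤ j), t i j h ≫ φ j = φ i)
  (ui : ∀ i, RelProj.QGrHom q (𝒮i i) 𝒮L) (hui : ∀ i (U : Y.Opens), (ui i).app U = (φ i).hom.app (op U) ≫ u.app U)
  {Pi : Λ → Scheme.{u}} {pi : ∀ i, Pi i ⟶ Y}
  {charti : ∀ i (U : Y.Opens) (hU : IsAffineOpen U),
    ((((pi i) ⁻¹ᵁ U : (Pi i).Opens) : Scheme.{u}) ≅ Proj ((𝒮i i).deg U hU))}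
  (hPi : ∀ i, RelProj.IsRelProj (𝒮i i) (pi i) (charti i))
  (ri : ∀ i, ((RelProj.domQ (ui i) pL chartL : PL.Opens) : Scheme.{u}) ⟶ Pi i)
  (hri : ∀ i, RelProj.IsProjQMapOn (ui i) (pi i) (charti i) pL chartL (RelProj.domQ (ui i) pL chartL) (ri i))

include hφ hsurj ht hφt hL hLq hj hP hPL hr hPi hri hui in
/-- An immersion comes from a stage. -/
theorem exists_stage_isImmersion [CompactSpace Y] [QuasiCompact q] [LocallyOfFiniteType q]
    (htop : RelProj.domQ u pL chartL = ⊤) (himm : IsImmersion r) :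
    ∃ i, RelProj.domQ (ui i) pL chartL = ⊤ ∧ IsImmersion (ri i) := by
  classical
  haveI : IsIso pL := SymX.isIso_relProj hL hLq hj pL chartL hPL
  haveI : CompactSpace X := QuasiCompact.compactSpace_of_compactSpace q
  haveI : CompactSpace PL := QuasiCompact.compactSpace_of_compactSpace pL
  choose U hU n hn s hs T hT hle hxT htopT hrat hpre using exists_closed_chart hL hLq hj u hP hPL r hr htop himm
  obtain ⟨pts, hpts⟩ := isCompact_univ.elim_finite_subcover (fun x : PL => ((pL ⁻¹ᵁ T x : PL.Opens) : Set PL))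
    (fun x => (pL ⁻¹ᵁ T x).2) fun x _ => Set.mem_iUnion.2 ⟨x, hxT x⟩
  -- the finitely many elements of `𝒮` to lift
  have hfin : ∀ x, ∃ (G : Finset (ℕ × 𝒮.presheaf.obj (op (U x)))), (∀ e ∈ G, e.2 ∈ 𝒮.deg (U x) (hU x) e.1) ∧
      ∀ (ρ : Subring Γ(X, T x)), (∀ a, (q.appLE (U x) (T x) (hle x)).hom a ∈ ρ) →
        (∀ e ∈ G, ∀ (a : Γ(X, T x)) (m : ℕ), e.1 = m * n x →
          (𝒮L.str.app (op (T x))).hom a * (u.gradedAt (U x) (hU x) (T x) (hT x) (hle x) (s x)) ^ m =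
            u.gradedAt (U x) (hU x) (T x) (hT x) (hle x) e.2 → 0 < m → a ∈ ρ) → ρ = ⊤ := by
    intro x
    letI : Algebra Γ(Y, U x) Γ(X, T x) := (q.appLE (U x) (T x) (hle x)).hom.toAlgebra
    obtain ⟨S, hS⟩ := (show Algebra.FiniteType Γ(Y, U x) Γ(X, T x) from q.finiteType_appLE (hU x) (hT x) (hle x)).out
    have hmem : ∀ a : Γ(X, T x), a ∈ ratioRing u (hU x) (hT x) (hle x) (hs x) := fun a => hrat x ▸ Subring.mem_top a
    choose m hm s' hs' he using hmem
    refine ⟨S.image fun a => (m a * n x, s' a), fun e hee => ?_, fun ρ hρ hG => top_unique fun a _ => ?_⟩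
    · obtain ⟨a, -, rfl⟩ := Finset.mem_image.1 hee
      exact hs' a
    · have ha : a ∈ Algebra.adjoin Γ(Y, U x) (S : Set Γ(X, T x)) := hS ▸ Algebra.mem_top
      rename_i hatop
      clear hatop
      induction ha using Algebra.adjoin_induction with
      | mem b hb => exact hG _ (Finset.mem_image_of_mem _ hb) b (m b) rfl (he b) (hm b)
      | algebraMap b => exact hρ b
      | add b c _ _ hb hc => exact add_mem hb hc
      | mul b c _ _ hb hc => exact mul_mem hb hc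
  choose G hGd hG using hfin
  let R := fun (i : Λ) (x : PL) (k : ℕ) (z : 𝒮.presheaf.obj (op (U x))) =>
    ∃ y ∈ (𝒮i i).deg (U x) (hU x) k, ((φ i).hom.app (op (U x))).hom y = z
  have hRmono : ∀ {i i' : Λ}, i ≤ i' → ∀ {x k z}, R i x k z → R i' x k z := by
    rintro i i' h x k z ⟨y, hy, rfl⟩
    refine ⟨_, ht i i' h _ _ _ y hy, ?_⟩
    rw [← hφt i i' h]
    rfl
  obtain ⟨i, hi⟩ : ∃ i, ∀ x ∈ pts, R i x (n x) (s x) ∧ ∀ e ∈ G x, R i x e.1 e.2 := by
    have hex : ∀ (x : PL) (k : ℕ) (z : 𝒮.presheaf.obj (op (U x))), ∃ i, z ∈ 𝒮.deg (U x) (hU x) k → R i x k z := by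
      intro x k z
      by_cases hz : z ∈ 𝒮.deg (U x) (hU x) k
      · obtain ⟨i, y, hy, e⟩ := exists_homogeneous_lift 𝒮i φ hφ hsurj (U x) (hU x) k hz
        exact ⟨i, fun _ => ⟨y, hy, e⟩⟩
      · exact ⟨Classical.arbitrary Λ, fun h => absurd h hz⟩
    choose iR hiR using hex
    obtain ⟨i, hi⟩ := Directed.finset_le (r := (· ≤ ·)) (f := (id : Λ → Λ)) directed_id
      (pts.biUnion fun x => insert (iR x (n x) (s x)) ((G x).image fun e => iR x e.1 e.2))
    refine ⟨i, fun x hx => ⟨hRmono (hi _ ?_) (hiR _ _ _ (hs x)), fun e he => hRmono (hi _ ?_) (hiR _ _ _ (hGd x e he))⟩⟩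
    · exact Finset.mem_biUnion.2 ⟨x, hx, Finset.mem_insert_self _ _⟩
    · exact Finset.mem_biUnion.2 ⟨x, hx, Finset.mem_insert_of_mem (Finset.mem_image_of_mem _ he)⟩
  choose si hsi hsie using fun x : pts => (hi x.1 x.2).1
  have hχ : ∀ (x : pts) (V : X.Opens) (hV : IsAffineOpen V) (hVU : V ≤ q ⁻¹ᵁ U x),
      (ui i).gradedAt (U x) (hU x) V hV hVU (si x) = u.gradedAt (U x) (hU x) V hV hVU (s x) := fun x V hV hVU => by
    rw [GradedRingHom.congr_fun (gradedAt_comp u (φ i) (hφ i) (ui i) (hui i) (U x) (hU x) V hV hVU) (si x)]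
    exact congrArg (u.gradedAt (U x) (hU x) V hV hVU) (hsie x)
  have hcov : ∀ y : PL, ∃ x : pts, pL y ∈ T x := fun y => by
    obtain ⟨x, hx, hyx⟩ := Set.mem_iUnion₂.1 (hpts (Set.mem_univ y))
    exact ⟨⟨x, hx⟩, hyx⟩
  have hbasic : ∀ (x : pts), Proj.basicOpen (𝒮L.deg (T x) (hT x))
      ((ui i).gradedAt (U x) (hU x) (T x) (hT x) (hle x) (si x)) = ⊤ := fun x => by rw [hχ]; exact htopT x
  refine ⟨i, top_unique fun y _ => ?_, ?_⟩
  · obtain ⟨x, hx⟩ := hcov y
    obtain ⟨z, hz⟩ := (opensRange_emb (p := pL) (chart := chartL) (T x) (hT x)).ge hx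
    exact hz ▸ emb_mem_domQ (ui i) (hU x) (hT x) (hle x) (hn x) (si x) (hsi x) z (hbasic x ▸ Opens.mem_top z)
  · haveI : MorphismProperty.RespectsRight @IsImmersion @IsOpenImmersion :=
      ⟨fun k hk f hf => by haveI := hk; haveI := hf; infer_instance⟩
    refine IsZariskiLocalAtTarget.of_range_subset_iSup (P := @IsImmersion)
      (fun x : pts => (RelProj.emb (pi i) (charti i) (U x) (hU x)) ''ᵁ Proj.basicOpen ((𝒮i i).deg (U x) (hU x)) (si x))
      ?_ fun x => ?_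
    · rintro _ ⟨y, rfl⟩
      obtain ⟨x, hx⟩ := hcov y.1
      obtain ⟨z, hz⟩ := (opensRange_emb (p := pL) (chart := chartL) (T x) (hT x)).ge hx
      exact Opens.mem_iSup.2 ⟨x, (apply_mem_image_iff (ui i) (hU x) (hT x) (hle x) (hn x) (si x) (hsi x) (hPi i) hPL
        (ri i) (hri i) y z hz).mpr (hbasic x ▸ Opens.mem_top z)⟩
    · refine (restrict_iff (ui i) (hU x) (hT x) (hle x) (hn x) (si x) (hsi x) (hPi i) hPL (ri i) (hri i) @IsImmersion
        fun y hy => ?_).mpr ?_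
      · have hy' : q (pL y.1) ∈ U x := by
          have e := congrArg (fun k : (RelProj.domQ (ui i) pL chartL : Scheme.{u}) ⟶ Y => k y)
            ((existsUnique_projQMapOn (ui i) (hPi i) hPL).2 (ri i) (hri i))
          obtain ⟨z, -, hz⟩ := hy
          exact (show pi i (ri i y) = q (pL y.1) from e) ▸
            (opensRange_emb (p := pi i) (chart := charti i) (U x) (hU x)).le ⟨z, hz⟩
        obtain ⟨_, ⟨V, hV, rfl⟩, hyV, hVU⟩ := X.isBasis_affineOpens.exists_subset_of_mem_open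
          (a := pL y.1) (u := ((q ⁻¹ᵁ U x : X.Opens) : Set X)) hy' (q ⁻¹ᵁ U x).isOpen
        obtain ⟨z, hz⟩ := (opensRange_emb (p := pL) (chart := chartL) V hV).ge hyV
        have hzs := (apply_mem_image_iff (ui i) (hU x) hV hVU (hn x) (si x) (hsi x) (hPi i) hPL (ri i) (hri i) y z hz).mp hy
        rw [hχ] at hzs
        exact hz ▸ hpre x V hV hVU z hzs
      · haveI := IsClosedImmersion.spec_of_surjective (CommRingCat.ofHom (Away.map ((ui i).gradedAt (U x) (hU x) (T x)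
          (hT x) (hle x)) (si x))) ((awayMap_surjective_iff hL hLq hj (ui i) hPL (hU x) (hT x) (hle x) (hn x) (si x)
            (hsi x) (hbasic x)).mpr fun a => ?_)
        · infer_instance
        have htopρ := hG x (ratioRing (ui i) (hU x) (hT x) (hle x) (hsi x)) (appLE_mem_ratioRing _ _ _ _ _)
          fun e he b m hm heq hmpos => by
            obtain ⟨y, hy, hye⟩ := (hi x.1 x.2).2 e he
            refine ⟨m, hmpos, y, hm ▸ hy, ?_⟩
            rw [hχ, GradedRingHom.congr_fun (gradedAt_comp u (φ i) (hφ i) (ui i) (hui i) (U x) (hU x) (T x) (hT x) (hle x)) y]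
            exact heq.trans (congrArg (u.gradedAt (U x) (hU x) (T x) (hT x) (hle x)) hye.symm)
        exact (show a ∈ ratioRing (ui i) (hU x) (hT x) (hle x) (hsi x) from htopρ ▸ Subring.mem_top a)

end Groth.Agent.Proj16
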