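import Groth.Agent.Proj16.RLPsi

/-!
# Composition of the morphisms of `Proj`s induced by graded morphisms
-/

universe u

open CategoryTheory CategoryTheory.Limits AlgebraicGeometry TopologicalSpace Opposite HomogeneousLocalization
open scoped HomogeneousIdeal

set_option backward.isDefEq.respectTransparency false
set_option backward.isDefEq.respectTransparency.types false
set_option linter.style.haveILetI false
set_option linter.unusedSectionVars false

noncomputable section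

namespace Groth.Agent.Proj16

variable {Y X P P' PL : Scheme.{u}} {q : X ⟶ Y} {𝒮 𝒯 : RelProj.QCGrAlg Y} {𝒮L : RelProj.QCGrAlg X}
  {p : P ⟶ Y} {p' : P' ⟶ Y} {pL : PL ⟶ X}
  {chart : ∀ (U : Y.Opens) (hU : IsAffineOpen U), (((p ⁻¹ᵁ U : P.Opens) : Scheme.{u}) ≅ Proj (𝒮.deg U hU))}
  {chart' : ∀ (U : Y.Opens) (hU : IsAffineOpen U), (((p' ⁻¹ᵁ U : P'.Opens) : Scheme.{u}) ≅ Proj (𝒯.deg U hU))}
  {chartL : ∀ (U : X.Opens) (hU : IsAffineOpen U), (((pL ⁻¹ᵁ U : PL.Opens) : Scheme.{u}) ≅ Proj (𝒮L.deg U hU))}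
  (u : RelProj.QGrHom q 𝒮 𝒮L) (v : 𝒯.toQCAlg ⟶ 𝒮.toQCAlg) (hv : RelProj.IsGradedHom v)
  (u' : RelProj.QGrHom q 𝒯 𝒮L) (hu' : ∀ U : Y.Opens, u'.app U = v.hom.app (op U) ≫ u.app U)

include hu' in
/-- The composite, over a pair of affine opens. -/
lemma gradedAt_comp (U : Y.Opens) (hU : IsAffineOpen U) (U' : X.Opens) (hU' : IsAffineOpen U') (hle : U' ≤ q ⁻¹ᵁ U) :
    u'.gradedAt U hU U' hU' hle = (u.gradedAt U hU U' hU' hle).comp (RelProj.gradedHomAt v hv U hU) := by
  refine GradedRingHom.ext fun x => ?_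
  show (u'.app U ≫ 𝒮L.presheaf.map (homOfLE hle).op).hom x =
    (u.app U ≫ 𝒮L.presheaf.map (homOfLE hle).op).hom ((v.hom.app (op U)).hom x)
  rw [hu', Category.assoc]
  rfl

lemma away_map_comp_mid {U : Y.Opens} {hU : IsAffineOpen U} {U' : X.Opens} {hU' : IsAffineOpen U'}
    (ν : 𝒯.deg U hU →+*ᵍ 𝒮.deg U hU) (χ : 𝒮.deg U hU →+*ᵍ 𝒮L.deg U' hU') {d : ℕ}
    (f : 𝒯.presheaf.obj (op U)) (hf : f ∈ 𝒯.deg U hU d) :
    (Away.map (χ.comp ν) f :) = (Away.map χ (ν f)).comp (Away.map ν f) := by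
  refine RingHom.ext fun x => ?_
  obtain ⟨n, a, ha, rfl⟩ := x.mk_surjective (𝒯.deg U hU) hf
  apply HomogeneousLocalization.val_injective
  show _ = HomogeneousLocalization.val (Away.map χ (ν f) (Away.map ν f (Away.mk (𝒯.deg U hU) hf n a ha)))
  erw [Away.map_mk]

variable (hP : RelProj.IsRelProj 𝒮 p chart) (hP' : RelProj.IsRelProj 𝒯 p' chart')
  (hPL : RelProj.IsRelProj 𝒮L pL chartL)
  (r : (RelProj.domQ u pL chartL : Scheme.{u}) ⟶ P)
  (hr : RelProj.IsProjQMapOn u p chart pL chartL (RelProj.domQ u pL chartL) r)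
  (r' : (RelProj.domQ u' pL chartL : Scheme.{u}) ⟶ P')
  (hr' : RelProj.IsProjQMapOn u' p' chart' pL chartL (RelProj.domQ u' pL chartL) r')
  (π : (RelProj.domQ (RelProj.QGrHom.ofHom v hv) p chart : Scheme.{u}) ⟶ P')
  (hπ : RelProj.IsProjQMapOn (RelProj.QGrHom.ofHom v hv) p' chart' p chart
    (RelProj.domQ (RelProj.QGrHom.ofHom v hv) p chart) π)

include hu' hv in
/-- The domain of the composite is contained in the domain. -/
lemma domQ_comp_le : RelProj.domQ u' pL chartL ≤ RelProj.domQ u pL chartL := by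
  refine iSup_le fun V => ?_
  rintro _ ⟨z, hz, rfl⟩
  obtain ⟨d, f, hd, hf, hfz⟩ := exists_homogeneous_of_mem_domOpen _ hz
  refine emb_mem_domQ u V.1.1.2 V.1.2.2 V.2 hd (RelProj.gradedHomAt v hv V.1.1.1 V.1.1.2 f)
    ((RelProj.gradedHomAt v hv V.1.1.1 V.1.1.2).2 hf) z ?_
  rw [show (u.gradedAt V.1.1.1 V.1.1.2 V.1.2.1 V.1.2.2 V.2) (RelProj.gradedHomAt v hv V.1.1.1 V.1.1.2 f) = _ from
    (GradedRingHom.congr_fun (gradedAt_comp u v hv u' hu' _ _ _ _ _) f).symm]
  exact hfz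

include hu' hP hPL hr hr' hπ in
/-- The morphism of the composite is the composite of the morphisms. -/
theorem exists_comp (hle : RelProj.domQ u' pL chartL ≤ RelProj.domQ u pL chartL) :
    ∃ k : (RelProj.domQ u' pL chartL : Scheme.{u}) ⟶ (RelProj.domQ (RelProj.QGrHom.ofHom v hv) p chart : Scheme.{u}),
      k ≫ (RelProj.domQ (RelProj.QGrHom.ofHom v hv) p chart).ι = PL.homOfLE hle ≫ r ∧ k ≫ π = r' := by
  let uv := RelProj.QGrHom.ofHom v hv
  have key : ∀ i : PairElt q 𝒯,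
      ∃ c : Spec (CommRingCat.of (Away (𝒮L.deg i.U' i.hU') (i.hom u' i.f))) ⟶
          (RelProj.domQ uv p chart : Scheme.{u}),
        c ≫ (RelProj.domQ uv p chart).ι = domChart chartL u' i ≫ PL.homOfLE hle ≫ r ∧
          c ≫ π = domChart chartL u' i ≫ r' := by
    rintro ⟨U, hU, U', hU', hleU, d, hd, f, hf⟩
    let χ := u.gradedAt U hU U' hU' hleU
    let ν := RelProj.gradedHomAt v hv U hU
    have main : ∀ χ' : 𝒯.deg U hU →+*ᵍ 𝒮L.deg U' hU', χ' = χ.comp ν →
        ∀ e : Spec (CommRingCat.of (Away (𝒮L.deg U' hU') (χ' f))) ⟶ (RelProj.domQ u' pL chartL : Scheme.{u}),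
          e ≫ (RelProj.domQ u' pL chartL).ι = srcChart chartL χ' hd f hf →
          e ≫ r' = locMor chart' χ' hd f hf →
          ∃ c : Spec (CommRingCat.of (Away (𝒮L.deg U' hU') (χ' f))) ⟶ (RelProj.domQ uv p chart : Scheme.{u}),
            c ≫ (RelProj.domQ uv p chart).ι = e ≫ PL.homOfLE hle ≫ r ∧ c ≫ π = e ≫ r' := by
      rintro χ' rfl e he he'
      let j : PairElt q 𝒮 := ⟨U, hU, U', hU', hleU, d, hd, ν f, ν.2 hf⟩
      have h1 : e ≫ PL.homOfLE hle = domChart chartL u j := by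
        rw [← cancel_mono (RelProj.domQ u pL chartL).ι, Category.assoc, Scheme.homOfLE_ι, he, domChart_ι]
        rfl
      have h2 : domChart chartL u j ≫ r = locMor chart χ hd (ν f) (ν.2 hf) :=
        hr U hU U' hU' hleU d hd (ν f) (ν.2 hf) _
      have hν : uv.gradedAt U hU U hU le_rfl = ν := gradedAt_self v hv U hU
      have hmid : ∀ ν' : 𝒯.deg U hU →+*ᵍ 𝒮.deg U hU, ν' = ν →
          ∀ e₂ : Spec (CommRingCat.of (Away (𝒮.deg U hU) (ν' f))) ⟶ (RelProj.domQ uv p chart : Scheme.{u}),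
            e₂ ≫ (RelProj.domQ uv p chart).ι = srcChart chart ν' hd f hf →
            e₂ ≫ π = locMor chart' ν' hd f hf →
            ∃ c : Spec (CommRingCat.of (Away (𝒮L.deg U' hU') ((χ.comp ν) f))) ⟶
                (RelProj.domQ uv p chart : Scheme.{u}),
              c ≫ (RelProj.domQ uv p chart).ι = locMor chart χ hd (ν f) (ν.2 hf) ∧
                c ≫ π = locMor chart' (χ.comp ν) hd f hf := by
        rintro ν' rfl e₂ he₂ he₂'
        refine ⟨Spec.map (CommRingCat.ofHom (Away.map χ (ν f))) ≫ e₂, ?_, ?_⟩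
        · erw [Category.assoc, he₂]
        · erw [Category.assoc, he₂']
          simp only [locMor]
          erw [away_map_comp_mid ν χ f hf, CommRingCat.ofHom_comp, Spec.map_comp, Category.assoc]
          rfl
      obtain ⟨c, hc, hc'⟩ := hmid _ hν (domChart chart uv ⟨U, hU, U, hU, le_rfl, d, hd, f, hf⟩)
        (domChart_ι uv _) (hπ U hU U hU le_rfl d hd f hf _)
      refine ⟨c, ?_, hc'.trans he'.symm⟩
      rw [hc, reassoc_of% h1]
      exact h2.symm
    exact main _ (gradedAt_comp u v hv u' hu' U hU U' hU' hleU) _ (domChart_ι u' _)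
      (hr' U hU U' hU' hleU d hd f hf _)
  choose c hc hc' using key
  have hran : Set.range (PL.homOfLE hle ≫ r).base ⊆ Set.range (RelProj.domQ uv p chart).ι.base := by
    rintro _ ⟨x, rfl⟩
    obtain ⟨i, t, ht⟩ : ∃ (i : PairElt q 𝒯) (t : _), domChart chartL u' i t = x :=
      ⟨_, (domCover chartL u').covers x⟩
    exact ⟨c i t, by rw [← ht, ← Scheme.Hom.comp_apply, hc, Scheme.Hom.comp_apply]⟩
  refine ⟨IsOpenImmersion.lift _ _ hran, IsOpenImmersion.lift_fac _ _ _, ?_⟩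
  refine (domCover chartL u').hom_ext _ _ fun i => ?_
  show domChart chartL u' i ≫ IsOpenImmersion.lift _ _ hran ≫ π = domChart chartL u' i ≫ r'
  have h3 : domChart chartL u' i ≫ IsOpenImmersion.lift _ _ hran = c i := by
    rw [← cancel_mono (RelProj.domQ uv p chart).ι, Category.assoc, IsOpenImmersion.lift_fac]
    exact (hc i).symm
  rw [reassoc_of% h3]
  exact hc' i

include hu' hP hPL hr in
/-- The points mapped into the domain of `Proj(v)` lie in the domain of the composite. -/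
theorem mem_domQ_of_apply_mem (x : (RelProj.domQ u pL chartL : Scheme.{u}))
    (hx : r x ∈ RelProj.domQ (RelProj.QGrHom.ofHom v hv) p chart) : x.1 ∈ RelProj.domQ u' pL chartL := by
  obtain ⟨_, ⟨V, hV, rfl⟩, hxV, -⟩ := Y.isBasis_affineOpens.exists_subset_of_mem_open
    (Set.mem_univ (p (r x))) isOpen_univ
  obtain ⟨y, hy⟩ := (opensRange_emb (p := p) (chart := chart) V hV).ge hxV
  obtain ⟨d, f, hd, hf, hfy⟩ := exists_homogeneous_of_mem_domOpen _
    ((emb_mem_domQ_iff v hv hP V hV y).mp (hy ▸ hx))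
  have hxq : q (pL x.1) ∈ V := by
    have := congrArg (fun k : (RelProj.domQ u pL chartL : Scheme.{u}) ⟶ Y => k x)
      ((existsUnique_projQMapOn u hP hPL).2 r hr)
    exact (show p (r x) = q (pL x.1) from this) ▸ hxV
  obtain ⟨_, ⟨V', hV', rfl⟩, hxV', hV'sub⟩ := X.isBasis_affineOpens.exists_subset_of_mem_open
    (a := pL x.1) (u := ((q ⁻¹ᵁ V : X.Opens) : Set X)) hxq (q ⁻¹ᵁ V).isOpen
  obtain ⟨z, hz⟩ := (opensRange_emb (p := pL) (chart := chartL) V' hV').ge hxV'
  have hzf := (apply_mem_image_iff u hV hV' hV'sub hd _ ((RelProj.gradedHomAt v hv V hV).2 hf) hP hPL r hr x z hz).mp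
    ⟨y, hfy, hy⟩
  replace hzf : z ∈ Proj.basicOpen (𝒮L.deg V' hV') (u'.gradedAt V hV V' hV' hV'sub f) := by
    rw [GradedRingHom.congr_fun (gradedAt_comp u v hv u' hu' V hV V' hV' hV'sub) f]
    exact hzf
  exact hz ▸ emb_mem_domQ u' hV hV' hV'sub hd f hf z hzf

end Groth.Agent.Proj16
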