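import Groth.Agent.Proj16.RLPsiRatio
import Groth.Agent.SymX.JDegOne
import Groth.Agent.SymX.SymQHom
import Groth.Agent.SymX.CompBase
import Groth.Agent.QcqsColim.FTSub

/-!
# Immersions into projective bundles come from submodules of finite type
-/

universe u

open CategoryTheory CategoryTheory.Limits AlgebraicGeometry TopologicalSpace Opposite HomogeneousLocalization

set_option backward.isDefEq.respectTransparency false
set_option backward.isDefEq.respectTransparency.types false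
set_option linter.style.haveILetI false
set_option linter.unusedSectionVars false

noncomputable section

namespace Groth.Agent.Proj16

open Groth.Agent

variable {Y X P PL : Scheme.{u}} {q : X ⟶ Y} {L : X.Modules} {𝒮 : RelProj.QCGrAlg Y} {𝒮L : RelProj.QCGrAlg X}
  {j : L ⟶ 𝒮L.toModule} {p : P ⟶ Y} {pL : PL ⟶ X}
  {chart : ∀ (U : Y.Opens) (hU : IsAffineOpen U), (((p ⁻¹ᵁ U : P.Opens) : Scheme.{u}) ≅ Proj (𝒮.deg U hU))}
  {chartL : ∀ (U : X.Opens) (hU : IsAffineOpen U), (((pL ⁻¹ᵁ U : PL.Opens) : Scheme.{u}) ≅ Proj (𝒮L.deg U hU))}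
  (hL : PicF.IsInvertible L) (hLq : Coh.IsQCoh L) (hj : RelProj.IsGrSymAlg L 𝒮L j)
  {E : Y.Modules} {jE : E ⟶ 𝒮.toModule} (C : SymX.Chartwise E 𝒮 jE)
  (u : RelProj.QGrHom q 𝒮 𝒮L) (hP : RelProj.IsRelProj 𝒮 p chart) (hPL : RelProj.IsRelProj 𝒮L pL chartL)
  (r : (RelProj.domQ u pL chartL : Scheme.{u}) ⟶ P)
  (hr : RelProj.IsProjQMapOn u p chart pL chartL (RelProj.domQ u pL chartL) r)
  (θ : E ⟶ (Scheme.Modules.pushforward q).obj L)
  (hσ : ∀ (U : Y.Opens) (e : Γ(E, U)), (u.app U).hom (jE.app U e) =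
    (show 𝒮L.presheaf.obj (op (q ⁻¹ᵁ U)) from j.app (q ⁻¹ᵁ U) (SymX.th q θ e)))

include hL hLq hj C hP hPL hr hσ in
/-- An immersion gives embedding ratios wherever a section generates. -/
theorem immPoints_of_isImmersion (hgen : ∀ x : X, ∃ (U : Y.Opens) (_ : IsAffineOpen U) (e : Γ(E, U)),
    x ∈ AmpleX.locus (SymX.th q θ e)) (hrim : IsImmersion r) : SymX.ImmPoints q θ := by
  intro x
  obtain ⟨U, hU, e, hxe⟩ := hgen x
  refine ⟨U, hU, e, hxe, ?_⟩
  haveI : IsIso pL := SymX.isIso_relProj hL hLq hj pL chartL hPL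
  let T := AmpleX.locus (SymX.th q θ e)
  have hTU : T ≤ q ⁻¹ᵁ U := AmpleX.locus_le _
  let s : 𝒮.presheaf.obj (op U) := jE.app U e
  have hsd : s ∈ 𝒮.deg U hU 1 := C.isGrSymAlg.2 U hU e
  have hval : ∀ (m : Γ(E, U)) (V : X.Opens) (hV : IsAffineOpen V)
      (hle : V ≤ q ⁻¹ᵁ U), u.gradedAt U hU V hV hle (jE.app U m) =
        (show 𝒮L.presheaf.obj (op V) from j.app V (AModX.res L hle (SymX.th q θ m))) := by
    intro m V hV hle
    show (𝒮L.presheaf.map (homOfLE hle).op).hom ((u.app U).hom (jE.app U m)) = _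
    rw [hσ, SymX.map_j]
  have hmem : ∀ (V : X.Opens) (hV : IsAffineOpen V) (hle : V ≤ q ⁻¹ᵁ U) (z : Proj (𝒮L.deg V hV)),
      z ∈ Proj.basicOpen (𝒮L.deg V hV) (u.gradedAt U hU V hV hle s) ↔ pL (RelProj.emb pL chartL V hV z) ∈ T := by
    intro V hV hle z
    have h1 := SymX.mem_basicOpen_elt_iff hL hLq hj hPL Nat.one_pos hV hle (AmpleX.powElt (SymX.th q θ e) 1) z
    rw [SymX.elt_powElt, pow_one, SymX.map_j, ← hval _ V hV hle, locus_pow_one hL] at h1
    exact h1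
  have hTd : pL ⁻¹ᵁ T ≤ RelProj.domQ u pL chartL := by
    intro y hy
    obtain ⟨_, ⟨V, hV, rfl⟩, hyV, hVsub⟩ := X.isBasis_affineOpens.exists_subset_of_mem_open
      (a := pL y) (u := ((q ⁻¹ᵁ U : X.Opens) : Set X)) (hTU hy) (q ⁻¹ᵁ U).isOpen
    obtain ⟨z, hz⟩ := (opensRange_emb (p := pL) (chart := chartL) V hV).ge hyV
    exact hz ▸ emb_mem_domQ u hU hV hVsub Nat.one_pos _ hsd z ((hmem V hV hVsub z).mpr (by rw [hz]; exact hy))
  have hT : ∀ y : (RelProj.domQ u pL chartL : Scheme.{u}),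
      r y ∈ (RelProj.emb p chart U hU) ''ᵁ Proj.basicOpen (𝒮.deg U hU) s ↔ pL y.1 ∈ T := by
    intro y
    constructor
    · intro hy
      have hyq : q (pL y.1) ∈ U := by
        obtain ⟨y', -, hyy⟩ := hy
        have e := congrArg (fun k : (RelProj.domQ u pL chartL : Scheme.{u}) ⟶ Y => k y)
          ((existsUnique_projQMapOn u hP hPL).2 r hr)
        exact (show p (r y) = q (pL y.1) from e) ▸ (opensRange_emb (p := p) (chart := chart) U hU).le ⟨y', hyy⟩
      obtain ⟨_, ⟨V, hV, rfl⟩, hyV, hVsub⟩ := X.isBasis_affineOpens.exists_subset_of_mem_open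
        (a := pL y.1) (u := ((q ⁻¹ᵁ U : X.Opens) : Set X)) hyq (q ⁻¹ᵁ U).isOpen
      obtain ⟨z, hz⟩ := (opensRange_emb (p := pL) (chart := chartL) V hV).ge hyV
      rw [← hz]
      exact (hmem V hV hVsub z).mp
        ((apply_mem_image_iff u hU hV hVsub Nat.one_pos _ hsd hP hPL r hr y z hz).mp hy)
    · intro hy
      obtain ⟨_, ⟨V, hV, rfl⟩, hyV, hVsub⟩ := X.isBasis_affineOpens.exists_subset_of_mem_open
        (a := pL y.1) (u := ((q ⁻¹ᵁ U : X.Opens) : Set X)) (hTU hy) (q ⁻¹ᵁ U).isOpen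
      obtain ⟨z, hz⟩ := (opensRange_emb (p := pL) (chart := chartL) V hV).ge hyV
      refine (apply_mem_image_iff u hU hV hVsub Nat.one_pos _ hsd hP hPL r hr y z hz).mpr
        ((hmem V hV hVsub z).mpr ?_)
      rw [hz]; exact hy
  obtain ⟨ψ, -, h2, h3⟩ := exists_ratioMap hL hLq hj u hPL r hr hU Nat.one_pos s hsd T hTU hTd hT
    (fun V hV hle => top_unique fun z _ => (hmem V hV _ z).mpr
      (hle ((opensRange_emb (p := pL) (chart := chartL) V hV).le ⟨z, rfl⟩)))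
  haveI : IsImmersion (T.toSpecΓ ≫ Spec.map ψ) := h2 hrim
  let R := Subring.closure (SymX.ratioSet q θ e)
  have hfr := AmpleX.isFrame_res_locus (SymX.th q θ e)
  have hcoord : ∀ m : Γ(E, U), ∃ b : Γ(X, T), AModX.res L hTU (SymX.th q θ m) = b • AModX.res L hTU (SymX.th q θ e) :=
    fun m => by
      obtain ⟨b, hb⟩ := hfr.exists_coord le_rfl (AModX.res L hTU (SymX.th q θ m))
      rw [AModX.res_self] at hb
      exact ⟨b, hb⟩
  choose b hb using hcoord
  have huniq : ∀ a a' : Γ(X, T), a • AModX.res L hTU (SymX.th q θ e) = a' • AModX.res L hTU (SymX.th q θ e) → a = a' :=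
    fun a a' h => hfr.coord_unique le_rfl (by rwa [AModX.res_self])
  have h0 : ∀ c, ψ.hom (fromZeroRingHom (𝒮.deg U hU) _ ((𝒮.strZero U hU).hom c)) = AModX.resR hTU (q.app U c) := by
    intro c
    refine Eq.trans (congrArg ψ.hom ?_) (h3 (AModX.resR hTU (q.app U c)) 0 ((𝒮.str.app (op U)).hom c)
      (by rw [zero_smul]; exact 𝒮.str_mem U hU c) fun V hV hle => ?_)
    · apply HomogeneousLocalization.val_injective
      rw [Away.val_mk]
      show Localization.mk ((𝒮.str.app (op U)).hom c) 1 = _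
      rw [Localization.mk_eq_mk_iff, Localization.r_iff_exists]
      exact ⟨1, by simp only [Submonoid.coe_one, one_mul, pow_zero]⟩
    · rw [pow_zero, mul_one, AModX.resR_resR]
      show _ = (𝒮L.presheaf.map (homOfLE _).op).hom ((u.app U).hom ((𝒮.str.app (op U)).hom c))
      have h1 := ConcreteCategory.congr_hom (u.str_app U) c
      rw [show (u.app U).hom ((𝒮.str.app (op U)).hom c) =
        (𝒮L.str.app (op (q ⁻¹ᵁ U))).hom (q.app U c) from h1, SymX.map_str]
  have h1 : ∀ m, ψ.hom (SymX.ratio C U hU e m) = b m := fun m => by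
    refine h3 (b m) 1 (jE.app U m) (by rw [one_smul]; exact C.isGrSymAlg.2 U hU m) fun V hV hle => ?_
    rw [pow_one, hval, hval]
    have h2 := congrArg (AModX.res L hle) (hb m)
    rw [AModX.res_res, AModX.res_smul, AModX.res_res] at h2
    rw [h2]
    exact (Scheme.Modules.Hom.app_smul j _ _).symm
  let τ : Γ(Y, U) →+* R := ((AModX.resR hTU).comp (q.app U).hom).codRestrict R fun a =>
    Subring.subset_closure (Or.inl ⟨a, rfl⟩)
  let c : Γ(E, U) →+ R := AddMonoidHom.mk' (fun m => ⟨b m, Subring.subset_closure (Or.inr ⟨m, hb m⟩)⟩) fun m m' =>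
    Subtype.ext (huniq _ _ (by
      show b (m + m') • _ = (b m + b m') • _
      rw [add_smul, ← hb, ← hb, ← hb, SymX.th_add, map_add]))
  have hc : ∀ a m, c (a • m) = τ a * c m := fun a m => Subtype.ext (huniq _ _ (by
    show b (a • m) • _ = (AModX.resR hTU (q.app U a) * b m) • _
    rw [mul_smul, ← hb, ← hb, SymX.th_smul, AModX.res_smul]))
  have hce : c e = 1 := Subtype.ext (huniq _ _ (by
    show b e • _ = (1 : Γ(X, T)) • _
    rw [one_smul, ← hb]))
  obtain ⟨ρ₀, hρ0, hρ1⟩ := SymX.exists_away_hom C U hU e τ c hc hce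
  have e2 : ψ.hom = R.subtype.comp ρ₀ := SymX.away_hom_ext C U hU e _ _
    (fun a => (h0 a).trans (congrArg Subtype.val (hρ0 a)).symm)
    (fun m => (h1 m).trans (congrArg Subtype.val (hρ1 m)).symm)
  exact SymX.isImmersion_subSpec_of_hom T ψ R fun w => by rw [e2]; exact (ρ₀ w).2

end Groth.Agent.Proj16

namespace Groth.Agent.SymX

open Groth.Agent Groth.Agent.QCoh

variable {X Y : Scheme.{u}} {q : X ⟶ Y} {L : X.Modules}

lemma subset_ratioSet_of_comp {E E' : Y.Modules} (α : E ⟶ E') (θ : E' ⟶ (Scheme.Modules.pushforward q).obj L)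
    {U : Y.Opens} (e : Γ(E, U)) : ratioSet q (α ≫ θ) e ⊆ ratioSet q θ (α.app U e) := by
  rintro b (h | ⟨m, hm⟩)
  · exact Or.inl h
  · exact Or.inr ⟨α.app U m, hm⟩

/-- Embedding ratios persist for more sections. -/
theorem immPoints_of_comp {E E' : Y.Modules} (α : E ⟶ E') (θ : E' ⟶ (Scheme.Modules.pushforward q).obj L)
    (h : ImmPoints q (α ≫ θ)) : ImmPoints q θ := by
  intro x
  obtain ⟨U, hU, e, hxe, himm⟩ := h x
  refine ⟨U, hU, α.app U e, hxe, ?_⟩
  exact @isImmersion_subSpec_of_le X (AmpleX.locus (th q θ (α.app U e))) _ _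
    (Subring.closure_mono (subset_ratioSet_of_comp α θ e)) himm

lemma immAt_of_subset {E : Y.Modules} (θ : E ⟶ (Scheme.Modules.pushforward q).obj L) {F : Y.Modules}
    (α : F ⟶ (Scheme.Modules.pushforward q).obj L) {U : Y.Opens} (e : Γ(E, U)) (e' : Γ(F, U))
    (h : th q θ e = th q α e') (S : Set Γ(X, AmpleX.locus (th q θ e)))
    (hS : ∀ b ∈ S, (∃ r : Γ(Y, U), b = AModX.resR (AmpleX.locus_le (th q θ e)) (q.app U r)) ∨
      ∃ m : Γ(F, U), AModX.res L (AmpleX.locus_le (th q θ e)) (th q α m) =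
        b • AModX.res L (AmpleX.locus_le (th q θ e)) (th q θ e))
    (himm : IsImmersion (subSpec (AmpleX.locus (th q θ e)) (Subring.closure
      (Set.range ((AModX.resR (AmpleX.locus_le (th q θ e))).comp (q.app U).hom) ∪ S)))) : ImmAt q α e' := by
  have key : ∀ t : Γ(L, q ⁻¹ᵁ U), t = th q α e' → ∀ S' : Set Γ(X, AmpleX.locus t),
      (∀ b ∈ S', (∃ r : Γ(Y, U), b = AModX.resR (AmpleX.locus_le t) (q.app U r)) ∨
        ∃ m : Γ(F, U), AModX.res L (AmpleX.locus_le t) (th q α m) = b • AModX.res L (AmpleX.locus_le t) t) →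
      IsImmersion (subSpec (AmpleX.locus t) (Subring.closure
        (Set.range ((AModX.resR (AmpleX.locus_le t)).comp (q.app U).hom) ∪ S'))) → ImmAt q α e' := by
    rintro _ rfl S' hS' himm'
    haveI := himm'
    refine isImmersion_subSpec_of_le (R' := Subring.closure
        (Set.range ((AModX.resR (AmpleX.locus_le (th q α e'))).comp (q.app U).hom) ∪ S')) _
      (Subring.closure_mono ?_)
    rintro b (⟨r, rfl⟩ | hb)
    · exact Or.inl ⟨r, rfl⟩
    · exact hS' b hb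
  exact key _ h S hS himm

/-- Embedding ratios come from a submodule of finite type. -/
theorem exists_ft_immPoints [CompactSpace Y] [QuasiCompact q] [LocallyOfFiniteType q]
    (hYs : ∀ V : Y.Opens, IsAffineOpen V → ExtStep V) (hL : PicF.IsInvertible L)
    {F : Y.Modules} (hF : Coh.IsQCoh F) (θ : F ⟶ (Scheme.Modules.pushforward q).obj L) (h : ImmPoints q θ) :
    ∃ N : SubMod F, FTOn N ⊤ ∧ ImmPoints q (N.ι ≫ θ) := by
  classical
  haveI : CompactSpace X := QuasiCompact.compactSpace_of_compactSpace q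
  choose U hU e hxe himm using h
  choose S hSsub hSfin hSimm using fun x => exists_finite_immAt hL (hU x) (e x) (himm x)
  let pick : ∀ x, Γ(X, AmpleX.locus (th q θ (e x))) → Γ(F, U x) := fun x b =>
    if h : ∃ m : Γ(F, U x), AModX.res L (AmpleX.locus_le (th q θ (e x))) (th q θ m) =
      b • AModX.res L (AmpleX.locus_le (th q θ (e x))) (th q θ (e x)) then h.choose else e x
  obtain ⟨pts, hpts⟩ := isCompact_univ.elim_finite_subcover (fun x : X => (AmpleX.locus (th q θ (e x)) : Set X))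
    (fun x => (AmpleX.locus (th q θ (e x))).2) fun x _ => Set.mem_iUnion.2 ⟨x, hxe x⟩
  obtain ⟨N, hN, hNT⟩ : ∃ N : SubMod F, FTOn N ⊤ ∧ ∀ x ∈ pts, insert (e x) (pick x '' S x) ⊆ N.mem (U x) := by
    clear hpts
    induction pts using Finset.induction_on with
    | empty => exact ⟨(Classical.arbitrary (QcqsColim.FTIndex F)).1, (Classical.arbitrary (QcqsColim.FTIndex F)).2, by simp⟩
    | insert a s _ ih =>
      obtain ⟨N, hN, hNs⟩ := ih
      obtain ⟨N', hN', hN'a⟩ := exists_ftOn_contains hF (hU a) (hYs _ (hU a)) _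
        (((hSfin a).image (pick a)).insert (e a))
      refine ⟨QcqsColim.supSub N' N, QcqsColim.ftOn_supSub hN' hN, fun x hx t ht => ?_⟩
      rcases Finset.mem_insert.1 hx with rfl | hx
      · exact QcqsColim.mem_supSub_left _ _ _ (hN'a ht)
      · exact QcqsColim.mem_supSub_right _ _ _ (hNs x hx ht)
  refine ⟨N, hN, fun y => ?_⟩
  obtain ⟨x, hx, hyx⟩ := Set.mem_iUnion₂.1 (hpts (Set.mem_univ y))
  obtain ⟨e', he'⟩ := N.exists_app_eq (hNT x hx (Set.mem_insert _ _))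
  have heq : th q θ (e x) = th q (N.ι ≫ θ) e' := by
    show θ.app (U x) (e x) = θ.app (U x) (N.ι.app (U x) e')
    rw [he']
  refine ⟨U x, hU x, e', by rw [← heq]; exact hyx, immAt_of_subset θ (N.ι ≫ θ) (e x) e' heq (S x) ?_ (hSimm x)⟩
  intro b hb
  rcases hSsub x hb with h | h
  · exact Or.inl h
  · obtain ⟨m', hm'⟩ := N.exists_app_eq (hNT x hx (Set.mem_insert_of_mem _ ⟨b, hb, rfl⟩))
    refine Or.inr ⟨m', ?_⟩
    show AModX.res L _ (θ.app (U x) (N.ι.app (U x) m')) = _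
    rw [hm']
    simp only [pick, dif_pos h]
    exact h.choose_spec

/-- The extension property on the schemes considered. -/
theorem extStep_of_hyp (hYs : (CompactSpace Y ∧ Y.IsSeparated) ∨ NoetherianSpace Y) :
    CompactSpace Y ∧ ∀ V : Y.Opens, IsAffineOpen V → ExtStep V := by
  rcases hYs with ⟨hc, hs⟩ | hn
  · haveI := hc
    haveI := hs
    exact ⟨hc, fun V hV => extStep_qcqs hV.isCompact⟩
  · haveI := hn
    exact ⟨inferInstance, fun V _ => extStep_noetherian (fun x => ⟨⊤, trivial, inferInstance⟩) V⟩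

end Groth.Agent.SymX

namespace Groth.Agent.Proj16

open Groth.Agent Groth.Agent.QCoh

variable {Y X PL : Scheme.{u}} {q : X ⟶ Y} {L : X.Modules} {𝒮L : RelProj.QCGrAlg X}
  {j : L ⟶ 𝒮L.toModule} {pL : PL ⟶ X}
  {chartL : ∀ (U : X.Opens) (hU : IsAffineOpen U), (((pL ⁻¹ᵁ U : PL.Opens) : Scheme.{u}) ≅ Proj (𝒮L.deg U hU))}
  (hL : PicF.IsInvertible L) (hLq : Coh.IsQCoh L) (hj : RelProj.IsGrSymAlg L 𝒮L j)
  (hPL : RelProj.IsRelProj 𝒮L pL chartL)

include hL hLq hj hPL in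
/-- A section spanning the degree one part is a frame there. -/
theorem mem_locus_of_span {W : X.Opens} (t : Γ(L, W)) {V : X.Opens} (hV : IsAffineOpen V) (hle : V ≤ W)
    (h : ((𝒮L.deg V hV 1 : AddSubgroup (𝒮L.presheaf.obj (op V))) : Set (𝒮L.presheaf.obj (op V))) ⊆
      (Ideal.span {(show 𝒮L.presheaf.obj (op V) from j.app V (AModX.res L hle t))} :
        Set (𝒮L.presheaf.obj (op V)))) {x : X} (hx : x ∈ V) : x ∈ AmpleX.locus t := by
  haveI : IsIso pL := SymX.isIso_relProj hL hLq hj pL chartL hPL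
  have hy : pL ((CategoryTheory.inv pL) x) = x := by
    rw [← Scheme.Hom.comp_apply, IsIso.inv_hom_id]; rfl
  obtain ⟨z, hz⟩ := (opensRange_emb (p := pL) (chart := chartL) V hV).ge
    (show (CategoryTheory.inv pL) x ∈ pL ⁻¹ᵁ V from (show pL ((CategoryTheory.inv pL) x) ∈ V from hy.symm ▸ hx))
  obtain ⟨f, hfz⟩ := Opens.mem_iSup.1 ((ProjX.iSup_basicOpen_deg_one (SymX.isGenDegOne_of_isGrSymAlg hLq hj) V hV _
    Ideal.subset_span).ge (trivial : z ∈ (⊤ : (Proj (𝒮L.deg V hV)).Opens)))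
  obtain ⟨c, hc⟩ := Ideal.mem_span_singleton'.1 (h f.2)
  have hz' : z ∈ Proj.basicOpen (𝒮L.deg V hV) (show 𝒮L.presheaf.obj (op V) from j.app V (AModX.res L hle t)) := by
    rw [Proj.mem_basicOpen] at hfz ⊢
    intro hmem
    exact hfz (hc ▸ Ideal.mul_mem_left _ c hmem)
  have h1 := SymX.mem_basicOpen_elt_iff hL hLq hj hPL Nat.one_pos hV hle (AmpleX.powElt t 1) z
  rw [SymX.elt_powElt, pow_one, SymX.map_j, locus_pow_one hL] at h1
  rw [← hy, ← hz]
  exact h1.1 hz'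

include hLq hj in
/-- Over an affine open in the locus, the section spans the degree one part. -/
theorem span_of_le_locus {W : X.Opens} (t : Γ(L, W)) {V : X.Opens} (hV : IsAffineOpen V) (hle : V ≤ W)
    (h : V ≤ AmpleX.locus t) :
    ((𝒮L.deg V hV 1 : AddSubgroup (𝒮L.presheaf.obj (op V))) : Set (𝒮L.presheaf.obj (op V))) ⊆
      (Ideal.span {(show 𝒮L.presheaf.obj (op V) from j.app V (AModX.res L hle t))} :
        Set (𝒮L.presheaf.obj (op V))) := by
  intro y hy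
  obtain ⟨m, rfl⟩ := SymX.exists_j_eq (SymX.nonempty_chartwise hLq hj).some V hV hy
  obtain ⟨c, hc⟩ := (AmpleX.isFrame_res_of_le t h).exists_coord le_rfl m
  rw [AModX.res_self] at hc
  refine Ideal.mem_span_singleton'.2 ⟨(𝒮L.str.app (op V)).hom c, ?_⟩
  rw [hc, ← SymX.j_smul]

include hL hLq hj hPL in
/-- Embedding ratios give a projective bundle of a submodule of finite type with an immersion. -/
theorem exists_sub [QuasiCompact q] [LocallyOfFiniteType q]
    (hYs : (CompactSpace Y ∧ Y.IsSeparated) ∨ NoetherianSpace Y) {F : Y.Modules} (hF : Coh.IsQCoh F)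
    (θ : F ⟶ (Scheme.Modules.pushforward q).obj L) (h : SymX.ImmPoints q θ) :
    ∃ (E : Y.Modules) (_ : Coh.IsQCoh E) (_ : CohB1.IsFT E) (ι : E ⟶ F)
      (_ : ∀ U : Y.Opens, Function.Injective (ι.app U))
      (𝒯 : RelProj.QCGrAlg Y) (jE : E ⟶ 𝒯.toModule) (_ : RelProj.IsGrSymAlg E 𝒯 jE)
      (u : RelProj.QGrHom q 𝒯 𝒮L)
      (_ : ∀ (U : Y.Opens) (x : Γ(E, U)), (u.app U).hom ((jE.app U) x) =
        (show 𝒮L.presheaf.obj (op (q ⁻¹ᵁ U)) from (j.app (q ⁻¹ᵁ U)) (SymX.th q θ (ι.app U x)))),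
      (∀ x : X, ∃ (U : Y.Opens) (_ : IsAffineOpen U) (e : Γ(E, U)) (V : X.Opens) (hV : IsAffineOpen V)
          (hVU : V ≤ q ⁻¹ᵁ U), x ∈ V ∧
            ((𝒮L.deg V hV 1 : AddSubgroup (𝒮L.presheaf.obj (op V))) : Set (𝒮L.presheaf.obj (op V))) ⊆
              (Ideal.span {(u.appLE U V hVU).hom ((jE.app U) e)} : Set (𝒮L.presheaf.obj (op V)))) ∧
      ∀ (P : Scheme.{u}) (p : P ⟶ Y)
          (chart : ∀ (U : Y.Opens) (hU : IsAffineOpen U), (((p ⁻¹ᵁ U : P.Opens) : Scheme.{u}) ≅ Proj (𝒯.deg U hU)))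
          (_ : RelProj.IsRelProj 𝒯 p chart)
          (r : ((RelProj.domQ u pL chartL : PL.Opens) : Scheme.{u}) ⟶ P)
          (_ : RelProj.IsProjQMapOn u p chart pL chartL (RelProj.domQ u pL chartL) r),
        RelProj.domQ u pL chartL = ⊤ ∧ IsImmersion r := by
  obtain ⟨hc, hext⟩ := SymX.extStep_of_hyp hYs
  haveI := hc
  obtain ⟨N, hN, hNimm⟩ := SymX.exists_ft_immPoints hext hL hF θ h
  have hEq : Coh.IsQCoh N.toModules := isQCoh_of_ftOn hF hN
  obtain ⟨𝒯, jE, ⟨C⟩⟩ := SymX.exists_chartwise hEq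
  obtain ⟨u, hu⟩ := SymX.exists_symQGrHom C 𝒮L (q := q) ((N.ι ≫ θ) ≫ (Scheme.Modules.pushforward q).map j)
    fun U hU V hV hle x => by
      show (𝒮L.presheaf.map (homOfLE hle).op).hom
        (show 𝒮L.presheaf.obj (op (q ⁻¹ᵁ U)) from j.app (q ⁻¹ᵁ U) (SymX.th q (N.ι ≫ θ) x)) ∈ _
      rw [SymX.map_j]
      exact hj.2 V hV _
  refine ⟨N.toModules, hEq, isFT_of_ftOn hF hN, N.ι, N.ι_app_injective, 𝒯, jE, C.isGrSymAlg, u, hu, fun x => ?_,
    fun P p chart hP r hr => of_immPoints hL hLq hj u hP hPL r hr (N.ι ≫ θ) (fun U e => jE.app U e)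
      (fun U hU e => C.isGrSymAlg.2 U hU e) hu hNimm⟩
  obtain ⟨U, hU, e, hxe, -⟩ := hNimm x
  obtain ⟨_, ⟨V, hV, rfl⟩, hxV, hVsub⟩ := X.isBasis_affineOpens.exists_subset_of_mem_open hxe
    (AmpleX.locus (SymX.th q (N.ι ≫ θ) e)).isOpen
  have hVU : V ≤ q ⁻¹ᵁ U := fun y hy => AmpleX.locus_le _ (hVsub hy)
  refine ⟨U, hU, e, V, hV, hVU, hxV, ?_⟩
  intro y hy
  have h1 := span_of_le_locus hLq hj (SymX.th q (N.ι ≫ θ) e) hV hVU hVsub hy
  rw [← SymX.map_j hVU] at h1
  show y ∈ Ideal.span {(𝒮L.presheaf.map (homOfLE hVU).op).hom ((u.app U).hom (jE.app U e))}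
  rw [hu]
  exact h1

end Groth.Agent.Proj16
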