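import Groth.Agent.Proj16.RLPsiImm
import Groth.Agent.SymX.ImmPoint
import Groth.Agent.SymX.SectLocus

/-!
# Ratios embedding an open give immersions into `Proj`
-/

universe u

open CategoryTheory CategoryTheory.Limits AlgebraicGeometry TopologicalSpace Opposite HomogeneousLocalization

set_option backward.isDefEq.respectTransparency false
set_option backward.isDefEq.respectTransparency.types false
set_option linter.style.haveILetI false
set_option linter.unusedSectionVars false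

noncomputable section

namespace Groth.Agent.Proj16

open Groth.Agent

variable {Y X P PL : Scheme.{u}} {q : X ⟶ Y} {L : X.Modules} {𝒮 : RelProj.QCGrAlg Y} {𝒮L : RelProj.QCGrAlg X}
  {j : L ⟶ 𝒮L.toModule} {p : P ⟶ Y} {pL : PL ⟶ X}
  {chart : ∀ (U : Y.Opens) (hU : IsAffineOpen U), (((p ⁻¹ᵁ U : P.Opens) : Scheme.{u}) ≅ Proj (𝒮.deg U hU))}
  {chartL : ∀ (U : X.Opens) (hU : IsAffineOpen U), (((pL ⁻¹ᵁ U : PL.Opens) : Scheme.{u}) ≅ Proj (𝒮L.deg U hU))}
  (hL : PicF.IsInvertible L) (hLq : Coh.IsQCoh L) (hj : RelProj.IsGrSymAlg L 𝒮L j)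
  (u : RelProj.QGrHom q 𝒮 𝒮L) (hP : RelProj.IsRelProj 𝒮 p chart) (hPL : RelProj.IsRelProj 𝒮L pL chartL)
  (r : (RelProj.domQ u pL chartL : Scheme.{u}) ⟶ P)
  (hr : RelProj.IsProjQMapOn u p chart pL chartL (RelProj.domQ u pL chartL) r)

include hL hLq hj hPL hr in
/-- The map into the standard ring over an open of the source, on fractions. -/
theorem exists_ratioMap {U : Y.Opens} (hU : IsAffineOpen U) {n : ℕ} (hn : 0 < n)
    (s : 𝒮.presheaf.obj (op U)) (hs : s ∈ 𝒮.deg U hU n) (T : X.Opens) (hTU : T ≤ q ⁻¹ᵁ U)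
    (hTd : pL ⁻¹ᵁ T ≤ RelProj.domQ u pL chartL)
    (hT : ∀ x : (RelProj.domQ u pL chartL : Scheme.{u}),
      r x ∈ (RelProj.emb p chart U hU) ''ᵁ Proj.basicOpen (𝒮.deg U hU) s ↔ pL x.1 ∈ T)
    (htop : ∀ (V : X.Opens) (hV : IsAffineOpen V) (hle : V ≤ T),
      Proj.basicOpen (𝒮L.deg V hV) (u.gradedAt U hU V hV (hle.trans hTU) s) = ⊤) :
    ∃ ψ : CommRingCat.of (Away (𝒮.deg U hU) s) ⟶ Γ(X, T),
      (IsImmersion (T.toSpecΓ ≫ Spec.map ψ) →
        IsImmersion (r ∣_ ((RelProj.emb p chart U hU) ''ᵁ Proj.basicOpen (𝒮.deg U hU) s))) ∧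
      (IsImmersion r → IsImmersion (T.toSpecΓ ≫ Spec.map ψ)) ∧
      ∀ (b : Γ(X, T)) (k : ℕ) (s' : 𝒮.presheaf.obj (op U)) (hs' : s' ∈ 𝒮.deg U hU (k • n)),
        (∀ (V : X.Opens) (hV : IsAffineOpen V) (hle : V ≤ T),
          (𝒮L.str.app (op V)).hom (AModX.resR hle b) * u.gradedAt U hU V hV (hle.trans hTU) s ^ k =
            u.gradedAt U hU V hV (hle.trans hTU) s') →
        ψ.hom (Away.mk (𝒮.deg U hU) hs k s' hs') = b := by
  haveI : IsIso pL := SymX.isIso_relProj hL hLq hj pL chartL hPL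
  let D := (RelProj.emb p chart U hU) ''ᵁ Proj.basicOpen (𝒮.deg U hU) s
  let D' := RelProj.domQ u pL chartL
  let a := Proj.awayι (𝒮.deg U hU) s hs hn ≫ RelProj.emb p chart U hU
  have ha : (D : Set P) ⊆ Set.range a := by
    rintro _ ⟨z, hz, rfl⟩
    obtain ⟨t, rfl⟩ := (Proj.opensRange_awayι _ s hs hn).ge hz
    exact ⟨t, Scheme.Hom.comp_apply _ _ _⟩
  have hpx : ∀ y : X, pL ((CategoryTheory.inv pL) y) = y := fun y => by
    rw [← Scheme.Hom.comp_apply, IsIso.inv_hom_id]; rfl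
  let kT : T.toScheme ⟶ D'.toScheme := IsOpenImmersion.lift D'.ι (T.ι ≫ CategoryTheory.inv pL) (by
    rw [Scheme.Opens.range_ι]
    rintro _ ⟨y, rfl⟩
    exact hTd (show pL _ ∈ T by rw [Scheme.Hom.comp_apply, hpx]; exact y.2))
  have hkT : kT ≫ D'.ι = T.ι ≫ CategoryTheory.inv pL := IsOpenImmersion.lift_fac _ _ _
  have hkran : Set.range (kT ≫ r) ⊆ Set.range a := by
    rintro _ ⟨y, rfl⟩
    refine ha ((hT (kT y)).mpr ?_)
    have : pL (D'.ι (kT y)) = y.1 := by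
      rw [← Scheme.Hom.comp_apply kT, hkT, Scheme.Hom.comp_apply, hpx]; rfl
    exact this.symm ▸ y.2
  let m : T.toScheme ⟶ Spec (CommRingCat.of (Away (𝒮.deg U hU) s)) := IsOpenImmersion.lift a (kT ≫ r) hkran
  have hm : m ≫ a = kT ≫ r := IsOpenImmersion.lift_fac _ _ _
  obtain ⟨ψ, hmψ⟩ : ∃ ψ : CommRingCat.of (Away (𝒮.deg U hU) s) ⟶ Γ(X, T), T.toSpecΓ ≫ Spec.map ψ = m := by
    refine ⟨(Scheme.ΓSpecIso _).inv ≫ m.appTop ≫ T.topIso.hom, ?_⟩
    simp only [Scheme.Opens.toSpecΓ, Spec.map_comp, Category.assoc]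
    rw [← Spec.map_comp_assoc T.topIso.hom, Iso.hom_inv_id, Spec.map_id, Category.id_comp,
      ← Scheme.toSpecΓ_naturality_assoc, toSpecΓ_SpecMap_ΓSpecIso_inv, Category.comp_id]
  refine ⟨ψ, fun himm => ?_, fun himm => ?_, fun b k s' hs' hb' => ?_⟩
  · haveI := himm
    haveI : IsImmersion m := hmψ ▸ inferInstance
    let e : (r ⁻¹ᵁ D).toScheme ⟶ T.toScheme := IsOpenImmersion.lift T.ι ((r ⁻¹ᵁ D).ι ≫ D'.ι ≫ pL) (by
      rw [Scheme.Opens.range_ι]
      rintro _ ⟨y, rfl⟩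
      exact (hT y.1).mp y.2)
    have he : e ≫ T.ι = (r ⁻¹ᵁ D).ι ≫ D'.ι ≫ pL := IsOpenImmersion.lift_fac _ _ _
    haveI : IsOpenImmersion e := by
      haveI : IsOpenImmersion (e ≫ T.ι) := he ▸ inferInstance
      exact IsOpenImmersion.of_comp e T.ι
    have hek : e ≫ kT = (r ⁻¹ᵁ D).ι := by
      rw [← cancel_mono D'.ι, Category.assoc, hkT, reassoc_of% he, IsIso.hom_inv_id, Category.comp_id]
    have h4 : (r ∣_ D) ≫ D.ι = e ≫ m ≫ a := by
      rw [morphismRestrict_ι, hm, reassoc_of% hek]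
    haveI : IsImmersion ((r ∣_ D) ≫ D.ι) := h4 ▸ inferInstance
    exact IsImmersion.of_comp (r ∣_ D) D.ι
  · haveI := himm
    haveI : IsOpenImmersion kT := by
      haveI : IsOpenImmersion (kT ≫ D'.ι) := hkT ▸ inferInstance
      exact IsOpenImmersion.of_comp kT D'.ι
    haveI : IsImmersion (m ≫ a) := hm ▸ inferInstance
    rw [hmψ]
    exact IsImmersion.of_comp m a
  · refine TopCat.Sheaf.eq_of_locally_eq' X.sheaf
      (fun i : {V : X.affineOpens // V.1 ≤ T} => i.1.1) T (fun i => homOfLE i.2) (fun y hy => ?_) _ _ fun i => ?_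
    · obtain ⟨_, ⟨V, hV, rfl⟩, hyV, hVsub⟩ := X.isBasis_affineOpens.exists_subset_of_mem_open hy T.2
      exact Opens.mem_iSup.2 ⟨⟨⟨V, hV⟩, hVsub⟩, hyV⟩
    obtain ⟨⟨V, hV⟩, hle⟩ := i
    show AModX.resR hle _ = AModX.resR hle b
    let χ := u.gradedAt U hU V hV (hle.trans hTU)
    let φ : Γ(X, V) ⟶ CommRingCat.of (Away (𝒮L.deg V hV) (χ s)) :=
      𝒮L.strZero V hV ≫ CommRingCat.ofHom (fromZeroRingHom (𝒮L.deg V hV) (Submonoid.powers (χ s)))
    have hφ := bijective_scalars hL hLq hj hPL hV hn (χ s) (χ.2 hs) (htop V hV hle)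
    have hsrc : srcChart chartL χ hn s hs ≫ pL = Spec.map φ ≫ hV.fromSpec := by
      have eB : RelProj.emb pL chartL V hV ≫ pL =
          Proj.toSpecZero (𝒮L.deg V hV) ≫ Spec.map (𝒮L.strZero V hV) ≫ hV.fromSpec := by
        show ((chartL V hV).inv ≫ (pL ⁻¹ᵁ V).ι) ≫ pL = _
        rw [Category.assoc, ← hPL.chart_over V hV, Iso.inv_hom_id_assoc]
      simp only [srcChart, φ]
      rw [Category.assoc, eB, Proj.awayι_toSpecZero_assoc, Spec.map_comp, Category.assoc]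
    let i₀ : PairElt q 𝒮 := ⟨U, hU, V, hV, hle.trans hTU, n, hn, s, hs⟩
    let c := domChart chartL u i₀
    haveI : IsIso φ := (ConcreteCategory.isIso_iff_bijective φ).mpr hφ
    have h1 : V.toSpecΓ ≫ Spec.map (CategoryTheory.inv φ) ≫ c = X.homOfLE hle ≫ kT := by
      rw [← cancel_mono D'.ι, ← cancel_mono pL]
      simp only [Category.assoc]
      rw [reassoc_of% hkT, IsIso.inv_hom_id, Category.comp_id, Scheme.homOfLE_ι, reassoc_of% (domChart_ι u i₀)]
      show V.toSpecΓ ≫ Spec.map (CategoryTheory.inv φ) ≫ srcChart chartL χ hn s hs ≫ pL = V.ι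
      rw [hsrc, ← Spec.map_comp_assoc, IsIso.hom_inv_id, Spec.map_id, Category.id_comp, IsAffineOpen.toSpecΓ_fromSpec]
    have h2 : V.toSpecΓ ≫ Spec.map (ψ ≫ X.presheaf.map (homOfLE hle).op) =
        V.toSpecΓ ≫ Spec.map (CommRingCat.ofHom (Away.map χ s) ≫ CategoryTheory.inv φ) := by
      rw [← cancel_mono a, Spec.map_comp, Spec.map_comp, Category.assoc, Category.assoc, Category.assoc,
        Category.assoc, Scheme.Opens.toSpecΓ_SpecMap_presheaf_map_assoc V T hle, reassoc_of% hmψ, hm,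
        ← reassoc_of% h1]
      refine congrArg (fun z => V.toSpecΓ ≫ Spec.map (CategoryTheory.inv φ) ≫ z) ?_
      exact hr U hU V hV (hle.trans hTU) n hn s hs _
    haveI : IsIso V.toSpecΓ := by rw [← hV.isoSpec_hom]; infer_instance
    rw [cancel_epi] at h2
    have h3 := congrArg (fun z : CommRingCat.of (Away (𝒮.deg U hU) s) ⟶ Γ(X, V) =>
      z.hom (Away.mk (𝒮.deg U hU) hs k s' hs')) (Spec.map_injective h2)
    refine h3.trans (hφ.1 ?_)
    show φ ((CategoryTheory.inv φ) (Away.map χ s (Away.mk (𝒮.deg U hU) hs k s' hs'))) = φ (AModX.resR hle b)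
    rw [← CommRingCat.comp_apply, IsIso.inv_hom_id, CommRingCat.id_apply, Away.map_mk]
    apply HomogeneousLocalization.val_injective
    rw [Away.val_mk]
    show _ = Localization.mk ((𝒮L.str.app (op V)).hom (AModX.resR hle b)) 1
    rw [Localization.mk_eq_mk_iff, Localization.r_iff_exists]
    refine ⟨1, ?_⟩
    simp only [Submonoid.coe_one, one_mul]
    exact (hb' V hV hle).symm.trans (mul_comm _ _)

include hL hLq hj hPL hr in
/-- If the part over a standard open is embedded by ratios, the morphism is an immersion over it. -/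
theorem isImmersion_restrict_of_ratios {U : Y.Opens} (hU : IsAffineOpen U) {n : ℕ} (hn : 0 < n)
    (s : 𝒮.presheaf.obj (op U)) (hs : s ∈ 𝒮.deg U hU n) (T : X.Opens) (hTU : T ≤ q ⁻¹ᵁ U)
    (hTd : pL ⁻¹ᵁ T ≤ RelProj.domQ u pL chartL)
    (hT : ∀ x : (RelProj.domQ u pL chartL : Scheme.{u}),
      r x ∈ (RelProj.emb p chart U hU) ''ᵁ Proj.basicOpen (𝒮.deg U hU) s ↔ pL x.1 ∈ T)
    (htop : ∀ (V : X.Opens) (hV : IsAffineOpen V) (hle : V ≤ T),
      Proj.basicOpen (𝒮L.deg V hV) (u.gradedAt U hU V hV (hle.trans hTU) s) = ⊤)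
    (R : Set Γ(X, T)) (hR : IsImmersion (SymX.subSpec T (Subring.closure R)))
    (hgen : ∀ b ∈ R, ∃ (k : ℕ) (s' : 𝒮.presheaf.obj (op U)) (_ : s' ∈ 𝒮.deg U hU (k • n)),
      ∀ (V : X.Opens) (hV : IsAffineOpen V) (hle : V ≤ T),
        (𝒮L.str.app (op V)).hom (AModX.resR hle b) * u.gradedAt U hU V hV (hle.trans hTU) s ^ k =
          u.gradedAt U hU V hV (hle.trans hTU) s') :
    IsImmersion (r ∣_ ((RelProj.emb p chart U hU) ''ᵁ Proj.basicOpen (𝒮.deg U hU) s)) := by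
  obtain ⟨ψ, h1, -, h3⟩ := exists_ratioMap hL hLq hj u hPL r hr hU hn s hs T hTU hTd hT htop
  refine h1 ?_
  haveI := hR
  exact SymX.isImmersion_comp_of_subSpec T ψ (Subring.closure R) (Subring.closure_le.2 fun b hb => by
    obtain ⟨k, s', hs', hb'⟩ := hgen b hb
    exact ⟨_, h3 b k s' hs' hb'⟩)

lemma locus_pow_one (hL : PicF.IsInvertible L) {W : X.Opens} (a : Γ(L, W)) :
    AmpleX.locus (AmpleX.powElt a 1) = AmpleX.locus a :=
  AmpleX.locus_powElt hL a 0

include hL hLq hj hP hPL hr in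
/-- Degree one sections with embedding ratios give an immersion everywhere defined. -/
theorem of_immPoints {E : Y.Modules} (θ : E ⟶ (Scheme.Modules.pushforward q).obj L)
    (σ : ∀ U : Y.Opens, Γ(E, U) → 𝒮.presheaf.obj (op U))
    (hσd : ∀ (U : Y.Opens) (hU : IsAffineOpen U) (e : Γ(E, U)), σ U e ∈ 𝒮.deg U hU 1)
    (hσ : ∀ (U : Y.Opens) (e : Γ(E, U)),
      (u.app U).hom (σ U e) = (show 𝒮L.presheaf.obj (op (q ⁻¹ᵁ U)) from j.app (q ⁻¹ᵁ U) (SymX.th q θ e)))
    (h : SymX.ImmPoints q θ) :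
    RelProj.domQ u pL chartL = ⊤ ∧ IsImmersion r := by
  haveI : IsIso pL := SymX.isIso_relProj hL hLq hj pL chartL hPL
  choose U hU e hxe himm using h
  have hval : ∀ (W : Y.Opens) (hW : IsAffineOpen W) (m : Γ(E, W)) (V : X.Opens) (hV : IsAffineOpen V)
      (hle : V ≤ q ⁻¹ᵁ W), u.gradedAt W hW V hV hle (σ W m) =
        (show 𝒮L.presheaf.obj (op V) from j.app V (AModX.res L hle (SymX.th q θ m))) := by
    intro W hW m V hV hle
    show (𝒮L.presheaf.map (homOfLE hle).op).hom ((u.app W).hom (σ W m)) = _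
    rw [hσ, SymX.map_j]
  have hmem : ∀ (x : X) (V : X.Opens) (hV : IsAffineOpen V) (hle : V ≤ q ⁻¹ᵁ U x) (z : Proj (𝒮L.deg V hV)),
      z ∈ Proj.basicOpen (𝒮L.deg V hV) (u.gradedAt (U x) (hU x) V hV hle (σ (U x) (e x))) ↔
        pL (RelProj.emb pL chartL V hV z) ∈ AmpleX.locus (SymX.th q θ (e x)) := by
    intro x V hV hle z
    have h1 := SymX.mem_basicOpen_elt_iff hL hLq hj hPL Nat.one_pos hV hle
      (AmpleX.powElt (SymX.th q θ (e x)) 1) z
    rw [SymX.elt_powElt, pow_one, SymX.map_j, ← hval _ (hU x) _ V hV hle, locus_pow_one hL] at h1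
    exact h1
  have hover : ∀ (x : X) (y : (RelProj.domQ u pL chartL : Scheme.{u})),
      r y ∈ (RelProj.emb p chart (U x) (hU x)) ''ᵁ Proj.basicOpen (𝒮.deg (U x) (hU x)) (σ (U x) (e x)) ↔
        pL y.1 ∈ AmpleX.locus (SymX.th q θ (e x)) := by
    intro x y
    constructor
    · intro hy
      have hyq : q (pL y.1) ∈ U x := by
        obtain ⟨y', -, hyy⟩ := hy
        have e := congrArg (fun k : (RelProj.domQ u pL chartL : Scheme.{u}) ⟶ Y => k y)
          ((existsUnique_projQMapOn u hP hPL).2 r hr)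
        exact (show p (r y) = q (pL y.1) from e) ▸ (opensRange_emb (p := p) (chart := chart) (U x) (hU x)).le ⟨y', hyy⟩
      obtain ⟨_, ⟨V, hV, rfl⟩, hyV, hVsub⟩ := X.isBasis_affineOpens.exists_subset_of_mem_open
        (a := pL y.1) (u := ((q ⁻¹ᵁ U x : X.Opens) : Set X)) hyq (q ⁻¹ᵁ U x).isOpen
      obtain ⟨z, hz⟩ := (opensRange_emb (p := pL) (chart := chartL) V hV).ge hyV
      rw [← hz]
      exact (hmem x V hV hVsub z).mp
        ((apply_mem_image_iff u (hU x) hV hVsub Nat.one_pos _ (hσd _ (hU x) _) hP hPL r hr y z hz).mp hy)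
    · intro hy
      obtain ⟨_, ⟨V, hV, rfl⟩, hyV, hVsub⟩ := X.isBasis_affineOpens.exists_subset_of_mem_open
        (a := pL y.1) (u := ((q ⁻¹ᵁ U x : X.Opens) : Set X)) (AmpleX.locus_le _ hy) (q ⁻¹ᵁ U x).isOpen
      obtain ⟨z, hz⟩ := (opensRange_emb (p := pL) (chart := chartL) V hV).ge hyV
      refine (apply_mem_image_iff u (hU x) hV hVsub Nat.one_pos _ (hσd _ (hU x) _) hP hPL r hr y z hz).mpr
        ((hmem x V hV hVsub z).mpr ?_)
      rw [hz]; exact hy
  have hdom : ∀ x : X, pL ⁻¹ᵁ AmpleX.locus (SymX.th q θ (e x)) ≤ RelProj.domQ u pL chartL := by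
    intro x y hy
    obtain ⟨_, ⟨V, hV, rfl⟩, hyV, hVsub⟩ := X.isBasis_affineOpens.exists_subset_of_mem_open
      (a := pL y) (u := ((q ⁻¹ᵁ U x : X.Opens) : Set X)) (AmpleX.locus_le _ hy) (q ⁻¹ᵁ U x).isOpen
    obtain ⟨z, hz⟩ := (opensRange_emb (p := pL) (chart := chartL) V hV).ge hyV
    exact hz ▸ emb_mem_domQ u (hU x) hV hVsub Nat.one_pos _ (hσd _ (hU x) _) z
      ((hmem x V hV hVsub z).mpr (by rw [hz]; exact hy))
  have htop : RelProj.domQ u pL chartL = ⊤ := top_unique fun y _ => hdom (pL y) (hxe (pL y))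
  refine ⟨htop, ?_⟩
  haveI : MorphismProperty.RespectsRight @IsImmersion @IsOpenImmersion :=
    ⟨fun i hi f hf => by haveI := hi; haveI := hf; infer_instance⟩
  refine IsZariskiLocalAtTarget.of_range_subset_iSup (P := @IsImmersion)
    (fun x : X => (RelProj.emb p chart (U x) (hU x)) ''ᵁ Proj.basicOpen (𝒮.deg (U x) (hU x)) (σ (U x) (e x))) ?_
    fun x => ?_
  · rintro _ ⟨y, rfl⟩
    exact Opens.mem_iSup.mpr ⟨pL y.1, (hover (pL y.1) y).mpr (hxe (pL y.1))⟩
  refine isImmersion_restrict_of_ratios hL hLq hj u hPL r hr (hU x) Nat.one_pos _ (hσd _ (hU x) _)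
    (AmpleX.locus (SymX.th q θ (e x))) (AmpleX.locus_le _) (hdom x) (hover x)
    (fun V hV hle => top_unique fun z _ => (hmem x V hV _ z).mpr
      (hle ((opensRange_emb (p := pL) (chart := chartL) V hV).le ⟨z, rfl⟩)))
    (SymX.ratioSet q θ (e x)) (himm x) ?_
  rintro b (⟨c, rfl⟩ | ⟨m, hm⟩)
  · refine ⟨0, (𝒮.str.app (op (U x))).hom c, ?_, fun V hV hle => ?_⟩
    · rw [zero_smul]; exact 𝒮.str_mem _ (hU x) c
    · rw [pow_zero, mul_one, AModX.resR_resR]
      show _ = (𝒮L.presheaf.map (homOfLE _).op).hom ((u.app (U x)).hom ((𝒮.str.app (op (U x))).hom c))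
      have h1 := ConcreteCategory.congr_hom (u.str_app (U x)) c
      rw [show (u.app (U x)).hom ((𝒮.str.app (op (U x))).hom c) =
        (𝒮L.str.app (op (q ⁻¹ᵁ U x))).hom (q.app (U x) c) from h1, SymX.map_str]
  · refine ⟨1, σ (U x) m, by simpa only [smul_eq_mul, mul_one] using hσd (U x) (hU x) m, fun V hV hle => ?_⟩
    rw [pow_one, hval, hval]
    have h2 := congrArg (AModX.res L hle) hm
    rw [AModX.res_res, AModX.res_smul, AModX.res_res] at h2
    rw [h2]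
    exact (Scheme.Modules.Hom.app_smul j _ _).symm

end Groth.Agent.Proj16
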