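import Groth.Agent.Proj16.RLEps
import Groth.Agent.AmpleX.Locus

/-!
# The morphism into `Proj` of the ring of sections is scheme-theoretically dominant
-/

universe u

open CategoryTheory CategoryTheory.Limits AlgebraicGeometry TopologicalSpace Opposite HomogeneousLocalization

set_option backward.isDefEq.respectTransparency false
set_option backward.isDefEq.respectTransparency.types false
set_option linter.style.haveILetI false
set_option linter.unusedSectionVars false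

noncomputable section

namespace Groth.Agent.Proj16

open Groth.Agent

/-- A section over the range of an affine chart, read in the ring of the chart. -/
def chartVal {P : Scheme.{u}} {R : CommRingCat.{u}} (a : Spec R ⟶ P) [IsOpenImmersion a] : Γ(P, a.opensRange) ⟶ R :=
  a.appLE a.opensRange ⊤ (fun t _ => ⟨t, rfl⟩) ≫ (Scheme.ΓSpecIso R).hom

lemma chartVal_injective {P : Scheme.{u}} {R : CommRingCat.{u}} (a : Spec R ⟶ P) [IsOpenImmersion a] :
    Function.Injective (chartVal a) := by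
  have hpre : a ⁻¹ᵁ a.opensRange = ⊤ := a.preimage_opensRange
  haveI : IsIso (a.app a.opensRange) := a.isIso_app _ le_rfl
  haveI : IsIso (chartVal a) := by
    unfold chartVal Scheme.Hom.appLE
    rw [Subsingleton.elim (homOfLE _) (eqToHom hpre.symm)]
    infer_instance
  exact (ConcreteCategory.bijective_of_isIso _).1

lemma chartVal_eq_zero {P G : Scheme.{u}} {R S : CommRingCat.{u}} (a : Spec R ⟶ P) [IsOpenImmersion a] (r : G ⟶ P) (φ : R ⟶ S)
    (c : Spec S ⟶ G) (hc : c ≫ r = Spec.map φ ≫ a) (x : Γ(P, a.opensRange)) (hx : r.app _ x = 0) :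
    φ (chartVal a x) = 0 := by
  have hle : ⊤ ≤ (c ≫ r) ⁻¹ᵁ a.opensRange := fun z _ => by
    rw [hc]; exact ⟨Spec.map φ z, rfl⟩
  have h1 : (c ≫ r).appLE a.opensRange ⊤ hle x = 0 := by
    rw [Scheme.Hom.comp_appLE, CommRingCat.comp_apply, hx, map_zero]
  have h2 : (c ≫ r).appLE a.opensRange ⊤ hle =
      a.appLE a.opensRange ⊤ (fun t _ => ⟨t, rfl⟩) ≫ (Spec.map φ).appTop := by
    simp only [hc]
    rw [Scheme.Hom.appTop, Scheme.Hom.app_eq_appLE, Scheme.Hom.appLE_comp_appLE]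
    rfl
  have h3 : a.appLE a.opensRange ⊤ (fun t _ => ⟨t, rfl⟩) ≫ (Spec.map φ).appTop ≫ (Scheme.ΓSpecIso S).hom =
      chartVal a ≫ φ := by
    rw [Scheme.ΓSpecIso_naturality]; rfl
  rw [← Category.assoc, ← h2] at h3
  rw [← CommRingCat.comp_apply, ← h3, CommRingCat.comp_apply, h1, map_zero]

variable {X Y : Scheme.{u}} {f : X ⟶ Y} {𝒜 : RelProj.QCGrAlg Y} {𝒮L : RelProj.QCGrAlg X}
  (u : RelProj.QGrHom f 𝒜 𝒮L) {L : X.Modules} {j : L ⟶ 𝒮L.toModule} {P PL : Scheme.{u}} {p : P ⟶ Y} {pL : PL ⟶ X}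
  {chart : ∀ (U : Y.Opens) (hU : IsAffineOpen U), (((p ⁻¹ᵁ U : P.Opens) : Scheme.{u}) ≅ Proj (𝒜.deg U hU))}
  {chartL : ∀ (U : X.Opens) (hU : IsAffineOpen U), (((pL ⁻¹ᵁ U : PL.Opens) : Scheme.{u}) ≅ Proj (𝒮L.deg U hU))}
  (hL : PicF.IsInvertible L) (hLq : Coh.IsQCoh L) (hj : RelProj.IsGrSymAlg L 𝒮L j)
  (hP : RelProj.IsRelProj 𝒜 p chart) (hPL : RelProj.IsRelProj 𝒮L pL chartL)
  (r : (RelProj.domQ u pL chartL : Scheme.{u}) ⟶ P)
  (hr : RelProj.IsProjQMapOn u p chart pL chartL (RelProj.domQ u pL chartL) r)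
  (hY : IsAffineOpen (⊤ : Y.Opens)) (hu : Function.Bijective (u.app ⊤).hom)

include hL hLq hj hP hPL hr hY hu in
/-- Over an affine base, bijectivity on global sections gives scheme-theoretic dominance. -/
theorem isSchemeTheoreticallyDominant_of_bijective_top [CompactSpace X] :
    IsSchemeTheoreticallyDominant r := by
  refine ⟨?_⟩
  let ι := {g : (d : ℕ) × 𝒜.presheaf.obj (op ⊤) // 0 < g.1 ∧ g.2 ∈ 𝒜.deg ⊤ hY g.1}
  let a : ∀ g : ι, _ ⟶ P := fun g => Proj.awayι (𝒜.deg ⊤ hY) g.1.2 g.2.2 g.2.1 ≫ RelProj.emb p chart ⊤ hY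
  have haff : ∀ g, IsAffineOpen (a g).opensRange := fun g => isAffineOpen_opensRange (a g)
  have hcov : (⨆ g, (a g).opensRange) = ⊤ := by
    refine top_unique fun y _ => ?_
    obtain ⟨w, rfl⟩ : y ∈ (RelProj.emb p chart ⊤ hY).opensRange :=
      (opensRange_emb (p := p) (chart := chart) ⊤ hY).ge trivial
    obtain ⟨g, d, hd, hg, hwg, -⟩ := GrModX.exists_basicOpen_le (𝒜.deg ⊤ hY) (V := ⊤) (y := w) trivial
    obtain ⟨t, ht⟩ := (Proj.opensRange_awayι (𝒜.deg ⊤ hY) g hg hd).ge hwg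
    exact Opens.mem_iSup.mpr ⟨⟨⟨d, g⟩, hd, hg⟩, t, congrArg (RelProj.emb p chart ⊤ hY) ht⟩
  refine Scheme.IdealSheafData.ext_of_iSup_eq_top (fun g => ⟨(a g).opensRange, haff g⟩) hcov fun g => ?_
  rw [Scheme.IdealSheafData.ideal_bot, Pi.bot_apply, ← le_bot_iff]
  intro x hx
  have hx' : r.app _ x = 0 := r.ideal_ker_le ⟨_, haff g⟩ hx
  rw [Ideal.mem_bot]
  apply chartVal_injective (a g)
  rw [map_zero]
  obtain ⟨⟨d, g⟩, hd, hg⟩ := g
  dsimp only at hd hg hx' ⊢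
  have hz : ∀ (V : X.Opens) (hV : IsAffineOpen V),
      Away.map (u.gradedAt ⊤ hY V hV le_top) g (chartVal (a ⟨⟨d, g⟩, hd, hg⟩) x) = 0 := fun V hV =>
    chartVal_eq_zero (a ⟨⟨d, g⟩, hd, hg⟩) r (CommRingCat.ofHom (Away.map (u.gradedAt ⊤ hY V hV le_top) g))
      (domChart chartL u ⟨⊤, hY, V, hV, le_top, d, hd, g, hg⟩) (hr ⊤ hY V hV le_top d hd g hg _) x hx'
  generalize chartVal (a ⟨⟨d, g⟩, hd, hg⟩) x = y at hz ⊢
  obtain ⟨m, b, hb, hyb⟩ := y.mk_surjective (𝒜.deg ⊤ hY) hg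
  have hX : IsCompact ((f ⁻¹ᵁ (⊤ : Y.Opens) : X.Opens) : Set X) := isCompact_univ
  obtain ⟨t, ht⟩ := SymX.exists_elt_eq hL hLq hj _ (isHomOn_app u hY hg)
  obtain ⟨ι', hι', V, hV, i, e, c, hcov', he, hc⟩ := SymX.exists_finite_frames hL hj hX t
  have key : ∀ z, ∃ k : ℕ, (𝒮L.presheaf.map (homOfLE ((X.basicOpen_le (c z)).trans (i z))).op).hom
      ((u.app ⊤).hom (g ^ k * b)) = 0 := by
    intro z
    have h0 := hz _ ((hV z).basicOpen (c z))
    rw [← hyb, Away.map_mk, ← (HomogeneousLocalization.val_injective _).eq_iff,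
      Away.val_mk, HomogeneousLocalization.val_zero, Localization.mk_eq_mk'] at h0
    obtain ⟨⟨_, k, rfl⟩, hk⟩ := (IsLocalization.mk'_eq_zero_iff _ _).mp h0
    refine ⟨k, ?_⟩
    change (u.gradedAt ⊤ hY _ ((hV z).basicOpen (c z)) le_top g) ^ k *
      (u.gradedAt ⊤ hY _ ((hV z).basicOpen (c z)) le_top b) = 0 at hk
    rw [← map_pow, ← map_mul] at hk
    exact hk
  choose k hk using key
  let K := Finset.univ.sup k
  have hdeg : g ^ K * b ∈ 𝒜.deg ⊤ hY (K • d + m • d) :=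
    SetLike.mul_mem_graded (SetLike.pow_mem_graded K hg) hb
  obtain ⟨l, hl⟩ := SymX.exists_pow_mul_eq_zero hL hLq hj hX t _ (isHomOn_app u hY hdeg) (by
    refine SymX.toModule_ext (A := 𝒮L.toQCAlg) _ _ fun q hq => ?_
    obtain ⟨z, hqz⟩ := hcov' q (AmpleX.locus_le _ hq)
    have hloc : AmpleX.locus t ⊓ V z = X.basicOpen (c z) :=
      AmpleX.locus_inf t (i z) (AmpleX.isFrame_powElt (he z) d) (hc z)
    have h1 : X.basicOpen (c z) ≤ AmpleX.locus t := hloc.ge.trans inf_le_left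
    refine ⟨X.basicOpen (c z), h1, hloc.le ⟨hq, hqz⟩, ?_⟩
    show (𝒮L.presheaf.map (homOfLE h1).op).hom _ = (𝒮L.presheaf.map (homOfLE h1).op).hom 0
    rw [map_zero, SymX.map_map (AmpleX.locus_le t) h1 ((X.basicOpen_le (c z)).trans (i z))]
    obtain ⟨l, hl⟩ := Nat.exists_eq_add_of_le (Finset.le_sup (f := k) (Finset.mem_univ z))
    rw [show K = l + k z from hl.trans (add_comm _ _), pow_add, mul_assoc, map_mul, map_mul, hk z, mul_zero])
  rw [← hyb]
  apply HomogeneousLocalization.val_injective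
  rw [Away.val_mk, HomogeneousLocalization.val_zero, Localization.mk_eq_mk']
  refine (IsLocalization.mk'_eq_zero_iff _ _).mpr ⟨⟨g ^ (l + K), _, rfl⟩, ?_⟩
  show g ^ (l + K) * b = 0
  apply hu.1
  rw [pow_add, mul_assoc, map_mul, map_pow, map_zero, ← ht]
  exact hl

include hL hLq hj hP hPL hr hY hu in
/-- An ample module: everywhere defined, a quasi-compact scheme-theoretically dominant open immersion. -/
theorem of_isAmple [CompactSpace X] [QuasiCompact f] (h : CohB1.IsAmple L) :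
    RelProj.domQ u pL chartL = ⊤ ∧ IsOpenImmersion r ∧ QuasiCompact r ∧ IsSchemeTheoreticallyDominant r := by
  haveI := AmpleX.isSeparated_of_isAmple h
  haveI : IsAffine ((⊤ : Y.Opens) : Scheme.{u}) := hY
  haveI : IsAffine Y := IsAffine.of_isIso Y.topIso.inv
  haveI : IsSeparated f := by infer_instance
  have key : ∀ x : X, ∃ (n : ℕ) (_ : 0 < n) (a : Γ(CohB1.tensorPow L n, f ⁻¹ᵁ (⊤ : Y.Opens)))
      (s : 𝒜.presheaf.obj (op ⊤)),
      x ∈ AmpleX.locus a ∧ IsAffineOpen (AmpleX.locus a) ∧ s ∈ 𝒜.deg ⊤ hY n ∧ (u.app ⊤).hom s = SymX.elt j a := by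
    intro x
    obtain ⟨n, σ, hxσ, haff⟩ := h.2.2 x
    rw [AmpleX.genLocus_eq_locus] at hxσ haff
    obtain ⟨s, hs, hs'⟩ := exists_preimage_elt u hL hj hY hu
      (show Γ(CohB1.tensorPow L (n + 1), f ⁻¹ᵁ (⊤ : Y.Opens)) from InvX.one σ)
    exact ⟨n + 1, n.succ_pos, _, s, hxσ, haff, hs, hs'⟩
  choose n hn a s hxa haff hs hs' using key
  have hmem : ∀ x' : PL, ∃ z : Proj (𝒮L.deg _ (haff (pL x'))),
      RelProj.emb pL chartL _ (haff (pL x')) z = x' ∧ z ∈ Proj.basicOpen (𝒮L.deg _ (haff (pL x')))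
        (u.gradedAt ⊤ hY _ (haff (pL x')) (AmpleX.locus_le _) (s (pL x'))) := by
    intro x'
    obtain ⟨z, hz⟩ := (opensRange_emb (p := pL) (chart := chartL) _ (haff (pL x'))).ge (hxa (pL x'))
    refine ⟨z, hz, (mem_basicOpen_iff_locus u hL hLq hj hPL hY hu (hn _) (a _) (hs' _) (haff _) _ z).mpr ?_⟩
    rw [hz]
    exact hxa _
  have htop : RelProj.domQ u pL chartL = ⊤ := top_unique fun x' _ => by
    obtain ⟨z, hz, hzs⟩ := hmem x'
    exact hz ▸ emb_mem_domQ u hY (haff _) _ (hn _) _ (hs _) z hzs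
  refine ⟨htop, ?_, quasiCompact_of_eq_top u hPL r hL hLq hj hY p chart htop,
    isSchemeTheoreticallyDominant_of_bijective_top u hL hLq hj hP hPL r hr hY hu⟩
  haveI : MorphismProperty.RespectsRight @IsOpenImmersion @IsOpenImmersion :=
    ⟨fun i hi g hg => by haveI := hi; haveI := hg; infer_instance⟩
  refine IsZariskiLocalAtTarget.of_range_subset_iSup (P := @IsOpenImmersion)
    (fun x : X => (RelProj.emb p chart ⊤ hY) ''ᵁ Proj.basicOpen (𝒜.deg ⊤ hY) (s x)) ?_ fun x => ?_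
  · rintro _ ⟨x', rfl⟩
    obtain ⟨z, hz, hzs⟩ := hmem x'.1
    exact Opens.mem_iSup.mpr ⟨pL x'.1,
      (apply_mem_image_iff u hY (haff _) _ (hn _) _ (hs _) hP hPL r hr x' z hz).mpr hzs⟩
  · haveI := isIso_restrict u hL hLq hj hP hPL r hr hY hu (hn x) (a x) (haff x) (hs x) (hs' x)
    infer_instance

end Groth.Agent.Proj16
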