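import Groth.Agent.Proj16.RLPsiImm
import Groth.Agent.Proj16.RLPsiColim
import Groth.Agent.SymX.SectLocus

/-!
# The morphism into `Proj` of the graded algebra of direct images of the powers of an invertible module
-/

universe u

open CategoryTheory CategoryTheory.Limits AlgebraicGeometry TopologicalSpace Opposite HomogeneousLocalization

set_option backward.isDefEq.respectTransparency false
set_option backward.isDefEq.respectTransparency.types false
set_option linter.style.haveILetI false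
set_option linter.unusedSectionVars false

noncomputable section

namespace Groth.Agent.Proj16

open Groth.Agent

variable {X Y : Scheme.{u}} {f : X ⟶ Y} {𝒜 : RelProj.QCGrAlg Y} {𝒮L : RelProj.QCGrAlg X}
  (u : RelProj.QGrHom f 𝒜 𝒮L)

lemma gradedAt_eq_map {U : Y.Opens} (hU : IsAffineOpen U) {V : X.Opens} (hV : IsAffineOpen V) (hle : V ≤ f ⁻¹ᵁ U)
    (x : 𝒜.presheaf.obj (op U)) :
    u.gradedAt U hU V hV hle x = (𝒮L.presheaf.map (homOfLE hle).op).hom ((u.app U).hom x) := rfl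

/-- An element with homogeneous images is homogeneous, the maps being injective. -/
theorem mem_deg_of_app {U : Y.Opens} (hU : IsAffineOpen U) (hinj : Function.Injective (u.app U).hom) {n : ℕ}
    {s : 𝒜.presheaf.obj (op U)} (h : SymX.IsHomOn 𝒮L (f ⁻¹ᵁ U) n ((u.app U).hom s)) :
    s ∈ 𝒜.deg U hU n := by
  have : (DirectSum.decompose (𝒜.deg U hU) s n : 𝒜.presheaf.obj (op U)) = s := by
    refine hinj (SymX.toModule_ext (A := 𝒮L.toQCAlg) _ _ fun p hp => ?_)
    obtain ⟨_, ⟨V, hV, rfl⟩, hpV, hVsub⟩ := X.isBasis_affineOpens.exists_subset_of_mem_open hp (f ⁻¹ᵁ U).isOpen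
    refine ⟨V, hVsub, hpV, ?_⟩
    show u.gradedAt U hU V hV hVsub _ = u.gradedAt U hU V hV hVsub s
    refine Eq.trans (map_directSumDecompose (𝒜.deg U hU) (𝒮L.deg V hV) (u.gradedAt U hU V hV hVsub)) ?_
    rw [DirectSum.decompose_of_mem_same]
    exact h V hV hVsub
  exact this ▸ SetLike.coe_mem _

/-- The image of a homogeneous element is homogeneous over every affine open. -/
theorem isHomOn_app {U : Y.Opens} (hU : IsAffineOpen U) {n : ℕ} {s : 𝒜.presheaf.obj (op U)}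
    (hs : s ∈ 𝒜.deg U hU n) : SymX.IsHomOn 𝒮L (f ⁻¹ᵁ U) n ((u.app U).hom s) :=
  fun V hV i => (u.gradedAt U hU V hV i).2 hs

variable {L : X.Modules} {j : L ⟶ 𝒮L.toModule} {P PL : Scheme.{u}} {p : P ⟶ Y} {pL : PL ⟶ X}
  {chart : ∀ (U : Y.Opens) (hU : IsAffineOpen U), (((p ⁻¹ᵁ U : P.Opens) : Scheme.{u}) ≅ Proj (𝒜.deg U hU))}
  {chartL : ∀ (U : X.Opens) (hU : IsAffineOpen U), (((pL ⁻¹ᵁ U : PL.Opens) : Scheme.{u}) ≅ Proj (𝒮L.deg U hU))}
  (hL : PicF.IsInvertible L) (hLq : Coh.IsQCoh L) (hj : RelProj.IsGrSymAlg L 𝒮L j)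
  (hP : RelProj.IsRelProj 𝒜 p chart) (hPL : RelProj.IsRelProj 𝒮L pL chartL)
  (r : (RelProj.domQ u pL chartL : Scheme.{u}) ⟶ P)
  (hr : RelProj.IsProjQMapOn u p chart pL chartL (RelProj.domQ u pL chartL) r)
  (hu : ∀ (U : Y.Opens), IsAffineOpen U → Function.Bijective (u.app U).hom)

section one

variable {U : Y.Opens} (hU : IsAffineOpen U) (hbij : Function.Bijective (u.app U).hom) {n : ℕ} (hn : 0 < n)
  (a : Γ(CohB1.tensorPow L n, f ⁻¹ᵁ U))
include hL hj hbij

/-- The preimage of the element of a section. -/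
theorem exists_preimage_elt : ∃ s, s ∈ 𝒜.deg U hU n ∧ (u.app U).hom s = SymX.elt j a := by
  obtain ⟨s, hs⟩ := hbij.2 (SymX.elt j a)
  refine ⟨s, mem_deg_of_app u hU hbij.1 (hs ▸ fun V hV i => SymX.res_elt_mem hL hj hV i a), hs⟩

include hLq hPL hn in
/-- Its standard open over an affine open is the locus of the section. -/
theorem mem_basicOpen_iff_locus {s : 𝒜.presheaf.obj (op U)} (hs' : (u.app U).hom s = SymX.elt j a)
    {V : X.Opens} (hV : IsAffineOpen V) (hle : V ≤ f ⁻¹ᵁ U) (z : Proj (𝒮L.deg V hV)) :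
    z ∈ Proj.basicOpen (𝒮L.deg V hV) (u.gradedAt U hU V hV hle s) ↔
      pL (RelProj.emb pL chartL V hV z) ∈ AmpleX.locus a := by
  rw [gradedAt_eq_map, hs']
  exact SymX.mem_basicOpen_elt_iff hL hLq hj hPL hn hV hle a z

include hLq hP hPL hr hn in
/-- Over the standard open of a section with affine locus the morphism is an isomorphism. -/
theorem isIso_restrict [QuasiCompact f] [QuasiSeparated f] (hT : IsAffineOpen (AmpleX.locus a))
    {s : 𝒜.presheaf.obj (op U)} (hs : s ∈ 𝒜.deg U hU n) (hs' : (u.app U).hom s = SymX.elt j a) :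
    IsIso (r ∣_ ((RelProj.emb p chart U hU) ''ᵁ Proj.basicOpen (𝒜.deg U hU) s)) := by
  have hW : IsCompact ((f ⁻¹ᵁ U : X.Opens) : Set X) := f.isCompact_preimage hU.isCompact
  have hWs : IsQuasiSeparated ((f ⁻¹ᵁ U : X.Opens) : Set X) := f.isQuasiSeparated_preimage hU.isQuasiSeparated
  have hleT : AmpleX.locus a ≤ f ⁻¹ᵁ U := AmpleX.locus_le a
  have htop : Proj.basicOpen (𝒮L.deg _ hT) (u.gradedAt U hU _ hT hleT s) = ⊤ := top_unique fun z _ =>
    (mem_basicOpen_iff_locus u hL hLq hj hPL hU hbij hn a hs' hT hleT z).mpr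
      ((opensRange_emb (p := pL) (chart := chartL) _ hT).le ⟨z, rfl⟩)
  refine (restrict_iff u hU hT hleT hn s hs hP hPL r hr (MorphismProperty.isomorphisms Scheme.{u}) fun x hx => ?_).mpr ?_
  · have hxU : f (pL x.1) ∈ U := by
      obtain ⟨y', -, hyy⟩ := hx
      have e := congrArg (fun k : (RelProj.domQ u pL chartL : Scheme.{u}) ⟶ Y => k x)
        ((existsUnique_projQMapOn u hP hPL).2 r hr)
      exact (show p (r x) = f (pL x.1) from e) ▸ (opensRange_emb (p := p) (chart := chart) U hU).le ⟨y', hyy⟩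
    obtain ⟨_, ⟨V, hV, rfl⟩, hxV, hVsub⟩ := X.isBasis_affineOpens.exists_subset_of_mem_open
      (a := pL x.1) (u := ((f ⁻¹ᵁ U : X.Opens) : Set X)) hxU (f ⁻¹ᵁ U).isOpen
    obtain ⟨z, hz⟩ := (opensRange_emb (p := pL) (chart := chartL) V hV).ge hxV
    rw [← hz]
    exact (mem_basicOpen_iff_locus u hL hLq hj hPL hU hbij hn a hs' hV hVsub z).mp
      ((apply_mem_image_iff u hU hV hVsub hn s hs hP hPL r hr x z hz).mp hx)
  · refine (isIso_SpecMap_iff (f := CommRingCat.ofHom (Away.map (u.gradedAt U hU _ hT hleT) s))).mpr ⟨?_, ?_⟩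
    · refine (awayMap_injective_iff u hU hT hleT s hs).mpr fun m _ s' hs₂ h0 => ?_
      obtain ⟨k, hk⟩ := SymX.exists_pow_mul_eq_zero hL hLq hj hW a _ (isHomOn_app u hU hs₂) h0
      refine ⟨k + 1, Nat.succ_pos k, hbij.1 ?_⟩
      rw [map_mul, map_pow, hs', map_zero, pow_succ', mul_assoc, hk, mul_zero]
    · refine (awayMap_surjective_iff hL hLq hj u hPL hU hT hleT hn s hs htop).mpr fun b => ?_
      obtain ⟨m, hm, τ, hτ, hτb⟩ := SymX.exists_mul_pow_eq_res hL hLq hj hW hWs a b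
      obtain ⟨s', hs₂⟩ := hbij.2 τ
      refine ⟨m, hm, s', mem_deg_of_app u hU hbij.1 (hs₂ ▸ hτ), ?_⟩
      rw [gradedAt_eq_map, gradedAt_eq_map, hs', hs₂]
      exact hτb.symm

end one

include hL hLq hj hP hPL hr hu in
/-- Relative ampleness: everywhere defined, an open immersion, dominant. -/
theorem of_isRelAmple [QuasiCompact f] (h : RelAmple.IsRelAmple f L) :
    RelProj.domQ u pL chartL = ⊤ ∧ IsOpenImmersion r ∧ IsDominant r := by
  haveI : IsSeparated f := AmpleX.isSeparated_of_ampleOn fun x => AmpleX.ampleOn_of_isRelAmple h (f x)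
  have key : ∀ x : X, ∃ (U : Y.Opens) (hU : IsAffineOpen U) (n : ℕ) (_ : 0 < n)
      (a : Γ(CohB1.tensorPow L n, f ⁻¹ᵁ U)) (s : 𝒜.presheaf.obj (op U)),
      x ∈ AmpleX.locus a ∧ IsAffineOpen (AmpleX.locus a) ∧ s ∈ 𝒜.deg U hU n ∧ (u.app U).hom s = SymX.elt j a := by
    intro x
    obtain ⟨_, ⟨U, hU, rfl⟩, hxU, -⟩ :=
      Y.isBasis_affineOpens.exists_subset_of_mem_open (Set.mem_univ (f x)) isOpen_univ
    obtain ⟨n, hn, a, hxa, -, haff⟩ := AmpleX.exists_sections_of_isRelAmple h hU hxU (U := ⊤) trivial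
    obtain ⟨s, hs, hs'⟩ := exists_preimage_elt u hL hj hU (hu U hU) a
    exact ⟨U, hU, n, hn, a, s, hxa, haff, hs, hs'⟩
  choose U hU n hn a s hxa haff hs hs' using key
  have hmem : ∀ x' : PL, ∃ z : Proj (𝒮L.deg _ (haff (pL x'))),
      RelProj.emb pL chartL _ (haff (pL x')) z = x' ∧ z ∈ Proj.basicOpen (𝒮L.deg _ (haff (pL x')))
        (u.gradedAt _ (hU (pL x')) _ (haff (pL x')) (AmpleX.locus_le _) (s (pL x'))) := by
    intro x'
    obtain ⟨z, hz⟩ := (opensRange_emb (p := pL) (chart := chartL) _ (haff (pL x'))).ge (hxa (pL x'))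
    refine ⟨z, hz, (mem_basicOpen_iff_locus u hL hLq hj hPL (hU _) (hu _ (hU _)) (hn _) (a _) (hs' _) (haff _) _ z).mpr ?_⟩
    rw [hz]
    exact hxa _
  have htop : RelProj.domQ u pL chartL = ⊤ := top_unique fun x' _ => by
    obtain ⟨z, hz, hzs⟩ := hmem x'
    exact hz ▸ emb_mem_domQ u (hU _) (haff _) _ (hn _) _ (hs _) z hzs
  refine ⟨htop, ?_, ?_⟩
  · haveI : MorphismProperty.RespectsRight @IsOpenImmersion @IsOpenImmersion :=
      ⟨fun i hi g hg => by haveI := hi; haveI := hg; infer_instance⟩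
    refine IsZariskiLocalAtTarget.of_range_subset_iSup (P := @IsOpenImmersion)
      (fun x : X => (RelProj.emb p chart (U x) (hU x)) ''ᵁ Proj.basicOpen (𝒜.deg (U x) (hU x)) (s x)) ?_ fun x => ?_
    · rintro _ ⟨x', rfl⟩
      obtain ⟨z, hz, hzs⟩ := hmem x'.1
      exact Opens.mem_iSup.mpr ⟨pL x'.1,
        (apply_mem_image_iff u (hU _) (haff _) _ (hn _) _ (hs _) hP hPL r hr x' z hz).mpr hzs⟩
    · haveI := isIso_restrict u hL hLq hj hP hPL r hr (hU x) (hu _ (hU x)) (hn x) (a x) (haff x) (hs x) (hs' x)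
      infer_instance
  · refine (isDominant_iff u hP hPL r hr).mpr fun V hV d g hd hg hne => ?_
    by_contra! hall
    refine hne ?_
    obtain ⟨k, hk⟩ : ∃ k, (u.app V).hom g ^ k = 0 := by
      classical
      choose Vx hVx hp hVsub using fun p : ((f ⁻¹ᵁ V : X.Opens) : Set X) =>
        X.isBasis_affineOpens.exists_subset_of_mem_open p.2 (f ⁻¹ᵁ V).isOpen
      have hVx' : ∀ p, ∃ (O : X.Opens) (_ : IsAffineOpen O), (O : Set X) = Vx p := fun p => by
        obtain ⟨O, hO, e⟩ := hVx p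
        exact ⟨O, hO, e⟩
      choose O hO hOe using hVx'
      have hle : ∀ p, O p ≤ f ⁻¹ᵁ V := fun p y hy => hVsub p ((hOe p).le hy)
      have hnil : ∀ p, IsNilpotent (u.gradedAt V hV (O p) (hO p) (hle p) g) := fun p =>
        (isNilpotent_iff_forall_notMem hd ((u.gradedAt V hV (O p) (hO p) (hle p)).2 hg)).mpr (hall _ _ _)
      choose k hk using hnil
      obtain ⟨S, hS⟩ := (f.isCompact_preimage hV.isCompact).elim_finite_subcover (fun p => (O p : Set X))
        (fun p => (O p).2) (fun y hy => Set.mem_iUnion.2 ⟨⟨y, hy⟩, (hOe ⟨y, hy⟩).ge (hp ⟨y, hy⟩)⟩)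
      refine ⟨S.sup k, SymX.toModule_ext (A := 𝒮L.toQCAlg) _ _ fun y hy => ?_⟩
      obtain ⟨p₀, hp₀, hy'⟩ := Set.mem_iUnion₂.1 (hS hy)
      refine ⟨O p₀, hle p₀, hy', ?_⟩
      rw [map_pow, map_zero]
      exact pow_eq_zero_of_le (Finset.le_sup hp₀) (hk p₀)
    exact ⟨k, (hu V hV).1 (by rw [map_pow, map_zero]; exact hk)⟩

end Groth.Agent.Proj16
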