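import Groth.Agent.Proj16.RLPsiRatio
import Groth.Agent.Proj16.RLSigma
import Groth.Agent.SymX.VeryAmple
import Groth.Agent.RelTildeX.Props

/-!
# An immersion given by degree one generators makes the module very ample
-/

universe u

open CategoryTheory CategoryTheory.Limits AlgebraicGeometry TopologicalSpace Opposite HomogeneousLocalization
open scoped HomogeneousIdeal

set_option backward.isDefEq.respectTransparency false
set_option backward.isDefEq.respectTransparency.types false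
set_option linter.style.haveILetI false
set_option linter.unusedSectionVars false

noncomputable section

namespace Groth.Agent.SymX

open Groth.Agent

variable {X : Scheme.{u}} {L : X.Modules} {𝒮L : RelProj.QCGrAlg X} {j : L ⟶ 𝒮L.toModule}
  (hL : PicF.IsInvertible L) (hLq : Coh.IsQCoh L) (hj : RelProj.IsGrSymAlg L 𝒮L j)

include hL hLq hj in
/-- The generating map is injective on sections. -/
theorem j_app_injective {W : X.Opens} {a a' : Γ(L, W)}
    (h : (show 𝒮L.presheaf.obj (op W) from j.app W a) = (show 𝒮L.presheaf.obj (op W) from j.app W a')) : a = a' := by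
  rw [← sub_eq_zero]
  refine AModX.eq_of_locally _ _ fun p hp => ?_
  obtain ⟨U, hpU, e, he⟩ := InvX.exists_frame hL p
  obtain ⟨_, ⟨V, hV, rfl⟩, hpV, hVsub⟩ := X.isBasis_affineOpens.exists_subset_of_mem_open
    (a := p) (u := ((U ⊓ W : X.Opens) : Set X)) ⟨hpU, hp⟩ (U ⊓ W).isOpen
  have iU : V ≤ U := fun y hy => (hVsub hy).1
  have iW : V ≤ W := fun y hy => (hVsub hy).2
  obtain ⟨c, hc⟩ := (he.res iU).exists_coord le_rfl (AModX.res L iW (a - a'))
  rw [AModX.res_self] at hc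
  refine ⟨V, iW, hpV, ?_⟩
  have h1 : (𝒮L.presheaf.map (homOfLE iW).op).hom (show 𝒮L.presheaf.obj (op W) from j.app W (a - a')) = 0 := by
    rw [show (show 𝒮L.presheaf.obj (op W) from j.app W (a - a')) =
      (show 𝒮L.presheaf.obj (op W) from j.app W a) - (show 𝒮L.presheaf.obj (op W) from j.app W a') from
        map_sub (j.app W).hom a a', h, sub_self, map_zero]
  rw [map_j, hc] at h1
  have h2 : c = 0 := coeff_eq_zero hLq hj hV (he.res iU) (N := 1) (by
    rw [pow_one]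
    exact (Scheme.Modules.Hom.app_smul j c _).symm.trans h1)
  rw [hc, h2, zero_smul, map_zero]

include hL hLq hj in
/-- A section homogeneous of degree one comes from the module. -/
theorem exists_app_eq {W : X.Opens} (τ : 𝒮L.presheaf.obj (op W)) (hτ : IsHomOn 𝒮L W 1 τ) :
    ∃ a : Γ(L, W), (show 𝒮L.presheaf.obj (op W) from j.app W a) = τ := by
  have hloc : ∀ p : (W : Set X), ∃ (V : X.Opens) (i : V ≤ W) (_ : p.1 ∈ V) (a : Γ(L, V)),
      (show 𝒮L.presheaf.obj (op V) from j.app V a) = (𝒮L.presheaf.map (homOfLE i).op).hom τ := fun p => by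
    obtain ⟨U, hpU, e, he⟩ := InvX.exists_frame hL p.1
    obtain ⟨_, ⟨V, hV, rfl⟩, hpV, hVsub⟩ := X.isBasis_affineOpens.exists_subset_of_mem_open
      (a := p.1) (u := ((U ⊓ W : X.Opens) : Set X)) ⟨hpU, p.2⟩ (U ⊓ W).isOpen
    have iU : V ≤ U := fun y hy => (hVsub hy).1
    have iW : V ≤ W := fun y hy => (hVsub hy).2
    obtain ⟨r, hr⟩ := exists_coeff hLq hj hV (he.res iU) (hτ V hV iW)
    refine ⟨V, iW, hpV, r • AModX.res L iU e, ?_⟩
    rw [hr, pow_one]
    exact Scheme.Modules.Hom.app_smul j r _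
  choose V i hp a ha using hloc
  obtain ⟨T, hT, -⟩ := AModX.existsUnique_glue (M := L) (V := W) V i
    (fun p hpW => ⟨⟨p, hpW⟩, hp ⟨p, hpW⟩⟩) a fun x y => j_app_injective hL hLq hj (by
      rw [← map_j, ← map_j, ha, ha,
        map_map (i x) (inf_le_left : V x ⊓ V y ≤ V x) ((inf_le_left : V x ⊓ V y ≤ V x).trans (i x)),
        map_map (i y) (inf_le_right : V x ⊓ V y ≤ V y) ((inf_le_left : V x ⊓ V y ≤ V x).trans (i x))])
  refine ⟨T, toModule_ext (A := 𝒮L.toQCAlg) _ _ fun p hpW => ⟨V ⟨p, hpW⟩, i _, hp _, ?_⟩⟩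
  rw [map_j, hT, ha]

end Groth.Agent.SymX

namespace Groth.Agent.Proj16

open Groth.Agent

variable {Y X P PL : Scheme.{u}} {q : X ⟶ Y} {L : X.Modules} {𝒮 : RelProj.QCGrAlg Y} {𝒮L : RelProj.QCGrAlg X}
  {j : L ⟶ 𝒮L.toModule} {p : P ⟶ Y} {pL : PL ⟶ X}
  {chart : ∀ (U : Y.Opens) (hU : IsAffineOpen U), (((p ⁻¹ᵁ U : P.Opens) : Scheme.{u}) ≅ Proj (𝒮.deg U hU))}
  {chartL : ∀ (U : X.Opens) (hU : IsAffineOpen U), (((pL ⁻¹ᵁ U : PL.Opens) : Scheme.{u}) ≅ Proj (𝒮L.deg U hU))}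
  (hL : PicF.IsInvertible L) (hLq : Coh.IsQCoh L) (hj : RelProj.IsGrSymAlg L 𝒮L j)
  (u : RelProj.QGrHom q 𝒮 𝒮L) (hP : RelProj.IsRelProj 𝒮 p chart) (hPL : RelProj.IsRelProj 𝒮L pL chartL)
  (r : (RelProj.domQ u pL chartL : Scheme.{u}) ⟶ P)
  (hr : RelProj.IsProjQMapOn u p chart pL chartL (RelProj.domQ u pL chartL) r)

include hL hLq hj in
/-- The map on degree one parts, with values in the module. -/
theorem exists_theta : ∃ (π : 𝒮.toModule ⟶ 𝒮.toModule) (θ : 𝒮.toModule ⟶ (Scheme.Modules.pushforward q).obj L),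
    ∀ (U : Y.Opens) (hU : IsAffineOpen U) (x : 𝒮.presheaf.obj (op U)),
      (show 𝒮.presheaf.obj (op U) from π.app U x) = (DirectSum.decompose (𝒮.deg U hU) x 1 : 𝒮.presheaf.obj (op U)) ∧
      (show 𝒮L.presheaf.obj (op (q ⁻¹ᵁ U)) from j.app (q ⁻¹ᵁ U) (SymX.th q θ x)) =
        (u.app U).hom (show 𝒮.presheaf.obj (op U) from π.app U x) := by
  obtain ⟨π, hπ⟩ := SymX.exists_degOne 𝒮
  have hh : ∀ (a : Y.AffineZariskiSite) (x : Γ(𝒮.toModule, a.1)), ∃ l : Γ(L, q ⁻¹ᵁ a.1),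
      (show 𝒮L.presheaf.obj (op (q ⁻¹ᵁ a.1)) from j.app (q ⁻¹ᵁ a.1) l) =
        (u.app a.1).hom (show 𝒮.presheaf.obj (op a.1) from π.app a.1 x) := fun a x =>
    SymX.exists_app_eq hL hLq hj _ (isHomOn_app u a.2 (by rw [hπ a.1 a.2]; exact SetLike.coe_mem _))
  choose l hl using hh
  let f : ∀ a : Y.AffineZariskiSite, Γ(𝒮.toModule, a.1) →ₗ[Γ(Y, a.1)] Γ((Scheme.Modules.pushforward q).obj L, a.1) :=
    fun a =>
    { toFun := fun x => l a x
      map_add' := fun x y => SymX.j_app_injective hL hLq hj (by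
        refine (hl a (x + y)).trans ?_
        refine Eq.trans ?_ (map_add (j.app (q ⁻¹ᵁ a.1)).hom (l a x) (l a y)).symm
        refine Eq.trans ?_ (congrArg₂ (fun z w => SymX.ofA (A := 𝒮L.toQCAlg) z + SymX.ofA (A := 𝒮L.toQCAlg) w) (hl a x) (hl a y)).symm
        exact (congrArg (u.app a.1).hom (map_add (π.app a.1).hom x y)).trans (map_add (u.app a.1).hom _ _))
      map_smul' := fun r x => SymX.j_app_injective (W := q ⁻¹ᵁ a.1) hL hLq hj (by
        refine (hl a (r • x)).trans ?_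
        refine Eq.trans ?_ (Scheme.Modules.Hom.app_smul j (q.app a.1 r) (l a x)).symm
        refine Eq.trans ?_ (congrArg (fun z => (𝒮L.str.app (op (q ⁻¹ᵁ a.1))).hom (q.app a.1 r) * z) (hl a x)).symm
        refine (congrArg (u.app a.1).hom (Scheme.Modules.Hom.app_smul π r x)).trans ?_
        refine (map_mul (u.app a.1).hom _ _).trans ?_
        exact congrArg (· * _) (ConcreteCategory.congr_hom (u.str_app a.1) r)) }
  obtain ⟨θ, hθ⟩ := SymX.exists_homModule 𝒮.toModule ((Scheme.Modules.pushforward q).obj L) f fun {a b} h x => by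
    refine SymX.j_app_injective (W := q ⁻¹ᵁ b.1) hL hLq hj ((hl b _).trans ?_)
    refine Eq.trans ?_ (SymX.map_j (q.preimage_mono (Scheme.AffineZariskiSite.toOpens_mono h)) (l a x))
    rw [hl]
    refine Eq.trans (congrArg (u.app b.1).hom (AModX.app_res π (Scheme.AffineZariskiSite.toOpens_mono h) x)) ?_
    exact (ConcreteCategory.congr_hom (u.naturality (Scheme.AffineZariskiSite.toOpens_mono h)) _).symm
  exact ⟨π, θ, fun U hU x => ⟨hπ U hU x, (congrArg (fun z => (show 𝒮L.presheaf.obj (op (q ⁻¹ᵁ U)) from j.app (q ⁻¹ᵁ U) z))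
    (hθ ⟨U, hU⟩ x)).trans (hl ⟨U, hU⟩ x)⟩⟩

include hL hLq hj hP hPL hr in
/-- If the induced morphism is an immersion and the degree one part generates, the module is very ample. -/
theorem isRelVeryAmple_of_isImmersion (hgen : 𝒮.IsGenDegOne)
    (h0 : ∀ (U : Y.Opens) (hU : IsAffineOpen U),
      ((𝒮.deg U hU 0 : AddSubgroup (𝒮.presheaf.obj (op U))) : Set (𝒮.presheaf.obj (op U))) = Set.range (𝒮.str.app (op U)).hom)
    (hsurj : ∀ x : X, ∃ (U : Y.Opens) (hU : IsAffineOpen U) (e : 𝒮.presheaf.obj (op U)) (_ : e ∈ 𝒮.deg U hU 1)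
      (V : X.Opens) (hV : IsAffineOpen V) (hVU : V ≤ q ⁻¹ᵁ U), x ∈ V ∧
        ((𝒮L.deg V hV 1 : AddSubgroup (𝒮L.presheaf.obj (op V))) : Set (𝒮L.presheaf.obj (op V))) ⊆
          (Ideal.span {(u.appLE U V hVU).hom e} : Set (𝒮L.presheaf.obj (op V))))
    (himm : IsImmersion r) : RelProj.IsRelVeryAmple q L := by
  haveI : IsIso pL := SymX.isIso_relProj hL hLq hj pL chartL hPL
  obtain ⟨π, θ, hθ⟩ := exists_theta hL hLq hj u
  refine SymX.isRelVeryAmple_of_immPoints (θ := θ) (QCoh.isQCoh_toModule 𝒮.toQCAlg) fun x => ?_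
  obtain ⟨U, hU, e, he, V₀, hV₀, hVU, hxV, hsub⟩ := hsurj x
  have hth : ∀ (m : 𝒮.presheaf.obj (op U)), m ∈ 𝒮.deg U hU 1 →
      ∀ (V : X.Opens) (hV : IsAffineOpen V) (hle : V ≤ q ⁻¹ᵁ U), u.gradedAt U hU V hV hle m =
        (show 𝒮L.presheaf.obj (op V) from j.app V (AModX.res L hle (SymX.th q θ m))) := by
    intro m hm V hV hle
    obtain ⟨h1, h2⟩ := hθ U hU m
    rw [← SymX.map_j, h2, h1, DirectSum.decompose_of_mem_same _ hm]
    rfl
  let T := AmpleX.locus (SymX.th q θ e)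
  have hmem : ∀ (V : X.Opens) (hV : IsAffineOpen V) (hle : V ≤ q ⁻¹ᵁ U) (z : Proj (𝒮L.deg V hV)),
      z ∈ Proj.basicOpen (𝒮L.deg V hV) (u.gradedAt U hU V hV hle e) ↔ pL (RelProj.emb pL chartL V hV z) ∈ T := by
    intro V hV hle z
    have h1 := SymX.mem_basicOpen_elt_iff hL hLq hj hPL Nat.one_pos hV hle (AmpleX.powElt (SymX.th q θ e) 1) z
    rw [SymX.elt_powElt, pow_one, SymX.map_j, ← hth e he V hV hle, locus_pow_one hL] at h1
    exact h1
  have hxT : x ∈ T := by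
    have hpx : pL ((CategoryTheory.inv pL) x) = x := by
      rw [← Scheme.Hom.comp_apply, IsIso.inv_hom_id]; rfl
    obtain ⟨z, hz⟩ := (opensRange_emb (p := pL) (chart := chartL) V₀ hV₀).ge
      (show (CategoryTheory.inv pL) x ∈ pL ⁻¹ᵁ V₀ from (hpx.symm ▸ hxV : pL _ ∈ V₀))
    rw [← hpx, ← hz, ← hmem V₀ hV₀ hVU z]
    refine (ProjectiveSpectrum.mem_basicOpen _ _ z).2 fun hez => z.not_irrelevant_le ?_
    show ((𝒮L.deg V₀ hV₀)₊).toIdeal ≤ z.asHomogeneousIdeal.toIdeal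
    rw [RelTildeX.irrelevant_eq_span_deg_one (SymX.isGenDegOne_of_isGrSymAlg hLq hj) V₀ hV₀, Ideal.span_le]
    intro y hy
    exact (Ideal.span_singleton_le_iff_mem (I := z.asHomogeneousIdeal.toIdeal)).2 hez (hsub hy)
  refine ⟨U, hU, e, hxT, ?_⟩
  have hTU : T ≤ q ⁻¹ᵁ U := AmpleX.locus_le _
  have hover : ∀ y : (RelProj.domQ u pL chartL : Scheme.{u}),
      r y ∈ (RelProj.emb p chart U hU) ''ᵁ Proj.basicOpen (𝒮.deg U hU) e ↔ pL y.1 ∈ T := by
    intro y
    constructor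
    · intro hy
      have hyq : q (pL y.1) ∈ U := by
        obtain ⟨y', -, hyy⟩ := hy
        have e := congrArg (fun k : (RelProj.domQ u pL chartL : Scheme.{u}) ⟶ Y => k y)
          ((existsUnique_projQMapOn u hP hPL).2 r hr)
        exact (show p (r y) = q (pL y.1) from e) ▸ (opensRange_emb (p := p) (chart := chart) U hU).le ⟨y', hyy⟩
      obtain ⟨_, ⟨V, hV, rfl⟩, hyV, hVsub⟩ := X.isBasis_affineOpens.exists_subset_of_mem_open
        (a := pL y.1) (u := ((q ⁻¹ᵁ U : X.Opens) : Set X)) hyq (q ⁻¹ᵁ U).isOpen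
      obtain ⟨z, hz⟩ := (opensRange_emb (p := pL) (chart := chartL) V hV).ge hyV
      rw [← hz]
      exact (hmem V hV hVsub z).mp ((apply_mem_image_iff u hU hV hVsub Nat.one_pos _ he hP hPL r hr y z hz).mp hy)
    · intro hy
      obtain ⟨_, ⟨V, hV, rfl⟩, hyV, hVsub⟩ := X.isBasis_affineOpens.exists_subset_of_mem_open
        (a := pL y.1) (u := ((q ⁻¹ᵁ U : X.Opens) : Set X)) (hTU hy) (q ⁻¹ᵁ U).isOpen
      obtain ⟨z, hz⟩ := (opensRange_emb (p := pL) (chart := chartL) V hV).ge hyV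
      refine (apply_mem_image_iff u hU hV hVsub Nat.one_pos _ he hP hPL r hr y z hz).mpr ((hmem V hV hVsub z).mpr ?_)
      rw [hz]; exact hy
  have hdom : pL ⁻¹ᵁ T ≤ RelProj.domQ u pL chartL := by
    intro y hy
    obtain ⟨_, ⟨V, hV, rfl⟩, hyV, hVsub⟩ := X.isBasis_affineOpens.exists_subset_of_mem_open
      (a := pL y) (u := ((q ⁻¹ᵁ U : X.Opens) : Set X)) (hTU hy) (q ⁻¹ᵁ U).isOpen
    obtain ⟨z, hz⟩ := (opensRange_emb (p := pL) (chart := chartL) V hV).ge hyV
    exact hz ▸ emb_mem_domQ u hU hV hVsub Nat.one_pos _ he z ((hmem V hV hVsub z).mpr (by rw [hz]; exact hy))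
  obtain ⟨ψ, -, h2, h3⟩ := exists_ratioMap hL hLq hj u hPL r hr hU Nat.one_pos e he T hTU hdom hover
    (fun V hV hle => top_unique fun z _ => (hmem V hV _ z).mpr
      (hle ((opensRange_emb (p := pL) (chart := chartL) V hV).le ⟨z, rfl⟩)))
  haveI := h2 himm
  let R := Subring.closure (SymX.ratioSet q θ e)
  let Good : ℕ → 𝒮.presheaf.obj (op U) → Prop := fun k s' => ∃ b ∈ R, ∀ (V : X.Opens) (hV : IsAffineOpen V) (hle : V ≤ T),
    (𝒮L.str.app (op V)).hom (AModX.resR hle b) * u.gradedAt U hU V hV (hle.trans hTU) e ^ k =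
      u.gradedAt U hU V hV (hle.trans hTU) s'
  have hzero : ∀ k, Good k 0 := fun k => ⟨0, zero_mem R, fun V hV hle => by simp⟩
  have hbase : ∀ s' ∈ 𝒮.deg U hU 0, Good 0 s' := fun s' hs' => by
    obtain ⟨c, rfl⟩ : s' ∈ Set.range (𝒮.str.app (op U)).hom := by rw [← h0 U hU]; exact hs'
    refine ⟨AModX.resR hTU (q.app U c), Subring.subset_closure (Or.inl ⟨c, rfl⟩), fun V hV hle => ?_⟩
    rw [pow_zero, mul_one, AModX.resR_resR]
    show _ = (𝒮L.presheaf.map (homOfLE _).op).hom ((u.app U).hom ((𝒮.str.app (op U)).hom c))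
    rw [show (u.app U).hom ((𝒮.str.app (op U)).hom c) =
      (𝒮L.str.app (op (q ⁻¹ᵁ U))).hom (q.app U c) from ConcreteCategory.congr_hom (u.str_app U) c, SymX.map_str]
  have hone : ∀ s' ∈ 𝒮.deg U hU 1, Good 1 s' := fun s' hs' => by
    obtain ⟨b, hb⟩ := (AmpleX.isFrame_res_locus (SymX.th q θ e)).exists_coord le_rfl
      (AModX.res L hTU (SymX.th q θ s'))
    rw [AModX.res_self] at hb
    refine ⟨b, Subring.subset_closure (Or.inr ⟨s', hb⟩), fun V hV hle => ?_⟩
    rw [pow_one, hth e he, hth s' hs']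
    have h2 := congrArg (AModX.res L hle) hb
    rw [AModX.res_res, AModX.res_smul, AModX.res_res] at h2
    rw [h2]
    exact (Scheme.Modules.Hom.app_smul j _ _).symm
  have hmon : ∀ s' ∈ Submonoid.closure ((𝒮.deg U hU 0 : Set (𝒮.presheaf.obj (op U))) ∪ 𝒮.deg U hU 1),
      ∃ n, s' ∈ 𝒮.deg U hU n ∧ Good n s' := fun s' hs' => by
    induction hs' using Submonoid.closure_induction with
    | mem y hy =>
      rcases hy with hy | hy
      · exact ⟨0, hy, hbase y hy⟩
      · exact ⟨1, hy, hone y hy⟩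
    | one => exact ⟨0, SetLike.one_mem_graded _, hbase 1 (SetLike.one_mem_graded _)⟩
    | mul a b _ _ iha ihb =>
      obtain ⟨n, ha, c, hc, hc'⟩ := iha
      obtain ⟨m, hb, d, hd, hd'⟩ := ihb
      refine ⟨n + m, SetLike.mul_mem_graded ha hb, c * d, mul_mem hc hd, fun V hV hle => ?_⟩
      rw [map_mul (AModX.resR hle), map_mul, pow_add, mul_mul_mul_comm, hc', hd', map_mul]
  have hall : ∀ (y : 𝒮.presheaf.obj (op U)) (k : ℕ), Good k (DirectSum.decompose (𝒮.deg U hU) y k : 𝒮.presheaf.obj (op U)) := by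
    intro y
    have hy : y ∈ (⊤ : Subring (𝒮.presheaf.obj (op U))) := trivial
    rw [← hgen U hU, Subring.mem_closure_iff] at hy
    induction hy using AddSubgroup.closure_induction with
    | mem z hz =>
      obtain ⟨n, hn, hz'⟩ := hmon z hz
      intro k
      by_cases hk : n = k
      · subst hk; rw [DirectSum.decompose_of_mem_same _ hn]; exact hz'
      · rw [DirectSum.decompose_of_mem_ne _ hn hk]; exact hzero k
    | zero => intro k; rw [DirectSum.decompose_zero]; exact hzero k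
    | add a b _ _ iha ihb =>
      intro k
      obtain ⟨c, hc, hc'⟩ := iha k
      obtain ⟨d, hd, hd'⟩ := ihb k
      refine ⟨c + d, add_mem hc hd, fun V hV hle => ?_⟩
      rw [DirectSum.decompose_add, DirectSum.add_apply, AddMemClass.coe_add, map_add (AModX.resR hle), map_add,
        add_mul, hc', hd', map_add]
    | neg a _ iha =>
      intro k
      obtain ⟨c, hc, hc'⟩ := iha k
      refine ⟨-c, neg_mem hc, fun V hV hle => ?_⟩
      rw [DirectSum.decompose_neg, DFinsupp.neg_apply, NegMemClass.coe_neg, map_neg (AModX.resR hle), map_neg,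
        neg_mul, hc', map_neg]
  refine SymX.isImmersion_subSpec_of_hom T ψ R fun a => ?_
  obtain ⟨k, s', hs', rfl⟩ := Away.mk_surjective (𝒮.deg U hU) he a
  obtain ⟨b, hb, hb'⟩ := hall s' k
  have hs'' : s' ∈ 𝒮.deg U hU k := by simpa only [smul_eq_mul, mul_one] using hs'
  rw [DirectSum.decompose_of_mem_same _ hs''] at hb'
  rw [h3 b k s' hs' hb']
  exact hb

end Groth.Agent.Proj16
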